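import Mathlib

/-!
# Consequences of the odd order theorem: the hypothesis

Every result under `Lib/FTDeps` takes the odd order theorem as the hypothesis `OddOrderSolvable`.
-/

set_option autoImplicit false

namespace Cfsg.Agent.Lib.FTDeps.Basic

universe u

/-- The statement of the odd order theorem. -/
def OddOrderSolvable : Prop :=
  ∀ (H : Type u) [Group H] [Finite H], Odd (Nat.card H) → Group.IsSolvable H

end Cfsg.Agent.Lib.FTDeps.Basic
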