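import Mathlib
import Cfsg.Agent.Lib.FTDeps.Basic
import Cfsg.Agent.Lib.FTDeps.Goldschmidt.Core

/-!
# S1329 modulo the odd order theorem
-/

set_option autoImplicit false
set_option maxHeartbeats 1600000
set_option linter.style.haveILetI false

open Subgroup
open scoped commutatorElement

namespace Cfsg.Agent.Lib.FTDeps.Row1329

open Goldschmidt

universe u

variable {G : Type u} [Group G]

/-- The commutative group structure of an abelian subgroup. -/
@[reducible]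
def commGroupOf (A : Subgroup G) (hAc : IsMulCommutative A) : CommGroup A :=
  { (inferInstance : Group A) with mul_comm := hAc.is_comm.comm }

theorem cyclic_self (B : Subgroup G) [(B.subgroupOf B).Normal] :
    IsCyclic (↥B ⧸ B.subgroupOf B) := by
  haveI : Subsingleton (↥B ⧸ B.subgroupOf B) :=
    QuotientGroup.subsingleton_iff.2 (Subgroup.subgroupOf_self B)
  infer_instance

theorem cyclic_inf {A B : Subgroup G} [IsMulCommutative A] (hB : B ≤ A) {H : Subgroup A} {a : A}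
    (ha : H ⊔ zpowers a = ⊤) [((B ⊓ H.map A.subtype).subgroupOf B).Normal] :
    IsCyclic (↥B ⧸ (B ⊓ H.map A.subtype).subgroupOf B) := by
  haveI hHn : H.Normal := ⟨fun x hx g => by rwa [mul_comm' g x, mul_inv_cancel_right]⟩
  haveI : IsCyclic (A ⧸ H) := by
    refine ⟨QuotientGroup.mk' H a, fun z => ?_⟩
    obtain ⟨b, rfl⟩ := QuotientGroup.mk'_surjective H z
    have hb : b ∈ ((H ⊔ zpowers a : Subgroup A) : Set A) := ha ▸ mem_top b
    rw [Subgroup.normal_mul] at hb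
    obtain ⟨h, hh, c, hc, rfl⟩ := hb
    obtain ⟨k, rfl⟩ := hc
    refine ⟨k, ?_⟩
    show (QuotientGroup.mk' H a) ^ k = QuotientGroup.mk' H (h * a ^ k)
    rw [map_mul, map_zpow, show QuotientGroup.mk' H h = 1 from (QuotientGroup.eq_one_iff h).2 hh,
      one_mul]
  refine isCyclic_of_injective (QuotientGroup.lift _
    ((QuotientGroup.mk' H).comp (Subgroup.inclusion hB)) ?_) ?_
  · intro b hb
    obtain ⟨h, hh, he⟩ := (mem_inf.1 (hb : (b : G) ∈ B ⊓ H.map A.subtype)).2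
    refine (QuotientGroup.eq_one_iff _).2 ?_
    rwa [show Subgroup.inclusion hB b = h from Subtype.ext he.symm]
  · rw [injective_iff_map_eq_one]
    intro z
    obtain ⟨b, rfl⟩ := QuotientGroup.mk'_surjective _ z
    intro hz
    exact (QuotientGroup.eq_one_iff b).2 (mem_inf.2
      ⟨b.2, ⟨Subgroup.inclusion hB b, (QuotientGroup.eq_one_iff _).1 hz, rfl⟩⟩)

/-- S1329 given the odd order theorem. -/
theorem main [Finite G] (hFT : Basic.OddOrderSolvable.{u}) (A B Y : Subgroup G)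
    (hA2 : IsPGroup 2 ↥A) (hAc : IsMulCommutative ↥A) (hB : B ≤ A) (hYodd : Odd (Nat.card ↥Y))
    (hAY : A ≤ Subgroup.normalizer (Y : Set G)) (hYA : ⁅Y, A⁆ = Y) :
    Y ⊓ Subgroup.centralizer (B : Set G) =
      ⨆ B₀ : {B₀ : Subgroup G // B₀ ≤ B ∧
          ∀ [(B₀.subgroupOf B).Normal], IsCyclic (↥B ⧸ B₀.subgroupOf B)},
        Y ⊓ Subgroup.centralizer (B : Set G) ⊓
          ⁅Y ⊓ Subgroup.centralizer ((B₀ : Subgroup G) : Set G), A⁆ := by
  classical
  letI : CommGroup A := commGroupOf A hAc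
  letI : MulDistribMulAction A Y :=
    MulDistribMulAction.compHom Y ((Y.normalizerMonoidHom).comp (Subgroup.inclusion hAY))
  have hsmul : ∀ (a : A) (y : Y), ((a • y : Y) : G) = a * y * (a : G)⁻¹ := fun a y => rfl
  have hcop : (Nat.card A).Coprime (Nat.card Y) := by
    obtain ⟨k, hk⟩ := IsPGroup.iff_card.1 hA2
    rw [hk]
    exact (Nat.coprime_two_left.2 hYodd).pow_left k
  haveI : Group.IsSolvable Y := hFT Y hYodd
  have hcent : ∀ (H : Subgroup G), H ≤ A → ∀ y : Y,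
      (y : G) ∈ centralizer (H : Set G) ↔ y ∈ Basic.fixH Y (H.subgroupOf A) := by
    intro H hH y
    rw [mem_centralizer_iff]
    constructor
    · intro h a ha
      refine Subtype.ext ?_
      rw [hsmul, show (a : G) * y = y * a from h _ ha, mul_inv_cancel_right]
    · intro h b hb
      have := congrArg Subtype.val (h ⟨b, hH hb⟩ hb)
      rw [hsmul] at this
      exact mul_inv_eq_iff_eq_mul.1 this
  have hbr : ∀ (H : Subgroup G), H ≤ A →
      (Basic.br (⊤ : Subgroup A) (Basic.fixH Y (H.subgroupOf A))).map Y.subtype ≤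
        ⁅Y ⊓ centralizer (H : Set G), A⁆ := by
    intro H hH
    rw [Basic.br, MonoidHom.map_closure, closure_le]
    rintro _ ⟨_, ⟨a, _, x, hx, rfl⟩, rfl⟩
    show (x : G)⁻¹ * ((a • x : Y) : G) ∈ _
    rw [hsmul]
    have := commutator_mem_commutator
      (inv_mem (mem_inf.2 ⟨x.2, (hcent H hH x).2 hx⟩) : (x : G)⁻¹ ∈ Y ⊓ centralizer (H : Set G)) a.2
    rw [commutatorElement_def, inv_inv] at this
    simpa [mul_assoc] using this
  have htop : Basic.br (⊤ : Subgroup A) (⊤ : Subgroup Y) = ⊤ := by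
    have h : ⁅Y, A⁆ ≤ (Basic.br (⊤ : Subgroup A) (⊤ : Subgroup Y)).map Y.subtype := by
      refine commutator_le.2 fun y hy a ha => ?_
      refine ⟨(⟨y⁻¹, inv_mem hy⟩ : Y)⁻¹ * (⟨a, ha⟩ : A) • (⟨y⁻¹, inv_mem hy⟩ : Y),
        Basic.mem_br (mem_top _) (mem_top _), ?_⟩
      show ((⟨y⁻¹, inv_mem hy⟩ : Y) : G)⁻¹ * (((⟨a, ha⟩ : A) • (⟨y⁻¹, inv_mem hy⟩ : Y) : Y) : G) = _
      rw [hsmul, commutatorElement_def]
      group
    rw [eq_top_iff]
    intro y _
    rw [hYA] at h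
    exact (mem_map_iff_mem Y.subtype_injective).1 (h y.2)
  refine le_antisymm ?_ (iSup_le fun _ => inf_le_left)
  intro y hy
  obtain ⟨hyY, hyB⟩ := mem_inf.1 hy
  obtain ⟨n, hn, hc⟩ := Basic.exists_fixed_br hcop (⊤ : Subgroup A)
    (fun a x hx => Basic.smul_mem_fixH _ hx a) ((hcent B hB ⟨y, hyY⟩).1 hyB)
  obtain ⟨hcB, hcA⟩ := mem_inf.1 hc
  set R := ⨆ B₀ : {B₀ : Subgroup G // B₀ ≤ B ∧
          ∀ [(B₀.subgroupOf B).Normal], IsCyclic (↥B ⧸ B₀.subgroupOf B)},
        Y ⊓ Subgroup.centralizer (B : Set G) ⊓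
          ⁅Y ⊓ Subgroup.centralizer ((B₀ : Subgroup G) : Set G), A⁆ with hR
  have hnB : n ∈ Basic.fixH Y (B.subgroupOf A) :=
    Basic.br_le (fun a x hx => Basic.smul_mem_fixH _ hx a) hn
  have hnR : (n : G) ∈ R := by
    exact le_iSup (fun B₀ : {B₀ : Subgroup G // B₀ ≤ B ∧
        ∀ [(B₀.subgroupOf B).Normal], IsCyclic (↥B ⧸ B₀.subgroupOf B)} =>
        Y ⊓ Subgroup.centralizer (B : Set G) ⊓
          ⁅Y ⊓ Subgroup.centralizer ((B₀ : Subgroup G) : Set G), A⁆)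
      ⟨B, le_rfl, @cyclic_self _ _ B⟩
      (mem_inf.2 ⟨mem_inf.2 ⟨n.2, (hcent B hB n).2 hnB⟩, hbr B hB ⟨n, hn, rfl⟩⟩)
  have hcR : ((⟨y, hyY⟩ * n : Y) : G) ∈ R := by
    have hgen : (Basic.gen A Y).map Y.subtype ≤ R := by
      rw [Basic.gen]
      simp only [Subgroup.map_iSup]
      refine iSup₂_le fun H hH => ?_
      rintro _ ⟨x, hx, rfl⟩
      obtain ⟨hxf, hxb⟩ := mem_inf.1 hx
      set B₀ := B ⊓ H.map A.subtype with hB₀
      have hB₀A : B₀ ≤ A := inf_le_left.trans hB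
      obtain ⟨a, ha⟩ := hH
      refine le_iSup (fun B₀ : {B₀ : Subgroup G // B₀ ≤ B ∧
          ∀ [(B₀.subgroupOf B).Normal], IsCyclic (↥B ⧸ B₀.subgroupOf B)} =>
          Y ⊓ Subgroup.centralizer (B : Set G) ⊓
            ⁅Y ⊓ Subgroup.centralizer ((B₀ : Subgroup G) : Set G), A⁆)
        ⟨B₀, inf_le_left, @cyclic_inf _ _ A B hAc hB H a ha⟩ (mem_inf.2 ⟨mem_inf.2 ⟨x.2, ?_⟩, ?_⟩)
      · exact (hcent B hB x).2 (Basic.fixH_anti le_top hxf)
      · refine hbr B₀ hB₀A ⟨x, Basic.br_mono (Basic.fixH_anti ?_) hxb, rfl⟩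
        intro b hb
        obtain ⟨h, hh, he⟩ := (mem_inf.1 (hb : (b : G) ∈ B₀)).2
        rwa [show b = h from Subtype.ext he.symm]
    exact hgen ⟨_, Core.fixed_le_gen _ Y rfl inferInstance hcop htop hcA, rfl⟩
  have := mul_mem hcR (inv_mem hnR)
  simpa using this

end Cfsg.Agent.Lib.FTDeps.Row1329
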