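import Mathlib
import Cfsg.Prelude.Def_Balance
import Cfsg.Agent.S1328
import Cfsg.Agent.Lib.Balance.Basic
import Cfsg.Agent.Lib.Components.PComponent
import Cfsg.Agent.Lib.Coprime.Commutator
import Cfsg.Agent.Lib.FTDeps.Row1329

/-!
# S1330 modulo the odd order theorem: Goldschmidt's functor
-/

set_option autoImplicit false
set_option linter.style.haveILetI false
set_option linter.unusedSectionVars false
set_option linter.unusedSimpArgs false

open Cfsg Subgroup
open scoped commutatorElement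

namespace Cfsg.Agent.Lib.FTDeps.Row1330

universe u

variable {G : Type u} [Group G] [Finite G]

/-- The core of the centralizer of an element. -/
abbrev K (a : G) : Subgroup G := centralizerPPrimeCore 2 a

/-- The core of the centralizer of a subgroup. -/
abbrev J (B : Subgroup G) : Subgroup G := Balance.coreIn 2 (centralizer (B : Set G))

theorem odd_K (a : G) : Odd (Nat.card (K a)) :=
  Nat.coprime_two_right.1 (Balance.coreIn_coprime (p := 2) (centralizer ({a} : Set G)))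

/-- Subgroups of the centralizer normalize the core. -/
theorem le_normalizer_K {B : Subgroup G} {a : G} (h : ∀ x ∈ B, x * a = a * x) :
    B ≤ normalizer (K a : Set G) := fun x hx =>
  Balance.centralizer_le_normalizer_centralizerPPrimeCore a
    (mem_centralizer_singleton_iff.2 (h x hx))

theorem coprime_of_four {B M : Subgroup G} (hB : Nat.card B ∣ 4) (hM : Odd (Nat.card M)) :
    (Nat.card B).Coprime (Nat.card M) :=
  (Nat.Coprime.pow_left 2 (Nat.coprime_two_left.2 hM)).coprime_dvd_left hB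

theorem mem_sup_iff_of_normalizes {N D : Subgroup G} (h : D ≤ normalizer (N : Set G)) {x : G}
    (hx : x ∈ N ⊔ D) : ∃ n ∈ N, ∃ d ∈ D, x = n * d := by
  rw [sup_eq_closure] at hx
  induction hx using closure_induction with
  | mem y hy =>
    rcases hy with hy | hy
    · exact ⟨y, hy, 1, one_mem _, (mul_one y).symm⟩
    · exact ⟨1, one_mem _, y, hy, (one_mul y).symm⟩
  | one => exact ⟨1, one_mem _, 1, one_mem _, (one_mul 1).symm⟩
  | mul y z _ _ h1 h2 =>
    obtain ⟨n, hn, d, hd, rfl⟩ := h1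
    obtain ⟨n', hn', d', hd', rfl⟩ := h2
    exact ⟨n * (d * n' * d⁻¹), mul_mem hn ((mem_normalizer_iff.1 (h hd) n').1 hn'), d * d',
      mul_mem hd hd', by group⟩
  | inv y _ h1 =>
    obtain ⟨n, hn, d, hd, rfl⟩ := h1
    exact ⟨d⁻¹ * n⁻¹ * d⁻¹⁻¹, (mem_normalizer_iff.1 (h (inv_mem hd)) n⁻¹).1 (inv_mem hn), d⁻¹,
      inv_mem hd, by group⟩

/-- The data: two four-subgroups, symmetric in the two. -/
structure Pair (A₁ A₂ : Subgroup G) : Prop where
  el₁ : IsElementaryAbelian 2 A₁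
  el₂ : IsElementaryAbelian 2 A₂
  c₁ : Nat.card A₁ = 4
  c₂ : Nat.card A₂ = 4
  comm : ∀ x ∈ A₁, ∀ y ∈ A₂, x * y = y * x
  sep : ∀ a ∈ A₁ ⊔ A₂, a ≠ 1 → ∀ E : Subgroup ↥(centralizer ({a} : Set G)), IsPComponent 2 E →
    ⁅E.map (centralizer ({a} : Set G)).subtype, A₁⁆ ≤ centralizerPPrimeCore 2 a ∨
    ⁅E.map (centralizer ({a} : Set G)).subtype, A₂⁆ ≤ centralizerPPrimeCore 2 a

theorem Pair.symm {A₁ A₂ : Subgroup G} (h : Pair A₁ A₂) : Pair A₂ A₁ where
  el₁ := h.el₂
  el₂ := h.el₁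
  c₁ := h.c₂
  c₂ := h.c₁
  comm x hx y hy := (h.comm y hy x hx).symm
  sep a ha h1 E hE := (h.sep a (sup_comm A₂ A₁ ▸ ha) h1 E hE).symm

variable {A₁ A₂ : Subgroup G}

theorem Pair.comm_sup (h : Pair A₁ A₂) {x y : G} (hx : x ∈ A₁ ⊔ A₂) (hy : y ∈ A₁ ⊔ A₂) :
    x * y = y * x := by
  have key : A₁ ⊔ A₂ ≤ centralizer ((A₁ ⊔ A₂ : Subgroup G) : Set G) := by
    have h1 : ∀ z ∈ A₁ ⊔ A₂, ∀ w, (w ∈ A₁ ∨ w ∈ A₂) → z * w = w * z := by
      intro z hz w hw
      have hw' : z ∈ centralizer ({w} : Set G) := by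
        refine (sup_le (fun u hu => ?_) (fun u hu => ?_) : A₁ ⊔ A₂ ≤ _) hz
        · refine mem_centralizer_singleton_iff.2 ?_
          rcases hw with hw | hw
          · exact congrArg Subtype.val (h.el₁.1.is_comm.comm (⟨u, hu⟩ : A₁) ⟨w, hw⟩)
          · exact h.comm u hu w hw
        · refine mem_centralizer_singleton_iff.2 ?_
          rcases hw with hw | hw
          · exact (h.comm w hw u hu).symm
          · exact congrArg Subtype.val (h.el₂.1.is_comm.comm (⟨u, hu⟩ : A₂) ⟨w, hw⟩)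
      exact mem_centralizer_singleton_iff.1 hw'
    refine sup_le (fun w hw => ?_) (fun w hw => ?_) <;>
      refine mem_centralizer_iff.2 fun z hz => ?_
    · exact h1 z hz w (Or.inl hw)
    · exact h1 z hz w (Or.inr hw)
  exact (mem_centralizer_iff.1 (key hx) y hy).symm

theorem Pair.sq (h : Pair A₁ A₂) {x : G} (hx : x ∈ A₁ ⊔ A₂) : x ^ 2 = 1 := by
  obtain ⟨u, hu, v, hv, rfl⟩ := mem_sup_iff_of_normalizes (fun v hv => mem_normalizer_iff.2 fun u => by
    constructor
    · intro hu; rwa [← h.comm u hu v hv, mul_inv_cancel_right]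
    · intro hu
      have := h.comm _ hu v hv
      rwa [show u = v⁻¹ * ((v * u * v⁻¹) * v) by group, this, ← mul_assoc, inv_mul_cancel,
        one_mul]) hx
  rw [(show Commute u v from h.comm u hu v hv).mul_pow, h.el₁.2 u hu, h.el₂.2 v hv, one_mul]

theorem Pair.orderOf_eq (h : Pair A₁ A₂) {x : G} (hx : x ∈ A₁ ⊔ A₂) (h1 : x ≠ 1) :
    orderOf x = 2 :=
  orderOf_eq_prime (h.sq hx) h1

theorem Pair.le_centralizer (h : Pair A₁ A₂) {b : G} (hb : b ∈ A₁ ⊔ A₂) :
    A₁ ⊔ A₂ ≤ centralizer ({b} : Set G) :=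
  fun _ hx => mem_centralizer_singleton_iff.2 (h.comm_sup hx hb)

/-- The centralizer of an element. -/
abbrev Cb (b : G) : Subgroup G := centralizer ({b} : Set G)

/-- The projection onto `C(b) / O(C(b))`. -/
abbrev proj (b : G) :
    ↥(centralizer ({b} : Set G)) →*
      ↥(centralizer ({b} : Set G)) ⧸ pPrimeCore 2 ↥(centralizer ({b} : Set G)) :=
  QuotientGroup.mk' _

/-- Outside the core of `C(b)`, elements of `O(C(a)) ∩ C(b)` act on a component that `a` moves
nontrivially and one of the four-groups centralizes. -/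
theorem Pair.detect (h : Pair A₁ A₂) {a b : G} (ha : a ∈ A₁ ⊔ A₂) (ha1 : a ≠ 1)
    (hb : b ∈ A₁ ⊔ A₂) (hb1 : b ≠ 1) {y : G} (hy : y ∈ K a ⊓ centralizer ({b} : Set G))
    (hyb : y ∉ K b) :
    ∃ E : Subgroup (↥(centralizer ({b} : Set G)) ⧸ pPrimeCore 2 ↥(centralizer ({b} : Set G))),
      IsQuasisimple E ∧
      (∀ z : ↥(centralizer ({b} : Set G)), (z : G) ∈ K a →
        proj b z ∈ normalizer (E : Set _)) ∧
      (∀ z : ↥(centralizer ({b} : Set G)), (z : G) = a →
        proj b z ∉ centralizer (E : Set _)) ∧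
      proj b (⟨y, (mem_inf.1 hy).2⟩ : ↥(centralizer ({b} : Set G))) ∉
        centralizer (E : Set _) ∧
      ((∀ z : ↥(centralizer ({b} : Set G)), (z : G) ∈ A₁ →
          proj b z ∈ centralizer (E : Set _)) ∨
       (∀ z : ↥(centralizer ({b} : Set G)), (z : G) ∈ A₂ →
          proj b z ∈ centralizer (E : Set _))) := by
  classical
  let q := proj b
  have haC : a ∈ (Cb b) := h.le_centralizer hb ha
  have hKb : ∀ z : ↥(Cb b), (z : G) ∈ K b ↔ q z = 1 := fun z =>
    (mem_map_iff_mem (Cb b).subtype_injective).trans (QuotientGroup.eq_one_iff z).symm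
  set t := q ⟨a, haC⟩ with ht
  have ht2 : orderOf t = 2 := by
    refine orderOf_eq_prime (by rw [ht, ← map_pow]; exact (hKb _).1 (by
      show (a : G) ^ 2 ∈ K b
      rw [h.sq ha]; exact one_mem _)) fun hone => ?_
    have hodd : Odd (orderOf a) := (odd_K b).of_dvd_nat
      (Subgroup.orderOf_dvd_natCard _ ((hKb ⟨a, haC⟩).2 hone))
    rw [h.orderOf_eq ha ha1] at hodd
    exact absurd hodd (by decide)
  -- the image of `O((Cb b)(a)) ∩ (Cb b)(b)`
  set Z := ((K a).subgroupOf (Cb b)).map q with hZ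
  have hZcent : Z ≤ CoreAction.cent ⊤ t := by
    rintro _ ⟨z, hz, rfl⟩
    refine CoreAction.mem_cent.2 ⟨mem_top _, ?_⟩
    rw [ht, ← map_mul, ← map_mul]
    exact congrArg q (Subtype.ext (mem_centralizer_singleton_iff.1
      (Balance.centralizerPPrimeCore_le a hz)))
  have hZodd : (Nat.card Z).Coprime 2 := by
    refine Nat.coprime_two_right.2 ((odd_K a).of_dvd_nat ((Subgroup.card_map_dvd _ q).trans ?_))
    exact Subgroup.card_comap_dvd_of_injective (K a) (Cb b).subtype (Cb b).subtype_injective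
  have hnorm : CoreAction.cent ⊤ t ≤ normalizer (Z : Set _) := by
    intro x hx
    obtain ⟨g, rfl⟩ := QuotientGroup.mk'_surjective _ x
    obtain ⟨n, hn, hfix⟩ := Coprime.exists_mul_fixed (A := zpowers a) (N := K b)
      (zpowers_le.2 (le_normalizer_K (B := zpowers a) (a := b) (fun u hu => by
          obtain ⟨i, rfl⟩ := hu
          exact ((show Commute a b from h.comm_sup ha hb).zpow_left i).eq) (mem_zpowers a)))
      (by rw [Nat.card_zpowers, h.orderOf_eq ha ha1]; exact Nat.coprime_two_left.2 (odd_K b))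
      (Or.inl (Coprime.isSolvable_zpowers a)) (k := (g : G)) (by
        intro u hu
        have hu' : ∀ (v : ↥(Cb b)), (v : G) ∈ zpowers a → Commute (q v) (q g) := by
          rintro v ⟨i, hi⟩
          have : v = (⟨a, haC⟩ : ↥(Cb b)) ^ i := Subtype.ext (by
            rw [SubgroupClass.coe_zpow]; exact hi.symm)
          rw [this, map_zpow]
          exact (show Commute (q g) t from (CoreAction.mem_cent.1 hx).2).symm.zpow_left i
        obtain ⟨i, rfl⟩ := hu
        refine (hKb (g⁻¹ * ((⟨a, haC⟩ : ↥(Cb b)) ^ i * g * ((⟨a, haC⟩ : ↥(Cb b)) ^ i)⁻¹))).2 ?_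
        rw [map_mul, map_mul, map_mul, map_inv, map_inv,
          (hu' ((⟨a, haC⟩ : ↥(Cb b)) ^ i) ⟨i, by rw [SubgroupClass.coe_zpow]⟩).eq,
          mul_inv_cancel_right, inv_mul_cancel])
    have hnC : n ∈ (Cb b) := Balance.centralizerPPrimeCore_le b hn
    have hgn : q g = q (g * ⟨n, hnC⟩) := by
      rw [map_mul, (hKb ⟨n, hnC⟩).1 hn, mul_one]
    rw [hgn]
    refine le_normalizer_map q ⟨g * ⟨n, hnC⟩, mem_normalizer_iff.2 fun z => ?_, rfl⟩
    have h1 : (g : G) * n ∈ normalizer (K a : Set G) :=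
      Balance.centralizer_le_normalizer_centralizerPPrimeCore a
        (mem_centralizer_singleton_iff.2 (mem_centralizer_iff.1 hfix a (mem_zpowers a)).symm)
    exact mem_normalizer_iff.1 h1 (z : G)
  have hZcore : Z ≤ Balance.coreIn 2 (CoreAction.cent ⊤ t) :=
    Balance.le_coreIn hZcent hnorm hZodd
  have hO : oddCore ↥(⊤ : Subgroup (↥(Cb b) ⧸ pPrimeCore 2 ↥(Cb b))) = ⊥ := by
    show pPrimeCore 2 ↥(⊤ : Subgroup (↥(Cb b) ⧸ pPrimeCore 2 ↥(Cb b))) = ⊥
    rw [← Cores.map_pPrimeCore_equiv (Subgroup.topEquiv (G := ↥(Cb b) ⧸ pPrimeCore 2 ↥(Cb b))).symm,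
      Cores.pPrimeCore_quotient_pPrimeCore, Subgroup.map_bot]
  set yc : ↥(Cb b) := ⟨y, (mem_inf.1 hy).2⟩ with hyc
  have hyZ : q yc ∈ Z := ⟨yc, (mem_inf.1 hy).1, rfl⟩
  obtain ⟨E0, hE0, hfix, -, htc, hyc'⟩ := S1328.result (⊤ : Subgroup (↥(Cb b) ⧸ pPrimeCore 2 ↥(Cb b))) hO t
    ht2 (le_normalizer (mem_top t)) (zpowers (q yc))
    (by rw [Ne, zpowers_eq_bot]; exact fun h' => hyb ((hKb yc).2 h'))
    (zpowers_le.2 (hZcore hyZ))
  set E := E0.map (⊤ : Subgroup (↥(Cb b) ⧸ pPrimeCore 2 ↥(Cb b))).subtype with hE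
  have hEcp : CoreAction.Cp ⊤ E := by
    refine ⟨Subgroup.map_subtype_le _, ?_⟩
    rw [hE, Subgroup.subgroupOf, Subgroup.comap_map_eq_self_of_injective
      (⊤ : Subgroup (↥(Cb b) ⧸ pPrimeCore 2 ↥(Cb b))).subtype_injective]
    exact hE0
  have hEcomp : IsComponent E := Components.Component.map_equiv Subgroup.topEquiv hE0
  refine ⟨E, hEcomp.2, fun z hz => CoreAction.mem_normalizer_of_fixed hO ht2
      (le_normalizer (mem_top t)) hEcp hfix (hZcore ⟨z, hz, rfl⟩), ?_, ?_, ?_⟩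
  · intro z hz
    rwa [show z = ⟨a, haC⟩ from Subtype.ext hz]
  · exact fun h' => hyc' (zpowers_le.2 h')
  · obtain ⟨L, hL, hLE⟩ := Components.PComponent.exists_over (p := 2) hEcomp
    have key : ∀ B : Subgroup G, B ≤ A₁ ⊔ A₂ →
        ⁅L.map (Cb b).subtype, B⁆ ≤ centralizerPPrimeCore 2 b →
        ∀ z : ↥(Cb b), (z : G) ∈ B → q z ∈ centralizer (E : Set _) := by
      intro B _ hle z hz
      refine mem_centralizer_iff.2 fun e he => ?_
      rw [SetLike.mem_coe, ← hLE] at he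
      obtain ⟨k, hk, rfl⟩ := he
      have h1 := hle (commutator_mem_commutator (mem_map_of_mem (Cb b).subtype hk) hz)
      have h2 : q ⁅k, z⁆ = 1 := (hKb ⁅k, z⁆).1 h1
      rw [map_commutatorElement] at h2
      exact commutatorElement_eq_one_iff_mul_comm.1 h2
    rcases h.sep b hb hb1 L hL with h1 | h1
    · exact Or.inl (key A₁ le_sup_left h1)
    · exact Or.inr (key A₂ le_sup_right h1)

/-- Conjugation preserves centralizing a subgroup normalized by the conjugating element. -/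
theorem conj_mem_centralizer {H : Type*} [Group H] {E : Subgroup H} {z x : H}
    (hz : z ∈ normalizer (E : Set H)) (hx : x ∈ centralizer (E : Set H)) :
    z * x * z⁻¹ ∈ centralizer (E : Set H) := by
  refine mem_centralizer_iff.2 fun e he => ?_
  have he' : z⁻¹ * e * z ∈ E := by
    have := (mem_normalizer_iff.1 (inv_mem hz) e).1 he
    simpa using this
  have h := mem_centralizer_iff.1 hx _ he'
  calc e * (z * x * z⁻¹) = z * ((z⁻¹ * e * z) * x) * z⁻¹ := by group
    _ = z * (x * (z⁻¹ * e * z)) * z⁻¹ := by rw [h]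
    _ = _ := by group

theorem commutator_mem_centralizer {H : Type*} [Group H] {E : Subgroup H} {z x : H}
    (hz : z ∈ normalizer (E : Set H)) (hx : x ∈ centralizer (E : Set H)) :
    ⁅z, x⁆ ∈ centralizer (E : Set H) := by
  rw [commutatorElement_def]
  exact mul_mem (conj_mem_centralizer hz hx) (inv_mem hx)

/-- `[O(C(a)) ∩ C(c), A₁] ≤ O(C(c))` for `c` in `A₁`. -/
theorem Pair.commutator_le_core (h : Pair A₁ A₂) {a c : G} (ha : a ∈ A₁ ⊔ A₂) (ha1 : a ≠ 1)
    (hc : c ∈ A₁) (hc1 : c ≠ 1) :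
    ⁅K a ⊓ centralizer ({c} : Set G), A₁⁆ ≤ K c := by
  refine commutator_le.2 fun z hz x hx => ?_
  have hcA : c ∈ A₁ ⊔ A₂ := mem_sup_left hc
  by_contra hw
  have hsingle : ∀ u ∈ A₁ ⊔ A₂, u ∈ centralizer ({c} : Set G) := fun u hu =>
    h.le_centralizer hcA hu
  have hwmem : ⁅z, x⁆ ∈ K a ⊓ centralizer ({c} : Set G) := by
    refine mem_inf.2 ⟨?_, ?_⟩
    · rw [commutatorElement_def, mul_assoc, mul_assoc]
      refine mul_mem (mem_inf.1 hz).1 ?_
      rw [← mul_assoc]
      exact (mem_normalizer_iff.1 (le_normalizer_K (B := A₁ ⊔ A₂)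
        (fun u hu => h.comm_sup hu ha) (mem_sup_left hx)) _).1 (inv_mem (mem_inf.1 hz).1)
    · rw [commutatorElement_def]
      exact mul_mem (mul_mem (mul_mem (mem_inf.1 hz).2 (hsingle x (mem_sup_left hx)))
        (inv_mem (mem_inf.1 hz).2)) (inv_mem (hsingle x (mem_sup_left hx)))
  obtain ⟨E, -, hnorm, hat, hwt, hsep⟩ := h.detect ha ha1 hcA hc1 hwmem hw
  let q := proj c
  set zc : ↥(Cb c) := ⟨z, (mem_inf.1 hz).2⟩
  set xc : ↥(Cb c) := ⟨x, hsingle x (mem_sup_left hx)⟩
  have hzn := hnorm zc (mem_inf.1 hz).1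
  apply hwt
  show q ⁅zc, xc⁆ ∈ centralizer (E : Set _)
  rw [map_commutatorElement]
  rcases hsep with hs | hs
  · exact commutator_mem_centralizer hzn (hs xc hx)
  · -- `a = a₁ a₂`; then `x` agrees with a power of `a` modulo `⟨c⟩ A₂`
    obtain ⟨a₁, ha₁, a₂, ha₂, rfl⟩ := mem_sup_iff_of_normalizes (fun v hv =>
      mem_normalizer_iff.2 fun u => by
        constructor
        · intro hu; rwa [← h.comm u hu v hv, mul_inv_cancel_right]
        · intro hu
          have := h.comm _ hu v hv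
          rwa [show u = v⁻¹ * ((v * u * v⁻¹) * v) by group, this, ← mul_assoc, inv_mul_cancel,
            one_mul]) ha
    set ac : ↥(Cb c) := ⟨a₁ * a₂, hsingle _ ha⟩
    set a₁c : ↥(Cb c) := ⟨a₁, hsingle _ (mem_sup_left ha₁)⟩
    set a₂c : ↥(Cb c) := ⟨a₂, hsingle _ (mem_sup_right ha₂)⟩
    have hza : Commute (q zc) (q ac) := by
      show q zc * q ac = q ac * q zc
      rw [← map_mul, ← map_mul]
      exact congrArg q (Subtype.ext (mem_centralizer_singleton_iff.1
        (Balance.centralizerPPrimeCore_le _ (mem_inf.1 hz).1)))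
    set cc : ↥(Cb c) := ⟨c, hsingle c hcA⟩
    have hzc : Commute (q zc) (q cc) := by
      show q zc * q cc = q cc * q zc
      rw [← map_mul, ← map_mul]
      exact congrArg q (Subtype.ext (mem_centralizer_singleton_iff.1 (mem_inf.1 hz).2))
    have hcE : q cc ∈ centralizer (E : Set _) := by
      refine mem_centralizer_iff.2 fun e _ => ?_
      obtain ⟨g, rfl⟩ := QuotientGroup.mk'_surjective _ e
      rw [← map_mul, ← map_mul]
      exact congrArg q (Subtype.ext (mem_centralizer_singleton_iff.1 g.2))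
    have ha₂E := hs a₂c ha₂
    have ha₁E : q a₁c ∉ centralizer (E : Set _) := fun h' => hat ac rfl (by
      rw [show ac = a₁c * a₂c from rfl, map_mul]
      exact mul_mem h' ha₂E)
    have h4 : x = 1 ∨ x = c ∨ x = a₁ ∨ x = c * a₁ := by
      have hnot : a₁ ≠ 1 ∧ a₁ ≠ c := by
        constructor
        · intro e
          exact ha₁E (by rw [show a₁c = 1 from Subtype.ext e, map_one]; exact one_mem _)
        · intro e
          exact ha₁E (by rw [show a₁c = cc from Subtype.ext e]; exact hcE)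
      have hcc : c⁻¹ = c := inv_eq_of_mul_eq_one_right (by rw [← pow_two]; exact h.el₁.2 c hc)
      classical
      haveI : Fintype A₁ := Fintype.ofFinite A₁
      let S : Finset A₁ := {1, ⟨c, hc⟩, ⟨a₁, ha₁⟩, ⟨c * a₁, mul_mem hc ha₁⟩}
      have hS : S.card = 4 := by
        simp only [S]
        rw [Finset.card_insert_of_notMem, Finset.card_insert_of_notMem, Finset.card_pair]
        · intro e
          exact hc1 (by simpa using congrArg Subtype.val e)
        · simp only [Finset.mem_insert, Finset.mem_singleton, Subtype.mk.injEq, not_or]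
          exact ⟨fun e => hnot.2 e.symm, fun e => hnot.1 (by simpa using e)⟩
        · simp only [Finset.mem_insert, Finset.mem_singleton, ← OneMemClass.coe_eq_one,
            Subtype.ext_iff, OneMemClass.coe_one, not_or]
          exact ⟨fun e => hc1 e.symm, fun e => hnot.1 e.symm, fun e => hnot.2 (by
            rw [← hcc]; exact eq_inv_of_mul_eq_one_right e.symm)⟩
      have hSu : S = Finset.univ := Finset.eq_univ_of_card S (by
        rw [hS, ← Nat.card_eq_fintype_card, h.c₁])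
      have hxS : (⟨x, hx⟩ : A₁) ∈ S := hSu ▸ Finset.mem_univ _
      simp only [S, Finset.mem_insert, Finset.mem_singleton, ← OneMemClass.coe_eq_one,
        Subtype.mk.injEq] at hxS
      exact hxS
    have ha₂2 : a₂ * a₂ = 1 := by rw [← pow_two]; exact h.el₂.2 a₂ ha₂
    have hxa : ∀ u : ↥(Cb c), Commute (q zc) (q u) → q xc = q u * q a₂c →
        ⁅q zc, q xc⁆ ∈ centralizer (E : Set _) := by
      intro u hu he
      rw [he, show ⁅q zc, q u * q a₂c⁆ = ⁅q zc, q u⁆ * (q u * ⁅q zc, q a₂c⁆ * (q u)⁻¹) by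
          simp only [commutatorElement_def]; group,
        commutatorElement_eq_one_iff_mul_comm.2 hu.eq, one_mul,
        show q u * ⁅q zc, q a₂c⁆ * (q u)⁻¹ =
          ⁅q u * q zc * (q u)⁻¹, q u * q a₂c * (q u)⁻¹⁆ by
            simp only [commutatorElement_def]; group,
        hu.symm.eq, mul_inv_cancel_right]
      refine commutator_mem_centralizer hzn ?_
      have hxu : q u = q xc * (q a₂c)⁻¹ := by rw [he, mul_inv_cancel_right]
      have hcomm : q xc * q a₂c = q a₂c * q xc := by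
        rw [← map_mul, ← map_mul]
        exact congrArg q (Subtype.ext (h.comm x hx a₂ ha₂))
      rw [hxu, mul_inv_rev, inv_inv,
        show q xc * (q a₂c)⁻¹ * q a₂c * (q a₂c * (q xc)⁻¹) = (q xc * q a₂c) * (q xc)⁻¹ by group,
        hcomm, mul_inv_cancel_right]
      exact ha₂E
    rcases h4 with e | e | e | e
    · rw [show xc = 1 from Subtype.ext e, map_one, commutatorElement_one_right]
      exact one_mem _
    · rw [show xc = cc from Subtype.ext e, commutatorElement_eq_one_iff_mul_comm.2 hzc.eq]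
      exact one_mem _
    · refine hxa ac hza ?_
      rw [← map_mul]
      exact congrArg q (Subtype.ext (by
        show x = a₁ * a₂ * a₂
        rw [mul_assoc, ha₂2, mul_one, e]))
    · refine hxa (cc * ac) (by rw [map_mul]; exact hzc.mul_right hza) ?_
      rw [← map_mul]
      exact congrArg q (Subtype.ext (by
        show x = c * (a₁ * a₂) * a₂
        rw [mul_assoc, mul_assoc, ha₂2, mul_one, e]))

/-- `C(A₁) ∩ [O(C(a)), A₁] ≤ O(C(A₁))`. -/
theorem Pair.fixed_commutator_le (hFT : Basic.OddOrderSolvable.{u}) (h : Pair A₁ A₂) {a : G}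
    (ha : a ∈ A₁ ⊔ A₂) (ha1 : a ≠ 1) : ⁅K a, A₁⁆ ⊓ centralizer (A₁ : Set G) ≤ J A₁ := by
  set Y := ⁅K a, A₁⁆ with hY
  have hA1n : A₁ ≤ normalizer (K a : Set G) :=
    le_normalizer_K fun u hu => h.comm_sup (mem_sup_left hu) ha
  have hYK : Y ≤ K a := Coprime.commutator_le_of_le_normalizer hA1n
  have hYodd : Odd (Nat.card Y) := (odd_K a).of_dvd_nat (card_dvd_of_le hYK)
  haveI hAc : IsMulCommutative A₁ := h.el₁.1
  have hA2 : IsPGroup 2 A₁ := IsPGroup.of_card (n := 2) (by rw [h.c₁]; norm_num)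
  have hYA : ⁅Y, A₁⁆ = Y := Coprime.commutator_commutator_eq hA1n
    (coprime_of_four (by rw [h.c₁]) (odd_K a))
    (Or.inl (Coprime.isSolvable_of_isPGroup hA2))
  rw [Row1329.main hFT A₁ A₁ Y hA2 hAc le_rfl hYodd
    (Coprime.right_le_normalizer_commutator _ _) hYA]
  refine iSup_le fun B₀ => ?_
  obtain ⟨B₀, hle, hcyc⟩ := B₀
  haveI : (B₀.subgroupOf A₁).Normal := ⟨fun u hu g => by rwa [mul_comm' g u, mul_inv_cancel_right]⟩
  have hne : B₀ ≠ ⊥ := by
    rintro rfl
    have hc : IsCyclic (A₁ ⧸ (⊥ : Subgroup G).subgroupOf A₁) := hcyc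
    obtain ⟨g, hg⟩ := hc.exists_ofOrder_eq_natCard
    have h2 : orderOf g ∣ 2 := by
      obtain ⟨u, rfl⟩ := QuotientGroup.mk'_surjective _ g
      refine (orderOf_map_dvd _ u).trans (orderOf_dvd_of_pow_eq_one (Subtype.ext ?_))
      rw [SubgroupClass.coe_pow]
      exact h.el₁.2 u u.2
    have hcard : Nat.card (A₁ ⧸ (⊥ : Subgroup G).subgroupOf A₁) = 4 := by
      show ((⊥ : Subgroup G).subgroupOf A₁).index = 4
      rw [Subgroup.bot_subgroupOf, index_bot, h.c₁]
    rw [hg, hcard] at h2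
    norm_num at h2
  obtain ⟨c, hc, hc1⟩ := B₀.bot_or_exists_ne_one.resolve_left hne
  intro w hw
  obtain ⟨hw1, hw2⟩ := mem_inf.1 hw
  have hwc : w ∈ K c := by
    refine h.commutator_le_core ha ha1 (hle hc) hc1 (commutator_mono ?_ le_rfl hw2)
    exact inf_le_inf hYK (centralizer_le (Set.singleton_subset_iff.2 hc))
  exact Balance.coreIn_inf_le (p := 2) (centralizer_le (Set.singleton_subset_iff.2 (hle hc)))
    (mem_inf.2 ⟨hwc, (mem_inf.1 hw1).2⟩)

/-- Goldschmidt's half functor. -/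
abbrev half (B : Subgroup G) (a : G) : Subgroup G := ⁅K a, B⁆ ⊔ (K a ⊓ J B)

theorem Pair.half_le (h : Pair A₁ A₂) {a : G} (ha : a ∈ A₁ ⊔ A₂) : half A₁ a ≤ K a :=
  sup_le (Coprime.commutator_le_of_le_normalizer
    (le_normalizer_K fun _ hu => h.comm_sup (mem_sup_left hu) ha)) inf_le_left

/-- The fixed points of `A₁` in the half functor. -/
theorem Pair.half_fixed (hFT : Basic.OddOrderSolvable.{u}) (h : Pair A₁ A₂) {a : G}
    (ha : a ∈ A₁ ⊔ A₂) (ha1 : a ≠ 1) {x : G} (hx : x ∈ half A₁ a)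
    (hfix : x ∈ centralizer (A₁ : Set G)) : x ∈ K a ⊓ J A₁ := by
  obtain ⟨n, hn, d, hd, rfl⟩ := mem_sup_iff_of_normalizes
    (inf_le_left.trans (Coprime.left_le_normalizer_commutator _ _)) hx
  have hnK : n ∈ K a := Coprime.commutator_le_of_le_normalizer
    (le_normalizer_K fun _ hu => h.comm_sup (mem_sup_left hu) ha) hn
  have hnfix : n ∈ centralizer (A₁ : Set G) := by
    have := mul_mem hfix (inv_mem (Balance.coreIn_le _ (mem_inf.1 hd).2))
    rwa [mul_inv_cancel_right] at this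
  exact mul_mem (mem_inf.2 ⟨hnK, h.fixed_commutator_le hFT ha ha1 (mem_inf.2 ⟨hn, hnfix⟩)⟩) hd

theorem Pair.invariant_J (h : Pair A₁ A₂) : A₁ ⊔ A₂ ≤ normalizer (J A₁ : Set G) := by
  refine le_trans ?_ (Balance.le_normalizer_coreIn _)
  exact fun x hx => mem_centralizer_iff.2 fun u hu => h.comm_sup (mem_sup_left hu) hx

theorem Pair.invariant_half (h : Pair A₁ A₂) {a u : G} (ha : a ∈ A₁ ⊔ A₂) (hu : u ∈ A₁ ⊔ A₂) :
    u ∈ normalizer (half A₁ a : Set G) := by
  have hK : u ∈ normalizer (K a : Set G) :=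
    le_normalizer_K (B := A₁ ⊔ A₂) (fun _ hv => h.comm_sup hv ha) hu
  refine Balance.mem_normalizer_iff_cj.2 ?_
  have e1 : (K a).map (MulAut.conj u).toMonoidHom = K a := Balance.mem_normalizer_iff_cj.1 hK
  have e2 : (J A₁).map (MulAut.conj u).toMonoidHom = J A₁ :=
    Balance.mem_normalizer_iff_cj.1 (h.invariant_J hu)
  have e3 : A₁.map (MulAut.conj u).toMonoidHom = A₁ := Balance.mem_normalizer_iff_cj.1
    (mem_normalizer_iff.2 fun v => by
      constructor
      · intro hv; rwa [h.comm_sup hu (mem_sup_left hv), mul_inv_cancel_right]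
      · intro hv
        have := h.comm_sup hu (mem_sup_left hv)
        rwa [show v = u⁻¹ * ((u * v * u⁻¹) * u) by group, ← this, ← mul_assoc, inv_mul_cancel,
          one_mul])
  show Subgroup.map (MulAut.conj u).toMonoidHom _ = _
  rw [Subgroup.map_sup, map_commutator, Subgroup.map_inf _ _ _ (MulAut.conj u).injective,
    e1, e2, e3]

/-- The two-sided key step: `θ(a) ∩ C(b) ≤ O(C(b))`. -/
theorem Pair.le_core (hFT : Basic.OddOrderSolvable.{u}) (h : Pair A₁ A₂) {a b : G}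
    (ha : a ∈ A₁ ⊔ A₂) (ha1 : a ≠ 1) (hb : b ∈ A₁ ⊔ A₂) (hb1 : b ≠ 1) {x : G}
    (hx1 : x ∈ half A₁ a) (hxb : x ∈ centralizer ({b} : Set G)) (hx2 : x ∈ half A₂ a) :
    x ∈ K b := by
  by_contra hne
  obtain ⟨E, hEq, hnorm, -, hxt, hsep⟩ :=
    h.detect ha ha1 hb hb1 (mem_inf.2 ⟨h.half_le ha hx1, hxb⟩) hne
  -- one side suffices
  have side : ∀ B B' : Subgroup G, Pair B B' → B ⊔ B' = A₁ ⊔ A₂ → x ∈ half B a →
      (∀ z : ↥(centralizer ({b} : Set G)), (z : G) ∈ B →
          proj b z ∈ centralizer (E : Set _)) → False := by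
    intro B B' hB hsup hxB hs
    apply hxt
    let q := proj b
    have haB : a ∈ B ⊔ B' := hsup ▸ ha
    have hbB : b ∈ B ⊔ B' := hsup ▸ hb
    have hBC : B ≤ (Cb b) := le_sup_left.trans (hB.le_centralizer hbB)
    set X := half B a ⊓ (Cb b) with hXdef
    have hXn : B ≤ normalizer (X : Set G) := fun u hu =>
      Coprime.le_normalizer_inf (A := zpowers u)
        (zpowers_le.2 (hB.invariant_half haB (mem_sup_left hu)))
        (zpowers_le.2 (le_normalizer (hBC hu))) (mem_zpowers u)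
    have hXK : X ≤ K a := inf_le_left.trans (hB.half_le haB)
    have hBp : IsPGroup 2 B := IsPGroup.of_card (n := 2) (by rw [hB.c₁]; norm_num)
    obtain ⟨n, hn, c, hc, he⟩ := Coprime.exists_commutator_mul_fixed hXn
      (coprime_of_four (by rw [hB.c₁]) ((odd_K a).of_dvd_nat (card_dvd_of_le hXK)))
      (Or.inl (Coprime.isSolvable_of_isPGroup hBp)) (mem_inf.2 ⟨hxB, hxb⟩ : x ∈ X)
    have hnC : n ∈ (Cb b) := (mem_inf.1 (Coprime.commutator_le_of_le_normalizer hXn hn)).2
    have hcC : c ∈ (Cb b) := (mem_inf.1 (mem_inf.1 hc).1).2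
    have hn' : q ⟨n, hnC⟩ ∈ centralizer (E : Set _) := by
      have hle : ⁅X, B⁆ ≤ ((centralizer (E : Set _)).comap q).map (Cb b).subtype := by
        refine commutator_le.2 fun z hz u hu => ?_
        refine ⟨(⁅(⟨z, (mem_inf.1 hz).2⟩ : ↥(Cb b)), (⟨u, hBC hu⟩ : ↥(Cb b))⁆ : ↥(Cb b)), ?_, rfl⟩
        show q (⁅(⟨z, (mem_inf.1 hz).2⟩ : ↥(Cb b)), (⟨u, hBC hu⟩ : ↥(Cb b))⁆ : ↥(Cb b)) ∈ centralizer (E : Set _)
        rw [map_commutatorElement]
        exact commutator_mem_centralizer (hnorm _ (hXK hz)) (hs _ hu)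
      obtain ⟨w, hw, hwe⟩ := hle hn
      rwa [show (⟨n, hnC⟩ : ↥(Cb b)) = w from Subtype.ext hwe.symm]
    have hcJ : c ∈ J B :=
      (mem_inf.1 (hB.half_fixed hFT haB ha1 (mem_inf.1 (mem_inf.1 hc).1).1 (mem_inf.1 hc).2)).2
    have hcn := hnorm ⟨c, hcC⟩ (hXK (mem_inf.1 hc).1)
    -- the odd group `O((Cb b)(B)) ∩ (Cb b)(b)` is trivial on `E`
    set S := ((J B ⊓ (Cb b)).subgroupOf (Cb b)).map q with hS
    have hSodd : Odd (Nat.card S) := by
      refine (Nat.coprime_two_right.1 (Balance.coreIn_coprime (p := 2)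
        (centralizer (B : Set G)))).of_dvd_nat ((card_map_dvd _ q).trans ?_)
      exact (Subgroup.card_comap_dvd_of_injective _ (Cb b).subtype (Cb b).subtype_injective).trans
        (card_dvd_of_le inf_le_left)
    have hEn : E ≤ normalizer (S : Set _) := by
      intro e he
      obtain ⟨g, rfl⟩ := QuotientGroup.mk'_surjective _ e
      obtain ⟨m, hm, hfix⟩ := Coprime.exists_mul_fixed (A := B) (N := K b)
        (le_normalizer_K fun u hu => hB.comm_sup (mem_sup_left hu) hbB)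
        (coprime_of_four (by rw [hB.c₁]) (odd_K b)) (Or.inl (Coprime.isSolvable_of_isPGroup hBp))
        (k := (g : G)) (fun u hu => by
          refine ⟨g⁻¹ * ((⟨u, hBC hu⟩ : ↥(Cb b)) * g * (⟨u, hBC hu⟩ : ↥(Cb b))⁻¹), ?_, rfl⟩
          refine (QuotientGroup.eq_one_iff _).1 ?_
          show q _ = 1
          rw [map_mul, map_mul, map_mul, map_inv, map_inv,
            ← mem_centralizer_iff.1 (hs ⟨u, hBC hu⟩ hu) _ he, mul_inv_cancel_right,
            inv_mul_cancel])
      have hmC : m ∈ (Cb b) := Balance.centralizerPPrimeCore_le b hm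
      have hgm : q g = q (g * ⟨m, hmC⟩) := by
        rw [map_mul, show q (⟨m, hmC⟩ : ↥(Cb b)) = 1 from (QuotientGroup.eq_one_iff _).2
          ((mem_map_iff_mem (Cb b).subtype_injective).1 hm), mul_one]
      rw [hgm]
      refine le_normalizer_map q ⟨g * ⟨m, hmC⟩, mem_normalizer_iff.2 fun w => ?_, rfl⟩
      have h1 := mem_normalizer_iff.1 (Balance.le_normalizer_coreIn _ hfix :
        (g : G) * m ∈ normalizer (J B : Set G)) (w : G)
      have h2 := mem_normalizer_iff.1 (le_normalizer (mul_mem g.2 hmC) :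
        (g : G) * m ∈ normalizer ((Cb b) : Set G)) (w : G)
      show (w : G) ∈ J B ⊓ (Cb b) ↔ (g : G) * m * w * ((g : G) * m)⁻¹ ∈ J B ⊓ (Cb b)
      rw [mem_inf, mem_inf, h1, h2]
    have hN : (S.subgroupOf E).Normal := by
      refine ⟨fun w hw g => ?_⟩
      exact (mem_normalizer_iff.1 (hEn g.2) _).1 hw
    have hSc : S.subgroupOf E ≤ center E := by
      rcases Components.Quasisimple.normal_le_center_or_eq_top hEq hN with h' | h'
      · exact h'
      · exfalso
        have hEodd : Odd (Nat.card E) := hSodd.of_dvd_nat (card_dvd_of_le (subgroupOf_eq_top.1 h'))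
        haveI : Group.IsSolvable E := hFT E hEodd
        haveI := hEq.1
        exact Components.Quasisimple.not_isSolvable hEq inferInstance
    have hc' : q ⟨c, hcC⟩ ∈ centralizer (E : Set _) := by
      set cq := q ⟨c, hcC⟩
      have hcS : cq ∈ S := ⟨⟨c, hcC⟩, mem_inf.2 ⟨hcJ, hcC⟩, rfl⟩
      let α : E →* E := MonoidHom.mk' (fun e => ⟨cq * e * cq⁻¹, (mem_normalizer_iff.1 hcn e).1 e.2⟩)
        fun e e' => Subtype.ext (by simp [mul_assoc])
      have hαe : ∀ e : E, α e * e⁻¹ ∈ center E := fun e => hSc (by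
        show cq * (e : _) * cq⁻¹ * (e : _)⁻¹ ∈ S
        rw [mul_assoc, mul_assoc, ← mul_assoc (e : ↥(Cb b) ⧸ pPrimeCore 2 ↥(Cb b))]
        exact mul_mem hcS ((mem_normalizer_iff.1 (hEn e.2) _).1 (inv_mem hcS)))
      have hid : ∀ e : E, α e = e := by
        have hperf : commutator E = ⊤ := hEq.1.commutator_eq_top
        have hle : commutator E ≤ α.eqLocus (MonoidHom.id E) := by
          refine commutator_le.2 fun e _ e' _ => ?_
          show α ⁅e, e'⁆ = ⁅e, e'⁆
          obtain ⟨z, hz, hze⟩ : ∃ z ∈ center E, α e = z * e := ⟨_, hαe e, by group⟩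
          obtain ⟨z', hz', hze'⟩ : ∃ z' ∈ center E, α e' = z' * e' := ⟨_, hαe e', by group⟩
          have h1 := mem_center_iff.1 hz
          have h2 := mem_center_iff.1 hz'
          rw [map_commutatorElement, hze, hze', commutatorElement_def, commutatorElement_def,
            mul_inv_rev, mul_inv_rev]
          calc z * e * (z' * e') * (e⁻¹ * z⁻¹) * (e'⁻¹ * z'⁻¹)
              = z * (e * z') * e' * e⁻¹ * (z⁻¹ * e'⁻¹) * z'⁻¹ := by group
            _ = z * (z' * e) * e' * e⁻¹ * (e'⁻¹ * z⁻¹) * z'⁻¹ := by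
              rw [h2 e, (mem_center_iff.1 (inv_mem hz) e'⁻¹).symm]
            _ = z * (z' * (e * e' * e⁻¹ * e'⁻¹)) * z⁻¹ * z'⁻¹ := by group
            _ = (z' * (e * e' * e⁻¹ * e'⁻¹)) * z * z⁻¹ * z'⁻¹ := by rw [h1]
            _ = z' * (e * e' * e⁻¹ * e'⁻¹) * z'⁻¹ := by group
            _ = (e * e' * e⁻¹ * e'⁻¹) * z' * z'⁻¹ := by rw [h2]
            _ = e * e' * e⁻¹ * e'⁻¹ := by group
        intro e
        exact hle (hperf ▸ mem_top e)
      refine mem_centralizer_iff.2 fun e he => ?_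
      have := congrArg Subtype.val (hid ⟨e, he⟩)
      exact (mul_inv_eq_iff_eq_mul.1 this).symm
    show q ⟨x, hxb⟩ ∈ centralizer (E : Set _)
    rw [show (⟨x, hxb⟩ : ↥(Cb b)) = ⟨n, hnC⟩ * ⟨c, hcC⟩ from Subtype.ext he, map_mul]
    exact mul_mem hn' hc'
  rcases hsep with hs | hs
  · exact side A₁ A₂ h rfl hx1 hs
  · exact side A₂ A₁ h.symm (sup_comm A₂ A₁) hx2 hs

/-- Balance for one half. -/
theorem Pair.balance (hFT : Basic.OddOrderSolvable.{u}) (h : Pair A₁ A₂) {a b : G}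
    (ha : a ∈ A₁ ⊔ A₂) (ha1 : a ≠ 1) (hb : b ∈ A₁ ⊔ A₂) (hb1 : b ≠ 1) :
    half A₁ a ⊓ half A₂ a ⊓ centralizer ({b} : Set G) ≤ half A₁ b := by
  set X := half A₁ a ⊓ half A₂ a ⊓ centralizer ({b} : Set G) with hX
  have hXb : X ≤ K b := fun x hx =>
    h.le_core hFT ha ha1 hb hb1 (mem_inf.1 (mem_inf.1 hx).1).1 (mem_inf.1 hx).2
      (mem_inf.1 (mem_inf.1 hx).1).2
  have hXn : A₁ ≤ normalizer (X : Set G) := fun u hu =>
    Coprime.le_normalizer_inf (A := zpowers u)
      (Coprime.le_normalizer_inf (zpowers_le.2 (h.invariant_half ha (mem_sup_left hu)))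
        (zpowers_le.2 (h.symm.invariant_half (sup_comm A₁ A₂ ▸ ha) (mem_sup_right hu))))
      (zpowers_le.2 (le_normalizer (h.le_centralizer hb (mem_sup_left hu)))) (mem_zpowers u)
  intro x hx
  obtain ⟨n, hn, c, hc, rfl⟩ := Coprime.exists_commutator_mul_fixed hXn
    (coprime_of_four (by rw [h.c₁]) ((odd_K b).of_dvd_nat (card_dvd_of_le hXb)))
    (Or.inl (Coprime.isSolvable_of_isPGroup (p := 2) (IsPGroup.of_card (n := 2) (by rw [h.c₁]; norm_num))))
    hx
  exact mul_mem (mem_sup_left (commutator_mono hXb le_rfl hn))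
    (mem_sup_right (mem_inf.2 ⟨hXb (mem_inf.1 hc).1,
      (mem_inf.1 (h.half_fixed hFT ha ha1 (mem_inf.1 (mem_inf.1 (mem_inf.1 hc).1).1).1
        (mem_inf.1 hc).2)).2⟩))

/-- S1330 given the odd order theorem. -/
theorem main (hFT : Basic.OddOrderSolvable.{u}) (A₁ A₂ : Subgroup G)
    (hcs : Cfsg.IsCoreSeparated A₁ A₂) :
    Cfsg.IsSignalizerFunctor 2 (A₁ ⊔ A₂) (fun a => half A₁ a ⊓ half A₂ a) := by
  obtain ⟨h1, h2, h3, h4, -, -, h5, h6⟩ := hcs
  have h : Pair A₁ A₂ := ⟨h1, h2, h3, h4, h5, h6⟩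
  refine ⟨fun a ha _ => inf_le_left.trans ((h.half_le ha).trans
      (Balance.centralizerPPrimeCore_le a)), ?_, ?_, ?_⟩
  · intro a ha _ hd
    have h1 := hd.trans (card_dvd_of_le (inf_le_left.trans (h.half_le ha)))
    exact (Nat.not_even_iff_odd.2 (odd_K a)) (even_iff_two_dvd.2 h1)
  · intro a ha _ u hu x hx
    obtain ⟨hx1, hx2⟩ := mem_inf.1 hx
    exact mem_inf.2 ⟨(mem_normalizer_iff.1 (h.invariant_half ha hu) x).1 hx1,
      (mem_normalizer_iff.1 (h.symm.invariant_half (sup_comm A₁ A₂ ▸ ha)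
        (sup_comm A₁ A₂ ▸ hu)) x).1 hx2⟩
  · intro a ha ha1 b hb hb1 x hx
    refine mem_inf.2 ⟨h.balance hFT ha ha1 hb hb1 hx, ?_⟩
    refine h.symm.balance hFT (sup_comm A₁ A₂ ▸ ha) ha1 (sup_comm A₁ A₂ ▸ hb) hb1 ?_
    obtain ⟨h12, hb'⟩ := mem_inf.1 hx
    exact mem_inf.2 ⟨mem_inf.2 ⟨(mem_inf.1 h12).2, (mem_inf.1 h12).1⟩, hb'⟩

end Cfsg.Agent.Lib.FTDeps.Row1330
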