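import Cfsg.Agent.Lib.FTDeps.TransitiveOdd
import Cfsg.Agent.S1127
import Cfsg.Agent.S1130
import Cfsg.Agent.Lib.Suzuki2.FieldModel

/-!
# The two-point stabiliser in the split rank-one set-up, given the odd order theorem

The elements of the two-point stabiliser `D` inverted by `t` form a cyclic normal subgroup of `D`, the
quotient of `C_D(t)` by the centraliser of the involutions is cyclic, and a Sylow 2-subgroup of `Q` is
abelian or a Suzuki 2-group.
-/

set_option autoImplicit false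

namespace Cfsg.Agent.Lib.FTDeps.RankOneCore

open MulAction Cfsg.Agent.Lib.RankOne.Involution Cfsg.Agent.Lib.RankOne.Basic
  Cfsg.Agent.Lib.RankOne.Nilpotent

universe u v

variable {G : Type u} {Ω : Type v} [Group G] [Finite G] [MulAction G Ω] {a : Ω} {t : G} {Q : Subgroup G}
  (hS : Cfsg.IsRankOneSetup G Ω a t Q)
  (h2 : ∃ x y : G, x ≠ 1 ∧ y ≠ 1 ∧ x ≠ y ∧ x * x = 1 ∧ y * y = 1 ∧ x * y = y * x)

/-- The involutions of `G_a` and the identity. -/
def invSub : Subgroup G where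
  carrier := {x | x • a = a ∧ x * x = 1}
  one_mem' := ⟨one_smul G a, mul_one 1⟩
  inv_mem' := by
    rintro x ⟨hx, hx2⟩
    refine ⟨(stabilizer G a).inv_mem hx, ?_⟩
    rw [← mul_inv_rev, hx2, inv_one]
  mul_mem' := by
    rintro x y ⟨hx, hx2⟩ ⟨hy, hy2⟩
    refine ⟨(stabilizer G a).mul_mem hx hy, ?_⟩
    by_cases hx1 : x = 1
    · simp [hx1, hy2]
    by_cases hy1 : y = 1
    · simp [hy1, hx2]
    have hc : x * y = y * x := involutions_commute hS h2 ⟨hx, hx1, hx2⟩ ⟨hy, hy1, hy2⟩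
    rw [mul_assoc, ← mul_assoc y x y, ← hc, mul_assoc x y y, hy2, mul_one, hx2]

theorem mem_invSub {x : G} : x ∈ invSub hS h2 ↔ x • a = a ∧ x * x = 1 := Iff.rfl

theorem inv_mem_invSub {s : G} (hs : s ∈ Cfsg.involutionsIn (stabilizer G a : Set G)) : s ∈ invSub hS h2 :=
  ⟨hs.1, hs.2.2⟩

theorem invol_of_ne_one {z : ↥(invSub hS h2)} (hz : z ≠ 1) :
    (z : G) ∈ Cfsg.involutionsIn (stabilizer G a : Set G) :=
  ⟨z.2.1, fun h => hz (Subtype.ext h), z.2.2⟩

theorem twoStab_le_normalizer : twoStab G a t ≤ Subgroup.normalizer (invSub hS h2 : Set G) := by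
  intro d hd
  rw [Subgroup.mem_normalizer_iff]
  have key : ∀ e ∈ twoStab G a t, ∀ x ∈ invSub hS h2, e * x * e⁻¹ ∈ invSub hS h2 := by
    rintro e he x ⟨hx, hx2⟩
    refine ⟨(stabilizer G a).mul_mem ((stabilizer G a).mul_mem he.1 hx) ((stabilizer G a).inv_mem he.1), ?_⟩
    rw [show e * x * e⁻¹ * (e * x * e⁻¹) = e * (x * x) * e⁻¹ by group, hx2, mul_one, mul_inv_cancel]
  refine fun x => ⟨key d hd x, fun h => ?_⟩
  have := key d⁻¹ ((twoStab G a t).inv_mem hd) _ h
  rwa [show d⁻¹ * (d * x * d⁻¹) * d⁻¹⁻¹ = x by group] at this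

/-- Conjugation of `D` on the involutions. -/
noncomputable def conjHom : ↥(twoStab G a t) →* MulAut ↥(invSub hS h2) :=
  ((invSub hS h2).normalizerMonoidHom).comp (Subgroup.inclusion (twoStab_le_normalizer hS h2))

theorem conjHom_apply (d : ↥(twoStab G a t)) (z : ↥(invSub hS h2)) :
    ((conjHom hS h2 d z : ↥(invSub hS h2)) : G) = (d : G) * z * (d : G)⁻¹ := rfl

theorem conjHom_eq_one_iff {d : ↥(twoStab G a t)} : conjHom hS h2 d = 1 ↔
    (d : G) ∈ Subgroup.centralizer (Cfsg.involutionsIn (stabilizer G a : Set G)) := by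
  rw [Subgroup.mem_centralizer_iff]
  constructor
  · intro h s hs
    have := congrArg Subtype.val (DFunLike.congr_fun h ⟨s, inv_mem_invSub hS h2 hs⟩)
    rw [conjHom_apply] at this
    exact (mul_inv_eq_iff_eq_mul.1 this).symm
  · intro h
    refine MulEquiv.ext fun z => Subtype.ext ?_
    rw [conjHom_apply, MulAut.one_apply]
    by_cases hz : z = 1
    · simp [hz]
    · exact mul_inv_eq_iff_eq_mul.2 (h _ (invol_of_ne_one hS h2 hz)).symm

/-- The image of `D` in the automorphisms of the group of involutions. -/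
noncomputable abbrev Dbar : Subgroup (MulAut ↥(invSub hS h2)) := (conjHom hS h2).range

/-- The canonical map onto `Dbar`. -/
noncomputable abbrev toBar : ↥(twoStab G a t) →* ↥(Dbar hS h2) := (conjHom hS h2).rangeRestrict

theorem toBar_eq_one_iff {d : ↥(twoStab G a t)} : toBar hS h2 d = 1 ↔
    (d : G) ∈ Subgroup.centralizer (Cfsg.involutionsIn (stabilizer G a : Set G)) := by
  rw [← conjHom_eq_one_iff hS h2, Subtype.ext_iff]
  rfl

include hS h2 in
theorem kernel_fixed {d : G} (hd : d ∈ twoStab G a t)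
    (h : d ∈ Subgroup.centralizer (Cfsg.involutionsIn (stabilizer G a : Set G))) :
    t * d * t⁻¹ = d ∧ ∀ k ∈ Cfsg.invertedBy (twoStab G a t) t, k * d = d * k := by
  have h' : d ∈ twoStab G a t ⊓ Subgroup.centralizer {t} ⊓
      Subgroup.centralizer (Cfsg.invertedBy (twoStab G a t) t) := by
    rw [(Cfsg.Agent.S1127.result hS).2]
    exact ⟨hd, h⟩
  exact ⟨((centralizer_t_iff hS).1 h'.1).2, fun k hk => Subgroup.mem_centralizer_iff.1 h'.2 k hk⟩

theorem toBar_inv_injective {k : ↥(twoStab G a t)} (hk : (k : G) ∈ Cfsg.invertedBy (twoStab G a t) t)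
    (h : toBar hS h2 k = 1) : k = 1 := by
  have hct := (kernel_fixed hS h2 k.2 ((toBar_eq_one_iff hS h2).1 h)).1
  rw [hk.2] at hct
  refine Subtype.ext (eq_one_of_sq hS.odd_card k.2 ?_)
  nth_rewrite 1 [← hct]
  exact inv_mul_cancel _

/-- The facts about `Dbar` that follow from the odd order theorem. -/
structure BarData (F : Subgroup ↥(Dbar hS h2)) : Prop where
  normal : F.Normal
  cyclic : IsCyclic ↥F
  comm : ∀ x ∈ F, ∀ y ∈ F, x * y = y * x
  surj : ∀ f ∈ F, ∃ k : ↥(twoStab G a t), (k : G) ∈ Cfsg.invertedBy (twoStab G a t) t ∧ toBar hS h2 k = f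
  mem : ∀ k : ↥(twoStab G a t), (k : G) ∈ Cfsg.invertedBy (twoStab G a t) t → toBar hS h2 k ∈ F

theorem exists_barData (hFT : Basic.OddOrderSolvable.{u}) : ∃ F, BarData hS h2 F := by
  classical
  obtain ⟨⟨s, r⟩, ⟨hs, hr, hsr⟩, -⟩ := structure_equation hS
  simp only at hs hr hsr
  set φ := toBar hS h2 with hφ
  have hsurj : Function.Surjective φ := (conjHom hS h2).rangeRestrict_surjective
  have hodd : Odd (Nat.card ↥(Dbar hS h2)) :=
    Odd.of_dvd_nat hS.odd_card (Subgroup.card_dvd_of_surjective φ hsurj)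
  letI : CommGroup ↥(invSub hS h2) :=
    { (inferInstance : Group ↥(invSub hS h2)) with
      mul_comm := fun x y => by
        by_cases hx : x = 1
        · simp [hx]
        by_cases hy : y = 1
        · simp [hy]
        exact Subtype.ext (involutions_commute hS h2 (invol_of_ne_one hS h2 hx) (invol_of_ne_one hS h2 hy)) }
  letI : DistribMulAction ↥(Dbar hS h2) (Additive ↥(invSub hS h2)) :=
    { smul := fun f v => Additive.ofMul ((f : MulAut ↥(invSub hS h2)) v.toMul)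
      one_smul := fun _ => rfl
      mul_smul := fun _ _ _ => rfl
      smul_zero := fun f => congrArg Additive.ofMul (map_one (f : MulAut ↥(invSub hS h2)))
      smul_add := fun f x y =>
        congrArg Additive.ofMul (map_mul (f : MulAut ↥(invSub hS h2)) x.toMul y.toMul) }
  haveI : FaithfulSMul ↥(Dbar hS h2) (Additive ↥(invSub hS h2)) :=
    ⟨fun {f g} h => Subtype.ext (MulEquiv.ext fun z => Additive.ofMul.injective (h (Additive.ofMul z)))⟩
  haveI : Finite (Additive ↥(invSub hS h2)) := inferInstanceAs (Finite ↥(invSub hS h2))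
  have hE : ∀ e : Additive ↥(invSub hS h2), 2 • e = 0 := fun e => by
    rw [two_nsmul]
    exact congrArg Additive.ofMul (Subtype.ext e.toMul.2.2)
  have htrans : ∀ x y : Additive ↥(invSub hS h2), x ≠ 0 → y ≠ 0 → ∃ d : ↥(Dbar hS h2), d • x = y := by
    intro x y hx hy
    obtain ⟨k, ⟨hk, hks⟩, -⟩ := existsUnique_K hS (invol_of_ne_one hS h2 (z := x.toMul) hx)
      (invol_of_ne_one hS h2 (z := y.toMul) hy)
    exact ⟨φ ⟨k, hk.1⟩, congrArg Additive.ofMul (Subtype.ext hks : conjHom hS h2 ⟨k, hk.1⟩ x.toMul = y.toMul)⟩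
  obtain ⟨hcyc, hfpf, -⟩ := TransitiveOdd.main hFT hodd Nat.prime_two hE htrans
  haveI : Group.IsSolvable ↥(Dbar hS h2) := hFT _ hodd
  set F := Cfsg.fittingSubgroup ↥(Dbar hS h2) with hF
  -- `t` induces an automorphism of `Dbar`
  let σ : ↥(twoStab G a t) →* ↥(twoStab G a t) :=
    { toFun := fun d => ⟨t * d * t⁻¹, t_conj_mem' hS d.2⟩
      map_one' := Subtype.ext (by simp)
      map_mul' := fun x y => Subtype.ext (by simp [mul_assoc]) }
  have hker : φ.ker ≤ (φ.comp σ).ker := by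
    intro d hd
    rw [MonoidHom.mem_ker, MonoidHom.comp_apply]
    rw [MonoidHom.mem_ker] at hd
    have : σ d = d := Subtype.ext (kernel_fixed hS h2 d.2 ((toBar_eq_one_iff hS h2).1 hd)).1
    rw [this, hd]
  let τ : ↥(Dbar hS h2) →* ↥(Dbar hS h2) := φ.liftOfSurjective hsurj ⟨φ.comp σ, hker⟩
  have hτ : ∀ d, τ (φ d) = φ (σ d) := fun d => φ.liftOfRightInverse_comp_apply _ _ ⟨φ.comp σ, hker⟩ d
  have hσσ : ∀ d, σ (σ d) = d := fun d => Subtype.ext (by
    show t * (t * d * t⁻¹) * t⁻¹ = d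
    rw [t_inv hS]; simp [mul_assoc, tt_mul hS, hS.mul_self])
  have hττ : ∀ f, τ (τ f) = f := fun f => by
    obtain ⟨d, rfl⟩ := hsurj f
    rw [hτ, hτ, hσσ]
  have hτK : ∀ k : ↥(twoStab G a t), (k : G) ∈ Cfsg.invertedBy (twoStab G a t) t → τ (φ k) = (φ k)⁻¹ := by
    intro k hk
    rw [hτ, ← map_inv]
    exact congrArg φ (Subtype.ext hk.2)
  let τe : ↥(Dbar hS h2) ≃* ↥(Dbar hS h2) :=
    { toFun := τ, invFun := τ, left_inv := hττ, right_inv := hττ, map_mul' := map_mul τ }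
  have hτF : ∀ f ∈ F, τ f ∈ F := by
    intro f hf
    have h : F.map τe.toMonoidHom = F := Cores.map_fittingSubgroup_equiv τe
    exact h ▸ Subgroup.mem_map_of_mem _ hf
  have hcommF : ∀ x ∈ F, ∀ y ∈ F, x * y = y * x := fun x hx y hy => by
    letI := hcyc.commGroup
    exact congrArg Subtype.val (mul_comm (⟨x, hx⟩ : ↥F) ⟨y, hy⟩)
  -- the image of `C_D(t)` meets `F` trivially
  have hVF : ∀ c : ↥(twoStab G a t), t * (c : G) * t⁻¹ = c → φ c ∈ F → φ c = 1 := by
    intro c hc hcF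
    by_contra hne
    have h1 := hfpf _ hcF hne (Additive.ofMul ⟨s, inv_mem_invSub hS h2 hs⟩)
      (congrArg Additive.ofMul (Subtype.ext ((centralizer_t_eq hS hs hr hsr c.2).1 hc)))
    exact hs.2.1 (congrArg Subtype.val h1)
  have hdecomp : ∀ f : ↥(Dbar hS h2), ∃ c k : ↥(twoStab G a t), t * (c : G) * t⁻¹ = c ∧
      (k : G) ∈ Cfsg.invertedBy (twoStab G a t) t ∧ f = φ c * φ k := by
    intro f
    obtain ⟨d, rfl⟩ := hsurj f
    obtain ⟨c, hc, k, hk, hct, hck⟩ := exists_CK hS d.2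
    exact ⟨⟨c, hc⟩, ⟨k, hk.1⟩, hct, hk, by rw [← map_mul]; exact congrArg φ (Subtype.ext hck)⟩
  have hsq : ∀ f : ↥(Dbar hS h2), f * f = 1 → f = 1 := fun f h => eq_one_of_sq
    (H := (⊤ : Subgroup ↥(Dbar hS h2))) (by rwa [Subgroup.card_top]) (Subgroup.mem_top f) h
  -- `t` inverts `F`
  have hinvF : ∀ f ∈ F, τ f = f⁻¹ := by
    intro f hf
    obtain ⟨c, k, hc, hk, hck⟩ := hdecomp (f * τ f)
    have hfix : τ (f * τ f) = f * τ f := by rw [map_mul, hττ, hcommF f hf _ (hτF f hf)]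
    have hτc : τ (φ c) = φ c := by rw [hτ]; exact congrArg φ (Subtype.ext hc)
    rw [hck, map_mul, hτc, hτK k hk] at hfix
    have hk1 : φ k = 1 := hsq _ (by rw [← eq_inv_iff_mul_eq_one]; exact (mul_left_cancel hfix).symm)
    rw [hk1, mul_one] at hck
    have h1 := hVF c hc (hck ▸ F.mul_mem hf (hτF f hf))
    rw [h1] at hck
    exact eq_inv_of_mul_eq_one_right hck
  have hnormal : F.Normal := Cores.fittingSubgroup_normal
  have hmem : ∀ k : ↥(twoStab G a t), (k : G) ∈ Cfsg.invertedBy (twoStab G a t) t → φ k ∈ F := by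
    intro k hk
    have key : ∀ f ∈ F, (φ k * φ k) * f = f * (φ k * φ k) := by
      intro f hf
      have hconj : φ k * f * (φ k)⁻¹ ∈ F := hnormal.conj_mem f hf _
      have h1 := hinvF _ hconj
      rw [map_mul, map_mul, map_inv, hτK k hk, hinvF f hf] at h1
      have h3 : (φ k)⁻¹ * f * φ k = φ k * f * (φ k)⁻¹ := inv_injective (by rw [← h1]; group)
      calc φ k * φ k * f = φ k * (φ k * f * (φ k)⁻¹) * φ k := by group
        _ = φ k * ((φ k)⁻¹ * f * φ k) * φ k := by rw [h3]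
        _ = f * (φ k * φ k) := by group
    have h2' : φ k * φ k ∈ F := Cores.centralizer_fittingSubgroup_le
      (Subgroup.mem_centralizer_iff.2 fun f hf => (key f hf).symm)
    obtain ⟨e, he, hee, n, hn⟩ := exists_sqrt (H := (⊤ : Subgroup ↥(Dbar hS h2))) (by rwa [Subgroup.card_top])
      (Subgroup.mem_top (φ k * φ k))
    rw [← eq_of_sq_eq (H := (⊤ : Subgroup ↥(Dbar hS h2))) (by rwa [Subgroup.card_top]) he (Subgroup.mem_top _)
      hee, hn]
    exact F.pow_mem h2' n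
  refine ⟨F, hnormal, hcyc, hcommF, fun f hf => ?_, hmem⟩
  obtain ⟨c, k, hc, hk, rfl⟩ := hdecomp f
  refine ⟨k, hk, ?_⟩
  have h1 := hVF c hc (by
    have := F.mul_mem hf (F.inv_mem (hmem k hk))
    rwa [mul_inv_cancel_right] at this)
  rw [h1, one_mul]

include hS h2 in
/-- The inverted elements form a cyclic subgroup, normalised by `D`. -/
theorem inverted_cyclic (hFT : Basic.OddOrderSolvable.{u}) :
    ∃ C : Subgroup G, (C : Set G) = Cfsg.invertedBy (twoStab G a t) t ∧ IsCyclic C ∧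
      ∀ d ∈ twoStab G a t, ∀ c ∈ C, d * c * d⁻¹ ∈ C := by
  obtain ⟨F, hF⟩ := exists_barData hS h2 hFT
  set φ := toBar hS h2
  obtain ⟨f₀, hf₀⟩ := hF.cyclic.exists_generator
  obtain ⟨k₀, hk₀, hk₀f⟩ := hF.surj f₀.1 f₀.2
  have hpow : ∀ k : ↥(twoStab G a t), (k : G) ∈ Cfsg.invertedBy (twoStab G a t) t →
      ∃ (i : ℤ) (w : G), (k : G) = w * (k₀ : G) ^ i ∧
        ∀ l ∈ Cfsg.invertedBy (twoStab G a t) t, l * w = w * l := by
    intro k hk
    obtain ⟨i, hi⟩ := Subgroup.mem_zpowers_iff.1 (hf₀ ⟨φ k, hF.mem k hk⟩)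
    refine ⟨i, k * ((k₀ : G) ^ i)⁻¹, by group, (kernel_fixed hS h2
      ((twoStab G a t).mul_mem k.2 ((twoStab G a t).inv_mem ((twoStab G a t).zpow_mem k₀.2 i))) ?_).2⟩
    have : φ (k * (k₀ ^ i)⁻¹) = 1 := by
      rw [map_mul, map_inv, map_zpow, hk₀f, mul_inv_eq_one]
      have := congrArg Subtype.val hi
      rw [SubgroupClass.coe_zpow] at this
      exact this.symm
    exact (toBar_eq_one_iff hS h2).1 this
  have hcomm : ∀ k ∈ Cfsg.invertedBy (twoStab G a t) t, ∀ l ∈ Cfsg.invertedBy (twoStab G a t) t,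
      k * l = l * k := by
    have h0 : ∀ l ∈ Cfsg.invertedBy (twoStab G a t) t, Commute l (k₀ : G) := by
      intro l hl
      obtain ⟨i, w, hw, hwc⟩ := hpow ⟨l, hl.1⟩ hl
      have : l = w * (k₀ : G) ^ i := hw
      rw [this]
      exact Commute.mul_left (hwc _ hk₀).symm ((Commute.refl _).zpow_left i)
    intro k hk l hl
    obtain ⟨i, w, hw, hwc⟩ := hpow ⟨k, hk.1⟩ hk
    have : k = w * (k₀ : G) ^ i := hw
    rw [this]
    exact (Commute.mul_left (hwc l hl).symm ((h0 l hl).symm.zpow_left i)).eq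
  let C : Subgroup G :=
    { carrier := Cfsg.invertedBy (twoStab G a t) t
      one_mem' := ⟨(twoStab G a t).one_mem, by simp⟩
      mul_mem' := by
        intro x y hx hy
        refine ⟨(twoStab G a t).mul_mem hx.1 hy.1, ?_⟩
        rw [← conj_mul, hx.2, hy.2, ← mul_inv_rev, hcomm x hx y hy]
      inv_mem' := fun hx => invertedBy_inv hS hx }
  refine ⟨C, rfl, ?_, ?_⟩
  · haveI := hF.cyclic
    let ι : ↥C →* ↥(twoStab G a t) :=
      { toFun := fun c => ⟨c, c.2.1⟩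
        map_one' := rfl
        map_mul' := fun _ _ => rfl }
    refine isCyclic_of_injective ((φ.comp ι).codRestrict F fun c => hF.mem _ c.2) ?_
    rw [injective_iff_map_eq_one]
    intro c hc
    have h := toBar_inv_injective hS h2 (k := ι c) c.2 (congrArg Subtype.val hc)
    exact Subtype.ext (congrArg (fun z : ↥(twoStab G a t) => (z : G)) h :)
  · intro d hd c hc
    obtain ⟨e, he, k, hk, het, rfl⟩ := exists_CK hS hd
    have h1 : k * c * k⁻¹ = c := mul_inv_eq_iff_eq_mul.2 (hcomm k hk c hc)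
    rw [show e * k * c * (e * k)⁻¹ = e * (k * c * k⁻¹) * e⁻¹ by group, h1]
    refine ⟨(twoStab G a t).mul_mem ((twoStab G a t).mul_mem he hc.1) ((twoStab G a t).inv_mem he), ?_⟩
    calc t * (e * c * e⁻¹) * t⁻¹ = (t * e * t⁻¹) * (t * c * t⁻¹) * (t * e * t⁻¹)⁻¹ := by group
      _ = e * c⁻¹ * e⁻¹ := by rw [het, hc.2]
      _ = _ := by group

theorem exists_card_invSub : ∃ n : ℕ, n ≠ 0 ∧ Nat.card ↥(invSub hS h2) = 2 ^ n := by
  haveI : Fact (Nat.Prime 2) := ⟨Nat.prime_two⟩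
  obtain ⟨n, hn⟩ := IsPGroup.iff_card.1 (show IsPGroup 2 ↥(invSub hS h2) from
    fun z => ⟨1, Subtype.ext (by rw [pow_one, sq]; exact z.2.2)⟩)
  refine ⟨n, fun h => ?_, hn⟩
  obtain ⟨s, hs⟩ := exists_involution hS
  rw [h, pow_zero, Nat.card_eq_one_iff_unique] at hn
  exact hs.2.1 (congrArg Subtype.val (hn.1.elim ⟨s, inv_mem_invSub hS h2 hs⟩ 1))

/-- A group normalising a commutative group of automorphisms transitive on the non-trivial elements of an
elementary abelian 2-group, and fixing one of these elements, acts through a cyclic group. -/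
theorem cyclic_action {A : Type*} [Group A] [Finite A] {n : ℕ} (hn : n ≠ 0) (hcard : Nat.card A = 2 ^ n)
    (hsq : ∀ z : A, z * z = 1) (L : Subgroup (MulAut A)) (hcomm : ∀ k ∈ L, ∀ l ∈ L, k * l = l * k)
    (htrans : ∀ x y : A, x ≠ 1 → y ≠ 1 → ∃ k ∈ L, k x = y) {a₀ : A} (ha₀ : a₀ ≠ 1)
    {V : Type*} [Group V] (ρ : V →* MulAut A) (h₀ : ∀ c, ρ c a₀ = a₀)
    (hnorm : ∀ c, ∀ l ∈ L, ρ c * l * (ρ c)⁻¹ ∈ L) :
    ∃ v : V, ∀ x : V, ∃ i : ℤ, ρ (x * (v ^ i)⁻¹) = 1 := by
  classical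
  haveI : Fact (Nat.Prime 2) := ⟨Nat.prime_two⟩
  obtain ⟨ι, hι, hadd, hι1, -, hιk⟩ := Suzuki2.FieldModel.field_model hn hcard hsq L hcomm htrans ha₀
  let e : A ≃ GaloisField 2 n := Equiv.ofBijective ι hι
  have heι : ∀ z, e z = ι z := fun _ => rfl
  have hmul : ∀ (c : V) (x y : GaloisField 2 n),
      e (ρ c (e.symm (x * y))) = e (ρ c (e.symm x)) * e (ρ c (e.symm y)) := by
    intro c x y
    by_cases hx : e.symm x = 1
    · have : x = 0 := by rw [← e.apply_symm_apply x, hx, heι, hι1]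
      subst this
      rw [zero_mul, hx, map_one, heι, hι1, zero_mul]
    obtain ⟨k, hk, hkx⟩ := htrans a₀ _ ha₀ hx
    have h1 : e.symm (x * y) = k (e.symm y) := e.injective (by
      rw [e.apply_symm_apply, heι, hιk k hk, hkx, ← heι, ← heι, e.apply_symm_apply, e.apply_symm_apply])
    have h2 : ∀ z, ρ c (k z) = (ρ c * k * (ρ c)⁻¹) (ρ c z) := fun z => by
      rw [MulAut.mul_apply, MulAut.mul_apply, MulAut.inv_apply_self]
    rw [h1, h2, heι, hιk _ (hnorm c k hk), ← hkx, h2 a₀, h₀]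
    rfl
  let R : V → (GaloisField 2 n ≃+* GaloisField 2 n) := fun c =>
    { toFun := fun x => e (ρ c (e.symm x))
      invFun := fun x => e ((ρ c).symm (e.symm x))
      left_inv := fun x => by simp
      right_inv := fun x => by simp
      map_mul' := hmul c
      map_add' := fun x y => by
        have : e.symm (x + y) = e.symm x * e.symm y := e.injective (by
          rw [e.apply_symm_apply, heι, hadd, ← heι, ← heι, e.apply_symm_apply, e.apply_symm_apply])
        rw [this, map_mul, heι, hadd]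
        rfl }
  have hR : ∀ c x, R c x = e (ρ c (e.symm x)) := fun _ _ => rfl
  let Φ : V →* (GaloisField 2 n ≃ₐ[ZMod 2] GaloisField 2 n) :=
    { toFun := fun c => AlgEquiv.ofRingEquiv (f := R c)
        (fun x => DFunLike.congr_fun (Subsingleton.elim ((R c).toRingHom.comp (algebraMap (ZMod 2) (GaloisField 2 n)))
          (algebraMap (ZMod 2) (GaloisField 2 n))) x)
      map_one' := AlgEquiv.ext fun x => by
        show R 1 x = x
        rw [hR, map_one, MulAut.one_apply, e.apply_symm_apply]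
      map_mul' := fun c d => AlgEquiv.ext fun x => by
        show R (c * d) x = R c (R d x)
        rw [hR, hR, hR, e.symm_apply_apply, map_mul, MulAut.mul_apply] }
  obtain ⟨g, hg⟩ := (IsCyclic.exists_generator : ∃ g : ↥Φ.range, ∀ x, x ∈ Subgroup.zpowers g)
  obtain ⟨v, hv⟩ := g.2
  refine ⟨v, fun x => ?_⟩
  obtain ⟨i, hi⟩ := Subgroup.mem_zpowers_iff.1 (hg ⟨Φ x, ⟨_, rfl⟩⟩)
  have h1 : Φ (x * (v ^ i)⁻¹) = 1 := by
    rw [map_mul, map_inv, map_zpow, hv, mul_inv_eq_one]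
    have := congrArg Subtype.val hi
    rw [SubgroupClass.coe_zpow] at this
    exact this.symm
  refine ⟨i, MulEquiv.ext fun z => e.injective ?_⟩
  have h2 : R (x * (v ^ i)⁻¹) (e z) = e z := AlgEquiv.congr_fun h1 (e z)
  rwa [hR, e.symm_apply_apply] at h2

include hS h2 in
/-- `C_D(t)` modulo the centraliser of the involutions is cyclic. -/
theorem centralizer_cyclic (hFT : Basic.OddOrderSolvable.{u}) :
    ∃ v ∈ twoStab G a t ⊓ Subgroup.centralizer {t},
      (twoStab G a t ⊓ Subgroup.centralizer {t} ⊓ Subgroup.centralizer (Cfsg.invertedBy (twoStab G a t) t)) ⊔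
          Subgroup.closure {v} =
        twoStab G a t ⊓ Subgroup.centralizer {t} := by
  classical
  obtain ⟨F, hF⟩ := exists_barData hS h2 hFT
  obtain ⟨⟨s, r⟩, ⟨hs, hr, hsr⟩, -⟩ := structure_equation hS
  simp only at hs hr hsr
  obtain ⟨n, hn, hcard⟩ := exists_card_invSub hS h2
  haveI : Fact (Nat.Prime 2) := ⟨Nat.prime_two⟩
  set a₀ : ↥(invSub hS h2) := ⟨s, inv_mem_invSub hS h2 hs⟩ with ha₀
  have ha₀1 : a₀ ≠ 1 := fun h => hs.2.1 (congrArg Subtype.val h)
  have hLmem : ∀ k : ↥(twoStab G a t), (k : G) ∈ Cfsg.invertedBy (twoStab G a t) t →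
      conjHom hS h2 k ∈ F.map (Dbar hS h2).subtype := fun k hk => ⟨_, hF.mem k hk, rfl⟩
  have hLex : ∀ z : ↥(invSub hS h2), z ≠ 1 → ∃ k : ↥(twoStab G a t),
      (k : G) ∈ Cfsg.invertedBy (twoStab G a t) t ∧ conjHom hS h2 k a₀ = z := by
    intro z hz
    obtain ⟨k, ⟨hk, hks⟩, -⟩ := existsUnique_K hS hs (invol_of_ne_one hS h2 hz)
    exact ⟨⟨k, hk.1⟩, hk, Subtype.ext hks⟩
  set V := twoStab G a t ⊓ Subgroup.centralizer {t} with hV
  let ρ : ↥V →* MulAut ↥(invSub hS h2) := (conjHom hS h2).comp (Subgroup.inclusion inf_le_left)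
  obtain ⟨v, hv⟩ := cyclic_action hn hcard (fun z => Subtype.ext z.2.2) (F.map (Dbar hS h2).subtype)
    (by
      rintro _ ⟨x, hx, rfl⟩ _ ⟨y, hy, rfl⟩
      rw [← map_mul, ← map_mul, hF.comm x hx y hy])
    (by
      intro x y hx hy
      obtain ⟨k, hk, hkx⟩ := hLex x hx
      obtain ⟨l, hl, hly⟩ := hLex y hy
      refine ⟨_, (F.map (Dbar hS h2).subtype).mul_mem (hLmem l hl)
        ((F.map (Dbar hS h2).subtype).inv_mem (hLmem k hk)), ?_⟩
      rw [MulAut.mul_apply, ← hkx, MulAut.inv_apply_self, hly])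
    ha₀1 ρ
    (fun c => Subtype.ext ((centralizer_t_eq hS hs hr hsr c.2.1).1 ((centralizer_t_iff hS).1 c.2).2))
    (by
      rintro c _ ⟨x, hx, rfl⟩
      refine ⟨_, hF.normal.conj_mem x hx (toBar hS h2 (Subgroup.inclusion inf_le_left c)), ?_⟩
      rw [map_mul, map_mul, map_inv, Subgroup.coe_subtype, MonoidHom.coe_rangeRestrict]
      rw [MonoidHom.comp_apply])
  refine ⟨v, v.2, le_antisymm (sup_le inf_le_left (by rw [Subgroup.closure_le, Set.singleton_subset_iff]; exact v.2))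
    fun x hx => ?_⟩
  obtain ⟨i, hi⟩ := hv ⟨x, hx⟩
  have hW : x * ((v : G) ^ i)⁻¹ ∈ V ⊓ Subgroup.centralizer (Cfsg.invertedBy (twoStab G a t) t) := by
    rw [(Cfsg.Agent.S1127.result hS).2]
    refine ⟨(twoStab G a t).mul_mem hx.1 ((twoStab G a t).inv_mem ((twoStab G a t).zpow_mem v.2.1 i)), ?_⟩
    rw [MonoidHom.comp_apply, conjHom_eq_one_iff, Subgroup.coe_inclusion, Subgroup.coe_mul, InvMemClass.coe_inv,
      SubgroupClass.coe_zpow] at hi
    exact hi
  rw [show x = x * ((v : G) ^ i)⁻¹ * (v : G) ^ i by group]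
  have hvi : (v : G) ^ i ∈ Subgroup.closure {(v : G)} := Subgroup.mem_closure_singleton.2 ⟨i, rfl⟩
  refine mul_mem (Subgroup.mem_sup_left ?_) (Subgroup.mem_sup_right hvi)
  exact hW

include hS h2 in
/-- A Sylow 2-subgroup of `Q` is abelian or a Suzuki 2-group. -/
theorem sylow_two [FaithfulSMul G Ω] (hFT : Basic.OddOrderSolvable.{u}) (S : Sylow 2 ↥Q) :
    IsMulCommutative (S : Subgroup ↥Q) ∨ Cfsg.IsSuzukiTwoGroup ↥(S : Subgroup ↥Q) := by
  classical
  haveI : Fact (Nat.Prime 2) := ⟨Nat.prime_two⟩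
  refine or_iff_not_imp_left.2 fun hnc => ?_
  haveI : Group.IsNilpotent ↥Q := nilpotent hS h2
  haveI hn : (S : Subgroup ↥Q).Normal := S.normal_of_normalizerCondition Group.normalizerCondition_of_isNilpotent
  haveI hch : (S : Subgroup ↥Q).Characteristic := S.characteristic_of_normal hn
  obtain ⟨C, hC, hCcyc, -⟩ := inverted_cyclic hS h2 hFT
  have hCK : ∀ {k : G}, k ∈ C → k ∈ Cfsg.invertedBy (twoStab G a t) t := fun h => hC ▸ h
  have hmemS : ∀ x : ↥Q, x * x = 1 → x ∈ (S : Subgroup ↥Q) := by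
    intro x hx
    have hp : IsPGroup 2 (Subgroup.zpowers x) := fun z => ⟨1, Subtype.ext (by
      obtain ⟨j, hj⟩ := z.2
      rw [pow_one, Subgroup.coe_pow, ← hj, Subgroup.coe_one]
      show (x ^ j) ^ 2 = 1
      rw [← zpow_natCast, ← zpow_mul, mul_comm, zpow_mul, zpow_natCast, sq, hx, one_zpow])⟩
    obtain ⟨P, hP⟩ := hp.exists_le_sylow
    haveI : Subsingleton (Sylow 2 ↥Q) := (Sylow.unique_of_normal S hn).instSubsingleton
    exact Subsingleton.elim P S ▸ hP (Subgroup.mem_zpowers x)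
  have hQn : C ≤ Subgroup.normalizer (Q : Set G) := by
    intro k hk
    rw [Subgroup.mem_normalizer_iff]
    refine fun x => ⟨twoStab_norm hS (hCK hk).1, fun h => ?_⟩
    have := twoStab_norm' hS (hCK hk).1 h
    rwa [show k⁻¹ * (k * x * k⁻¹) * k = x by group] at this
  let η : ↥C →* MulAut ↥Q := Q.normalizerMonoidHom.comp (Subgroup.inclusion hQn)
  let θ : ↥C →* MulAut ↥(S : Subgroup ↥Q) :=
    { toFun := fun c => (η c).subgroupMap _ |>.trans
        (MulEquiv.subgroupCongr (Subgroup.characteristic_iff_map_eq.1 hch (η c)))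
      map_one' := MulEquiv.ext fun x => Subtype.ext (Subtype.ext
        (show (1 : G) * ((x : ↥Q) : G) * (1 : G)⁻¹ = ((x : ↥Q) : G) by simp))
      map_mul' := fun c d => MulEquiv.ext fun x => Subtype.ext (Subtype.ext
        (show (c : G) * d * ((x : ↥Q) : G) * ((c : G) * d)⁻¹ = c * (d * ((x : ↥Q) : G) * (d : G)⁻¹) * (c : G)⁻¹ by
          group)) }
  have hθ : ∀ (c : ↥C) (x : ↥(S : Subgroup ↥Q)),
      ((θ c x : ↥Q) : G) = (c : G) * ((x : ↥Q) : G) * (c : G)⁻¹ := fun _ _ => rfl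
  have hI : ∀ x : ↥(S : Subgroup ↥Q), x ≠ 1 → x * x = 1 →
      ((x : ↥Q) : G) ∈ Cfsg.involutionsIn (stabilizer G a : Set G) := fun x hx1 hx =>
    ⟨hS.le (x : ↥Q).2, fun h => hx1 (Subtype.ext (Subtype.ext h)),
      congrArg (fun z : ↥(S : Subgroup ↥Q) => ((z : ↥Q) : G)) hx⟩
  refine ⟨inferInstance, S.2, ?_, ?_, θ.range, ?_, ?_⟩
  · by_contra h
    push Not at h
    exact hnc ⟨⟨h⟩⟩
  · obtain ⟨s, s', hs, hs', hne⟩ := exists_two_involutions hS h2
    have hsQ := involutions_stab_mem_Q hS hs.1 hs.2.2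
    have hs'Q := involutions_stab_mem_Q hS hs'.1 hs'.2.2
    refine ⟨⟨⟨s, hsQ⟩, hmemS _ (Subtype.ext hs.2.2)⟩, ⟨⟨s', hs'Q⟩, hmemS _ (Subtype.ext hs'.2.2)⟩,
      fun h => hne (congrArg (fun z : ↥(S : Subgroup ↥Q) => ((z : ↥Q) : G)) h), ?_, ?_, ?_, ?_⟩
    · exact fun h => hs.2.1 (congrArg (fun z : ↥(S : Subgroup ↥Q) => ((z : ↥Q) : G)) h)
    · exact Subtype.ext (Subtype.ext hs.2.2)
    · exact fun h => hs'.2.1 (congrArg (fun z : ↥(S : Subgroup ↥Q) => ((z : ↥Q) : G)) h)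
    · exact Subtype.ext (Subtype.ext hs'.2.2)
  · haveI := hCcyc
    exact isCyclic_of_surjective θ.rangeRestrict θ.rangeRestrict_surjective
  · intro x y hx1 hx hy1 hy
    obtain ⟨k, ⟨hk, hks⟩, huniq⟩ := existsUnique_K hS (hI x hx1 hx) (hI y hy1 hy)
    have hkC : k ∈ C := by rw [← SetLike.mem_coe, hC]; exact hk
    refine ⟨⟨θ ⟨k, hkC⟩, ⟨_, rfl⟩⟩, Subtype.ext (Subtype.ext ((hθ _ x).trans hks)), ?_⟩
    rintro ⟨_, ⟨l, rfl⟩⟩ hl
    have hlk : (l : G) = k := huniq l ⟨hCK l.2,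
      (hθ l x).symm.trans (congrArg (fun z : ↥(S : Subgroup ↥Q) => ((z : ↥Q) : G)) hl)⟩
    exact Subtype.ext (congrArg θ (Subtype.ext hlk))

end Cfsg.Agent.Lib.FTDeps.RankOneCore
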