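import Cfsg.Agent.Lib.FTDeps.Basic
import Cfsg.Agent.Lib.Signalizer.Complete
import Cfsg.Agent.Lib.Balance.Connected
import Cfsg.Agent.Lib.PLocal.Constrained
import Cfsg.Agent.Lib.PSolvable.HallHigman
import Cfsg.Agent.Lib.PGroups.Omega
import Cfsg.Agent.Lib.PGroups.ElemAb

/-!
# S3110 modulo the odd order theorem

Cores of centralizers generate one odd subgroup when all 2-locals are 2-constrained.
-/

set_option autoImplicit false
set_option linter.style.haveILetI false
open Cfsg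
open Cfsg.Agent.Lib
open Cfsg.Agent.Lib.Balance (valueSup)

namespace Cfsg.Agent.Lib.FTDeps.Row3110

universe u

/-- A `p`-constrained group has trivial `p`-layer. -/
theorem pLayer_eq_bot_of_isPConstrained {G : Type*} [Group G] [Finite G] {p : ℕ} [hp : Fact p.Prime]
    (h : IsPConstrained p G) : pLayer p G = ⊥ := by
  rw [PSolvable.isPConstrained_iff] at h
  refine sSup_eq_bot.2 fun K hK => ?_
  exfalso
  haveI : Group.IsNilpotent ↥(pCore p (G ⧸ pPrimeCore p G)) :=
    (Cores.pCore_isPGroup p).isNilpotent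
  refine Components.Component.not_le_of_isSolvable hK.2.1 (N := pCore p (G ⧸ pPrimeCore p G)) ?_
  rw [← Balance.centralizer_pCore_le_iff.1 h]
  exact le_sup_of_le_left (Components.Layer.component_le_layer hK.2.1)

variable {G : Type u} [Group G]

/-- Balance for an arbitrary `p`-element `a`. -/
theorem balance_pElement [Finite G] {p : ℕ} [hp : Fact p.Prime] {a b : G}
    (ha : IsPGroup p ↥(Subgroup.zpowers a)) (hab : a * b = b * a)
    (h : pLayer p ↥(Subgroup.centralizer ({b} : Set G)) = ⊥) :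
    centralizerPPrimeCore p a ⊓ Subgroup.centralizer ({b} : Set G) ≤ centralizerPPrimeCore p b := by
  set C := Subgroup.centralizer ({b} : Set G) with hC
  have haC : a ∈ C := Subgroup.mem_centralizer_singleton_iff.2 hab
  set P := Subgroup.zpowers (⟨a, haC⟩ : ↥C) with hP
  have hPp : IsPGroup p ↥P := by
    obtain ⟨n, hn⟩ := IsPGroup.iff_card.1 ha
    refine IsPGroup.of_card (n := n) ?_
    rw [hP, Nat.card_zpowers, ← Subgroup.orderOf_coe]
    rw [Nat.card_zpowers] at hn
    exact hn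
  rintro y ⟨hya, hyb⟩
  have hW : (centralizerPPrimeCore p a).subgroupOf C ≤
      Balance.coreIn p (Subgroup.centralizer (P : Set ↥C)) := by
    have hcP : Subgroup.centralizer (P : Set ↥C) = Subgroup.centralizer ({⟨a, haC⟩} : Set ↥C) := by
      rw [hP, Subgroup.zpowers_eq_closure, Subgroup.centralizer_closure]
    rw [hcP]
    refine Balance.le_coreIn ?_ ?_ ?_
    · intro z hz
      exact Subgroup.mem_centralizer_singleton_iff.2
        (Subtype.ext (Subgroup.mem_centralizer_singleton_iff.1 (Balance.centralizerPPrimeCore_le a hz)))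
    · intro z hz
      have h1 : (z : G) ∈ Subgroup.centralizer ({a} : Set G) :=
        Subgroup.mem_centralizer_singleton_iff.2
          (congrArg Subtype.val (Subgroup.mem_centralizer_singleton_iff.1 hz))
      exact Subgroup.mem_normalizer_iff.2 fun w => Subgroup.mem_normalizer_iff.1
        (Balance.centralizer_le_normalizer_centralizerPPrimeCore a h1) (w : G)
    · refine (Balance.coreIn_coprime (p := p) (Subgroup.centralizer ({a} : Set G))).coprime_dvd_left ?_
      rw [← Subgroup.card_map_of_injective (f := C.subtype) C.subtype_injective,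
        Subgroup.subgroupOf_map_subtype]
      exact Subgroup.card_dvd_of_le inf_le_left
  have hle : Balance.coreIn p (Subgroup.centralizer (P : Set ↥C)) ≤ pPrimeCore p ↥C :=
    (Balance.coreIn_le_coreIn (Subgroup.centralizer_le_normalizer _)
      ((Subgroup.normal_subgroupOf_iff_le_normalizer (Subgroup.centralizer_le_normalizer _)).1
        (Subgroup.normal_subgroupOf_centralizer_normalizer _))).trans
      (Balance.pLayer_eq_bot_local h hPp).2
  exact ⟨⟨y, hyb⟩, hle (hW (show (⟨y, hyb⟩ : ↥C) ∈ (centralizerPPrimeCore p a).subgroupOf C from hya)), rfl⟩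

theorem normalizer_zpowers_eq_centralizer {b : G} (hb : orderOf b = 2) :
    Subgroup.normalizer ((Subgroup.zpowers b : Subgroup G) : Set G) =
      Subgroup.centralizer ({b} : Set G) := by
  refine le_antisymm (fun g hg => ?_) ?_
  · have h1 : g * b * g⁻¹ ∈ Subgroup.zpowers b :=
      (Subgroup.mem_normalizer_iff.1 hg b).1 (Subgroup.mem_zpowers b)
    obtain ⟨k, hk⟩ := Subgroup.mem_zpowers_iff.1 h1
    rcases Int.even_or_odd k with ⟨m, hm⟩ | ⟨m, hm⟩
    · exfalso
      have h2 : b ^ (2 : ℤ) = 1 := by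
        rw [show (2 : ℤ) = ((2 : ℕ) : ℤ) by rfl, zpow_natCast, ← hb, pow_orderOf_eq_one]
      have h3 : g * b * g⁻¹ = 1 := by
        rw [← hk, hm, ← two_mul, zpow_mul, h2, one_zpow]
      rw [mul_inv_eq_one] at h3
      rw [mul_eq_left] at h3
      rw [h3, orderOf_one] at hb
      omega
    · have h2 : b ^ (2 : ℤ) = 1 := by
        rw [show (2 : ℤ) = ((2 : ℕ) : ℤ) by rfl, zpow_natCast, ← hb, pow_orderOf_eq_one]
      rw [hm, zpow_add, zpow_mul, h2, one_zpow, one_mul, zpow_one] at hk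
      exact Subgroup.mem_centralizer_singleton_iff.2 (by
        have := congrArg (· * g) hk
        simpa using this.symm)
  · rw [Subgroup.zpowers_eq_closure, ← Subgroup.centralizer_closure]
    exact Subgroup.centralizer_le_normalizer _

section two

variable [Finite G]

theorem functor_of_locals (hFT : Basic.OddOrderSolvable.{u})
    (hL : ∀ b : G, orderOf b = 2 → pLayer 2 ↥(Subgroup.centralizer ({b} : Set G)) = ⊥)
    {B : Subgroup G} (hB : IsElementaryAbelian 2 B) :
    IsSolvableSignalizerFunctor 2 B (fun x : G => centralizerPPrimeCore 2 x) := by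
  haveI : Fact (Nat.Prime 2) := ⟨Nat.prime_two⟩
  refine ⟨⟨fun b _ _ => Balance.centralizerPPrimeCore_le b,
    fun b _ _ => Balance.not_dvd_card_centralizerPPrimeCore b, fun b hb _ c hc x hx => ?_,
    fun b hb hb1 c hc hc1 => Balance.balance_of_pLayer_eq_bot (PGroups.elemAb_orderOf hB hb hb1)
      (PGroups.elemAb_comm hB hb hc) (hL c (PGroups.elemAb_orderOf hB hc hc1))⟩,
    fun b _ _ => hFT _ ?_⟩
  · exact (Subgroup.mem_normalizer_iff.1 (Balance.centralizer_le_normalizer_centralizerPPrimeCore b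
      (Subgroup.mem_centralizer_singleton_iff.2 (PGroups.elemAb_comm hB hc hb))) x).1 hx
  · rw [← Nat.not_even_iff_odd, even_iff_two_dvd]
    exact Balance.not_dvd_card_centralizerPPrimeCore b

theorem valueSup_eq_of_le (hFT : Basic.OddOrderSolvable.{u})
    (hL : ∀ b : G, orderOf b = 2 → pLayer 2 ↥(Subgroup.centralizer ({b} : Set G)) = ⊥)
    {E B : Subgroup G} (hB : IsElementaryAbelian 2 B) (h3 : 8 ≤ Nat.card ↥B) (hEB : E ≤ B)
    (h2 : 4 ≤ Nat.card ↥E) :
    valueSup (fun x : G => centralizerPPrimeCore 2 x) E =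
        valueSup (fun x : G => centralizerPPrimeCore 2 x) B ∧
      Odd (Nat.card ↥(valueSup (fun x : G => centralizerPPrimeCore 2 x) B)) := by
  haveI : Fact (Nat.Prime 2) := ⟨Nat.prime_two⟩
  set θ : G → Subgroup G := fun x : G => centralizerPPrimeCore 2 x with hθ
  have hfun : IsSolvableSignalizerFunctor 2 B θ := functor_of_locals hFT hL hB
  obtain ⟨hm, hWC⟩ := Signalizer.Completes.closure hB h3 hfun.1 (Signalizer.completes hB h3 hfun)
  have hW : ¬ 2 ∣ Nat.card ↥(valueSup θ B) := hm.2.1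
  refine ⟨le_antisymm (iSup_le fun e =>
      le_iSup (fun a : {a : G // a ∈ B ∧ a ≠ 1} => θ a) ⟨e, hEB e.2.1, e.2.2⟩) ?_,
    by rwa [← Nat.not_even_iff_odd, even_iff_two_dvd]⟩
  have hE := PGroups.elemAb_mono hB hEB
  haveI := hE.1
  have hncyc : ¬ IsCyclic ↥E := by
    intro hcyc
    have := Nat.le_of_dvd (by omega) (PGroups.elemAb_card_dvd_of_isCyclic hE)
    omega
  have hEW : E ≤ Subgroup.normalizer ((valueSup θ B : Subgroup G) : Set G) := by
    intro g hg
    rw [Subgroup.mem_normalizer_iff_map_conj_eq]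
    refine Subgroup.eq_of_le_of_card_ge ?_
      (Subgroup.card_map_of_injective (MulAut.conj g).injective).ge
    rw [valueSup, Subgroup.map_iSup]
    refine iSup_mono fun b => ?_
    rintro _ ⟨x, hx, rfl⟩
    exact hfun.1.2.2.1 b b.2.1 b.2.2 g (hEB hg) x hx
  obtain ⟨m, hm'⟩ := IsPGroup.iff_card.1 (PGroups.elemAb_isPGroup hE)
  have hcop : (Nat.card ↥E).Coprime (Nat.card ↥(valueSup θ B)) := by
    rw [hm']; exact (Nat.prime_two.coprime_iff_not_dvd.2 hW).pow_left m
  rw [← Coprime.iSup_centralizer_eq hncyc hEW hcop]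
  refine iSup₂_le fun e he => ?_
  show signalizerClosure B θ ⊓ _ ≤ _
  rw [hWC e (hEB he.1) he.2]
  exact le_iSup (fun a : {a : G // a ∈ E ∧ a ≠ 1} => θ a) ⟨e, he.1, he.2⟩

end two

theorem card_ge_double [Finite G] {B : Subgroup G} (hB : IsElementaryAbelian 2 B) {x : G}
    (hx : x ^ 2 = 1) (hxB : x ∉ B) (hc : ∀ b ∈ B, b * x = x * b) :
    IsElementaryAbelian 2 (B ⊔ Subgroup.zpowers x) ∧
      Nat.card ↥B * 2 ≤ Nat.card ↥(B ⊔ Subgroup.zpowers x : Subgroup G) := by
  haveI : Fact (Nat.Prime 2) := ⟨Nat.prime_two⟩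
  have hs : IsElementaryAbelian 2 (B ⊔ Subgroup.zpowers x) :=
    PGroups.elemAb_sup hB (PGroups.elemAb_zpowers hx) (by
      intro a ha b hb
      obtain ⟨k, rfl⟩ := Subgroup.mem_zpowers_iff.1 hb
      exact (show Commute a x from hc a ha).zpow_right k)
  exact ⟨hs, PGroups.card_mul_le_card_of_mem le_sup_left (PGroups.elemAb_isPGroup hs)
    (Subgroup.mem_sup_right (Subgroup.mem_zpowers x)) hxB⟩

/-- An involution acting on an elementary abelian group of order at least 8 fixes more than two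
elements. -/
theorem exists_fixed [Finite G] {A₀ : Subgroup G} (hA : IsElementaryAbelian 2 A₀)
    (h8 : 8 ≤ Nat.card ↥A₀) {f z : G} (hf : f ^ 2 = 1)
    (hfA : ∀ a ∈ A₀, f * a * f⁻¹ ∈ A₀) :
    ∃ w ∈ A₀, w ≠ 1 ∧ w ≠ z ∧ f * w = w * f := by
  haveI := hA.1
  let φ : ↥A₀ →* ↥A₀ :=
    { toFun := fun a => a * ⟨f * a * f⁻¹, hfA a a.2⟩
      map_one' := Subtype.ext (by simp)
      map_mul' := fun a b => Subtype.ext (by
        have h1 : (b : G) * (f * a * f⁻¹) = (f * a * f⁻¹) * b :=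
          PGroups.elemAb_comm hA b.2 (hfA a a.2)
        show (a : G) * b * (f * ((a : G) * b) * f⁻¹) = a * (f * a * f⁻¹) * (b * (f * b * f⁻¹))
        calc (a : G) * b * (f * ((a : G) * b) * f⁻¹)
            = a * ((b : G) * (f * a * f⁻¹)) * (f * b * f⁻¹) := by group
          _ = a * ((f * a * f⁻¹) * b) * (f * b * f⁻¹) := by rw [h1]
          _ = a * (f * a * f⁻¹) * (b * (f * b * f⁻¹)) := by group) }
  have hff : f⁻¹ = f := inv_eq_of_mul_eq_one_right (by rw [← pow_two, hf])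
  have hker : ∀ a : ↥A₀, a ∈ φ.ker ↔ f * (a : G) = a * f := by
    intro a
    have h2 : (a : G)⁻¹ = a :=
      inv_eq_of_mul_eq_one_right (by rw [← pow_two]; exact PGroups.elemAb_pow hA a.2)
    rw [MonoidHom.mem_ker, Subtype.ext_iff]
    show (a : G) * (f * a * f⁻¹) = 1 ↔ _
    rw [mul_eq_one_iff_inv_eq, h2]
    constructor
    · intro h
      exact (mul_inv_eq_iff_eq_mul.1 h.symm)
    · intro h
      exact (mul_inv_eq_iff_eq_mul.2 h).symm
  have hrange : φ.range ≤ φ.ker := by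
    rintro _ ⟨a, rfl⟩
    rw [hker]
    show f * ((a : G) * (f * a * f⁻¹)) = (a : G) * (f * a * f⁻¹) * f
    rw [PGroups.elemAb_comm hA a.2 (hfA a a.2), hff]
    have hf2 : f * f = 1 := by rw [← pow_two, hf]
    calc f * (f * ↑a * f * ↑a) = (f * f) * ↑a * f * ↑a := by group
      _ = ↑a * f * ↑a * (f * f) := by rw [hf2, one_mul, mul_one]
      _ = ↑a * f * ↑a * f * f := by group
      _ = f * ↑a * f * ↑a * f := by
        have hc' := PGroups.elemAb_comm hA a.2 (hfA a a.2)
        rw [hff] at hc'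
        calc ↑a * f * ↑a * f * f = ↑a * (f * ↑a * f) * f := by group
          _ = _ := by rw [hc']
  have hcard : Nat.card ↥A₀ ≤ Nat.card ↥φ.ker * Nat.card ↥φ.ker := by
    rw [← Subgroup.card_mul_index φ.ker, Subgroup.index_ker]
    exact Nat.mul_le_mul_left _ (Subgroup.card_le_of_le hrange)
  by_contra hne
  push Not at hne
  have hsub : (φ.ker : Set ↥A₀) ⊆ ↑({1} ∪ {a : ↥A₀ | (a : G) = z}) := by
    intro a ha
    by_cases h1 : (a : G) = 1
    · exact Or.inl (Subtype.ext h1)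
    · refine Or.inr ?_
      by_contra h2
      exact hne a a.2 h1 h2 ((hker a).1 ha)
  have hle : Nat.card ↥φ.ker ≤ 2 := by
    have h1 := Set.ncard_le_ncard hsub (Set.toFinite _)
    have h2 : ({a : ↥A₀ | (a : G) = z}).ncard ≤ 1 := by
      rw [Set.ncard_le_one (Set.toFinite _)]
      intro a ha b hb
      exact Subtype.ext (ha.trans hb.symm)
    have h3 := Set.ncard_union_le ({1} : Set ↥A₀) {a : ↥A₀ | (a : G) = z}
    rw [Set.ncard_singleton] at h3
    have h4 : Nat.card ↥φ.ker = (φ.ker : Set ↥A₀).ncard := (Nat.card_coe_set_eq _)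
    omega
  have := Nat.mul_le_mul hle hle
  omega

/-- The transported elementary normal subgroup. -/
theorem exists_normal_elem [Finite G] (S : Sylow 2 G) (A : Subgroup ↥(S : Subgroup G))
    (hAn : A.Normal) (hAab : IsMulCommutative ↥A) (hA3 : ¬ Cfsg.PRankLE 2 2 ↥A) (S' : Sylow 2 G) :
    ∃ A₀ : Subgroup G, A₀ ≤ (S' : Subgroup G) ∧ IsElementaryAbelian 2 A₀ ∧
      8 ≤ Nat.card ↥A₀ ∧ ∀ s ∈ (S' : Subgroup G), ∀ a ∈ A₀, s * a * s⁻¹ ∈ A₀ := by
  haveI : Fact (Nat.Prime 2) := ⟨Nat.prime_two⟩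
  haveI := hAab
  obtain ⟨g, hg⟩ := MulAction.exists_smul_eq G S S'
  let T : Subgroup G :=
    { carrier := {x | x ∈ A.map (S : Subgroup G).subtype ∧ x ^ 2 = 1}
      one_mem' := ⟨one_mem _, one_pow 2⟩
      mul_mem' := by
        rintro _ _ ⟨⟨a, ha, rfl⟩, ha2⟩ ⟨⟨b, hb, rfl⟩, hb2⟩
        have hc : Commute ((S : Subgroup G).subtype a) ((S : Subgroup G).subtype b) :=
          (show Commute a b from setLike_mul_comm ha hb).map _
        exact ⟨mul_mem ⟨a, ha, rfl⟩ ⟨b, hb, rfl⟩, by rw [hc.mul_pow, ha2, hb2, one_mul]⟩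
      inv_mem' := by
        rintro x ⟨hx, hx2⟩
        exact ⟨inv_mem hx, by rw [inv_pow, hx2, inv_one]⟩ }
  have hTS : T ≤ (S : Subgroup G) := fun x hx => Subgroup.map_subtype_le A hx.1
  have hTe : IsElementaryAbelian 2 T := by
    refine PGroups.elemAb_mk ?_ fun a ha => ha.2
    rintro _ ⟨⟨a, ha, rfl⟩, _⟩ _ ⟨⟨b, hb, rfl⟩, _⟩
    exact ((show Commute a b from setLike_mul_comm ha hb).map (S : Subgroup G).subtype)
  have hT8 : 8 ≤ Nat.card ↥T := by
    unfold PRankLE at hA3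
    push Not at hA3
    obtain ⟨E, hEc, hE2, hEcard⟩ := hA3
    obtain ⟨m, hm⟩ := IsPGroup.iff_card.1
      (PGroups.elemAb_isPGroup (show IsElementaryAbelian 2 E from ⟨hEc, hE2⟩))
    have h3 : 3 ≤ m := by
      by_contra h
      have : 2 ^ m ≤ 2 ^ 2 := Nat.pow_le_pow_right two_pos (by omega)
      omega
    have h8 : 8 ≤ Nat.card ↥E := by
      rw [hm]; exact le_trans (by norm_num) (Nat.pow_le_pow_right two_pos h3)
    refine h8.trans ?_
    rw [← Subgroup.card_map_of_injective (f := (S : Subgroup G).subtype.comp A.subtype)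
      ((S : Subgroup G).subtype_injective.comp A.subtype_injective)]
    refine Subgroup.card_le_of_le ?_
    rintro _ ⟨e, he, rfl⟩
    refine ⟨⟨e, e.2, rfl⟩, ?_⟩
    rw [← map_pow, hE2 e he, map_one]
  have hTn : ∀ s ∈ (S : Subgroup G), ∀ a ∈ T, s * a * s⁻¹ ∈ T := by
    rintro s hs _ ⟨⟨a, ha, rfl⟩, ha2⟩
    refine ⟨⟨⟨s, hs⟩ * a * ⟨s, hs⟩⁻¹, hAn.conj_mem a ha _, rfl⟩, ?_⟩
    rw [conj_pow, ha2, mul_one, mul_inv_cancel]
  have hS' : ∀ x, x ∈ (S' : Subgroup G) ↔ g⁻¹ * x * g ∈ (S : Subgroup G) := by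
    intro x
    rw [← hg, Sylow.coe_subgroup_smul, Subgroup.mem_pointwise_smul_iff_inv_smul_mem]
    simp [MulAut.smul_def]
  refine ⟨T.map (MulAut.conj g).toMonoidHom, ?_, PGroups.elemAb_conj g hTe, ?_, ?_⟩
  · rintro _ ⟨x, hx, rfl⟩
    rw [hS']
    simpa [MulAut.conj_apply, mul_assoc] using hTS hx
  · rw [Subgroup.card_map_of_injective (MulAut.conj g).injective]
    exact hT8
  · rintro s hs _ ⟨x, hx, rfl⟩
    refine ⟨(g⁻¹ * s * g) * x * (g⁻¹ * s * g)⁻¹, hTn _ ((hS' s).1 hs) x hx, ?_⟩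
    simp [MulAut.conj_apply]
    group

theorem cores_generate_of_pLayer (hFT : Basic.OddOrderSolvable.{u}) [Finite G]
    (hL : ∀ b : G, orderOf b = 2 → pLayer 2 ↥(Subgroup.centralizer ({b} : Set G)) = ⊥)
    (S : Sylow 2 G) (A : Subgroup ↥(S : Subgroup G)) (hAn : A.Normal) (hAab : IsMulCommutative ↥A)
    (hA3 : ¬ Cfsg.PRankLE 2 2 ↥A) (S' : Sylow 2 G) :
    ∃ W : Subgroup G, Odd (Nat.card ↥W) ∧
      ∀ B : Subgroup G, B ≤ (S' : Subgroup G) → ¬ Cfsg.PRankLE 2 1 ↥B →
        W = (⨆ b : {b : G // b ∈ B ∧ b ≠ 1}, Cfsg.centralizerPPrimeCore 2 (b : G)) ∧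
        Subgroup.normalizer (B : Set G) ≤ Subgroup.normalizer (W : Set G) := by
  haveI : Fact (Nat.Prime 2) := ⟨Nat.prime_two⟩
  obtain ⟨A₀, hA₀S, hA₀, hA₀8, hA₀n⟩ := exists_normal_elem S A hAn hAab hA3 S'
  have hkey := fun {E B : Subgroup G} (hB : IsElementaryAbelian 2 B) (h3 : 8 ≤ Nat.card ↥B)
    (hEB : E ≤ B) (h2 : 4 ≤ Nat.card ↥E) => valueSup_eq_of_le hFT hL hB h3 hEB h2
  set θ : G → Subgroup G := fun x : G => centralizerPPrimeCore 2 x with hθ
  set W := valueSup θ A₀ with hW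
  -- a central involution of `S'` inside `A₀`
  obtain ⟨z, hzA, hz1, hzc⟩ : ∃ z ∈ A₀, z ≠ 1 ∧ ∀ s ∈ (S' : Subgroup G), s * z = z * s := by
    haveI : (A₀.subgroupOf (S' : Subgroup G)).Normal :=
      ⟨fun a ha s => hA₀n s s.2 a ha⟩
    have hne : A₀.subgroupOf (S' : Subgroup G) ≠ ⊥ := by
      intro h
      have h1 := congrArg (fun K : Subgroup _ => Nat.card ↥K) h
      simp only [Subgroup.card_bot] at h1
      rw [Nat.card_congr (Subgroup.subgroupOfEquivOfLe hA₀S).toEquiv] at h1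
      omega
    obtain ⟨z, hz, hz1⟩ := (Subgroup.bot_or_exists_ne_one _).resolve_left
      (PGroups.normal_inf_center_ne_bot S'.2 _ hne)
    exact ⟨z, hz.1, fun h => hz1 (Subtype.ext h), fun s hs =>
      congrArg Subtype.val (Subgroup.mem_center_iff.1 hz.2 ⟨s, hs⟩)⟩
  have hz2 : z ^ 2 = 1 := PGroups.elemAb_pow hA₀ hzA
  have hzS : z ∈ (S' : Subgroup G) := hA₀S hzA
  have hZe : IsElementaryAbelian 2 (Subgroup.zpowers z) := PGroups.elemAb_zpowers hz2
  have hZcard : Nat.card ↥(Subgroup.zpowers z) = 2 := by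
    rw [Nat.card_zpowers]; exact PGroups.elemAb_orderOf hA₀ hzA hz1
  have hZ1 : ∀ x ∈ Subgroup.zpowers z, x ≠ 1 → x = z := by
    intro x hx hx1
    obtain ⟨k, rfl⟩ := Subgroup.mem_zpowers_iff.1 hx
    have h2 : z ^ (2 : ℤ) = 1 := by
      rw [show (2 : ℤ) = ((2 : ℕ) : ℤ) by rfl, zpow_natCast, hz2]
    rcases Int.even_or_odd k with ⟨m, rfl⟩ | ⟨m, rfl⟩
    · exact absurd (by rw [← two_mul, zpow_mul, h2, one_zpow]) hx1
    · rw [zpow_add, zpow_mul, h2, one_zpow, one_mul, zpow_one]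
  -- four-groups through `z`
  have hfour : ∀ f ∈ (S' : Subgroup G), f ^ 2 = 1 → f ≠ 1 → f ≠ z →
      IsElementaryAbelian 2 (Subgroup.zpowers z ⊔ Subgroup.zpowers f) ∧
        4 ≤ Nat.card ↥(Subgroup.zpowers z ⊔ Subgroup.zpowers f : Subgroup G) ∧
        valueSup θ (Subgroup.zpowers z ⊔ Subgroup.zpowers f) = W := by
    intro f hf hf2 hf1 hfz
    obtain ⟨hFe, hFc⟩ := card_ge_double hZe hf2 (fun h => hfz (hZ1 f h hf1)) (by
      intro b hb
      obtain ⟨k, rfl⟩ := Subgroup.mem_zpowers_iff.1 hb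
      exact ((show Commute f z from hzc f hf).zpow_right k).symm)
    rw [hZcard] at hFc
    refine ⟨hFe, hFc, ?_⟩
    by_cases hfA : f ∈ A₀
    · exact (hkey hA₀ hA₀8
        (sup_le (Subgroup.zpowers_le.2 hzA) (Subgroup.zpowers_le.2 hfA)) hFc).1
    · obtain ⟨w, hwA, hw1, hwz, hfw⟩ := exists_fixed (z := z) hA₀ hA₀8 hf2 (hA₀n f hf)
      obtain ⟨hPe, hPc⟩ := card_ge_double hZe (PGroups.elemAb_pow hA₀ hwA)
        (fun h => hwz (hZ1 w h hw1)) (fun b hb =>
          PGroups.elemAb_comm hA₀ (Subgroup.zpowers_le.2 hzA hb) hwA)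
      rw [hZcard] at hPc
      have hPA : Subgroup.zpowers z ⊔ Subgroup.zpowers w ≤ A₀ :=
        sup_le (Subgroup.zpowers_le.2 hzA) (Subgroup.zpowers_le.2 hwA)
      obtain ⟨hBe, hBc⟩ := card_ge_double hPe hf2 (fun h => hfA (hPA h)) (by
        intro b hb
        have hle : Subgroup.zpowers z ⊔ Subgroup.zpowers w ≤ Subgroup.centralizer ({f} : Set G) :=
          sup_le (Subgroup.zpowers_le.2 (Subgroup.mem_centralizer_singleton_iff.2 (hzc f hf).symm))
            (Subgroup.zpowers_le.2 (Subgroup.mem_centralizer_singleton_iff.2 hfw.symm))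
        exact Subgroup.mem_centralizer_singleton_iff.1 (hle hb))
      have h8 : 8 ≤ Nat.card ↥(Subgroup.zpowers z ⊔ Subgroup.zpowers w ⊔ Subgroup.zpowers f :
          Subgroup G) := by omega
      rw [(hkey hBe h8 (sup_le (le_sup_left.trans le_sup_left) le_sup_right) hFc).1,
        ← (hkey hBe h8 le_sup_left (by omega : 4 ≤ _)).1,
        (hkey hA₀ hA₀8 hPA (by omega : 4 ≤ _)).1]
  -- all four-groups
  have hall : ∀ E : Subgroup G, IsElementaryAbelian 2 E → E ≤ (S' : Subgroup G) →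
      4 ≤ Nat.card ↥E → valueSup θ E = W := by
    intro E hE hES hE4
    obtain ⟨f, hfE, hf1, hfz⟩ : ∃ f ∈ E, f ≠ 1 ∧ f ≠ z := by
      by_contra h
      push Not at h
      have hsub : E ≤ Subgroup.zpowers z := fun x hx => by
        by_cases hx1 : x = 1
        · rw [hx1]; exact one_mem _
        · rw [h x hx hx1]; exact Subgroup.mem_zpowers z
      have := Subgroup.card_le_of_le hsub
      omega
    obtain ⟨hFe, hFc, hFW⟩ := hfour f (hES hfE) (PGroups.elemAb_pow hE hfE) hf1 hfz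
    have hE' : IsElementaryAbelian 2 (E ⊔ Subgroup.zpowers z) := PGroups.elemAb_sup hE hZe (by
      intro a ha b hb
      obtain ⟨k, rfl⟩ := Subgroup.mem_zpowers_iff.1 hb
      exact (show Commute a z from hzc a (hES ha)).zpow_right k)
    have hFE : Subgroup.zpowers z ⊔ Subgroup.zpowers f ≤ E ⊔ Subgroup.zpowers z :=
      sup_le le_sup_right ((Subgroup.zpowers_le.2 hfE).trans le_sup_left)
    by_cases h8 : 8 ≤ Nat.card ↥(E ⊔ Subgroup.zpowers z : Subgroup G)
    · rw [(hkey hE' h8 le_sup_left hE4).1, ← (hkey hE' h8 hFE hFc).1, hFW]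
    · obtain ⟨m, hm⟩ := IsPGroup.iff_card.1 (PGroups.elemAb_isPGroup hE')
      have h4 : Nat.card ↥(E ⊔ Subgroup.zpowers z : Subgroup G) ≤ 4 := by
        rw [hm] at h8 ⊢
        exact le_trans (Nat.pow_le_pow_right two_pos (by
          by_contra hm2
          exact h8 (le_trans (by norm_num) (Nat.pow_le_pow_right two_pos (by omega : 3 ≤ m))))) (by norm_num : 2 ^ 2 ≤ 4)
      have e1 : E = E ⊔ Subgroup.zpowers z :=
        Subgroup.eq_of_le_of_card_ge le_sup_left (h4.trans hE4)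
      have e2 : Subgroup.zpowers z ⊔ Subgroup.zpowers f = E ⊔ Subgroup.zpowers z :=
        Subgroup.eq_of_le_of_card_ge hFE (h4.trans hFc)
      rw [e1, ← e2, hFW]
  refine ⟨W, (hkey hA₀ hA₀8 le_rfl (by omega)).2, fun B hBS hB => ?_⟩
  have hsup : W = ⨆ b : {b : G // b ∈ B ∧ b ≠ 1}, centralizerPPrimeCore 2 (b : G) := by
    refine le_antisymm ?_ (iSup_le fun ⟨b, hbB, hb1⟩ => ?_)
    · unfold PRankLE at hB
      push Not at hB
      obtain ⟨E, hEc, hE2, hEcard⟩ := hB
      have hE : IsElementaryAbelian 2 E := ⟨hEc, hE2⟩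
      obtain ⟨m, hm⟩ := IsPGroup.iff_card.1 (PGroups.elemAb_isPGroup hE)
      have h2 : 4 ≤ Nat.card ↥(E.map B.subtype) := by
        rw [Subgroup.card_map_of_injective B.subtype_injective, hm]
        rw [hm] at hEcard
        exact le_trans (by norm_num) (Nat.pow_le_pow_right two_pos
          ((Nat.pow_lt_pow_iff_right (by norm_num)).1 hEcard : 2 ≤ m))
      rw [← hall _ (PGroups.elemAb_map B.subtype hE) ((Subgroup.map_subtype_le E).trans hBS) h2]
      exact iSup_le fun e => le_iSup (fun b : {b : G // b ∈ B ∧ b ≠ 1} => θ b)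
        ⟨e, Subgroup.map_subtype_le E e.2.1, e.2.2⟩
    · have hbp : IsPGroup 2 ↥(Subgroup.zpowers b) :=
        S'.2.to_le (Subgroup.zpowers_le.2 (hBS hbB))
      obtain ⟨k, hk⟩ := IsPGroup.iff_card.1 hbp
      rw [Nat.card_zpowers] at hk
      have hb2 : 2 ∣ orderOf b := by
        rw [hk]
        refine dvd_pow_self 2 fun h => hb1 ?_
        rw [h, pow_zero] at hk
        exact orderOf_eq_one_iff.1 hk
      set c := b ^ (orderOf b / 2) with hc
      have hcord : orderOf c = 2 := orderOf_pow_orderOf_div (orderOf_pos b).ne' hb2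
      have hbc : b * c = c * b := ((Commute.refl b).pow_right _).eq
      have h1 : centralizerPPrimeCore 2 b ≤ θ c := fun x hx =>
        balance_pElement hbp hbc (hL c hcord) ⟨hx, Subgroup.mem_centralizer_singleton_iff.2
          (((show Commute x b from Subgroup.mem_centralizer_singleton_iff.1
            (Balance.centralizerPPrimeCore_le b hx)).pow_right _).eq)⟩
      refine h1.trans ?_
      have hc1 : c ≠ 1 := fun h => by rw [h, orderOf_one] at hcord; omega
      by_cases hcz : c = z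
      · rw [hW]
        exact le_iSup (fun a : {a : G // a ∈ A₀ ∧ a ≠ 1} => θ a) ⟨c, hcz ▸ hzA, hc1⟩
      · obtain ⟨-, -, hFW⟩ := hfour c (pow_mem (hBS hbB) _) (hcord ▸ pow_orderOf_eq_one c) hc1 hcz
        rw [← hFW]
        exact le_iSup (fun a : {a : G // a ∈ Subgroup.zpowers z ⊔ Subgroup.zpowers c ∧ a ≠ 1} => θ a)
          ⟨c, Subgroup.mem_sup_right (Subgroup.mem_zpowers c), hc1⟩
  refine ⟨hsup, fun g hg => ?_⟩
  rw [Subgroup.mem_normalizer_iff_map_conj_eq]
  refine Subgroup.eq_of_le_of_card_ge ?_ (Subgroup.card_map_of_injective (MulAut.conj g).injective).ge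
  rw [hsup, Subgroup.map_iSup]
  refine iSup_le fun b => ?_
  refine le_trans (Balance.centralizerPPrimeCore_conj g (b : G)).ge ?_
  exact le_iSup (fun b : {b : G // b ∈ B ∧ b ≠ 1} => centralizerPPrimeCore 2 (b : G))
    ⟨g * b * g⁻¹, (Subgroup.mem_normalizer_iff.1 hg b).1 b.2.1, fun h => b.2.2 (by simpa using h)⟩


theorem cores_generate (hFT : Basic.OddOrderSolvable.{u}) [Finite G]
    (h2c : ∀ T : Subgroup G, IsPGroup 2 T → T ≠ ⊥ →
      Cfsg.IsPConstrained 2 ↥(Subgroup.normalizer (T : Set G)))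
    (S : Sylow 2 G) (A : Subgroup ↥(S : Subgroup G)) (hAn : A.Normal) (hAab : IsMulCommutative ↥A)
    (hA3 : ¬ Cfsg.PRankLE 2 2 ↥A) (S' : Sylow 2 G) :
    ∃ W : Subgroup G, Odd (Nat.card ↥W) ∧
      ∀ B : Subgroup G, B ≤ (S' : Subgroup G) → ¬ Cfsg.PRankLE 2 1 ↥B →
        W = (⨆ b : {b : G // b ∈ B ∧ b ≠ 1}, Cfsg.centralizerPPrimeCore 2 (b : G)) ∧
        Subgroup.normalizer (B : Set G) ≤ Subgroup.normalizer (W : Set G) := by
  haveI : Fact (Nat.Prime 2) := ⟨Nat.prime_two⟩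
  have hL : ∀ b : G, orderOf b = 2 → pLayer 2 ↥(Subgroup.centralizer ({b} : Set G)) = ⊥ := by
    intro b hb
    have h1 := h2c (Subgroup.zpowers b) (IsPGroup.of_card (n := 1) (by rw [Nat.card_zpowers, hb, pow_one]))
      (fun h => by
        rw [Subgroup.zpowers_eq_bot] at h
        rw [h, orderOf_one] at hb
        omega)
    rw [normalizer_zpowers_eq_centralizer hb] at h1
    exact pLayer_eq_bot_of_isPConstrained h1
  exact cores_generate_of_pLayer hFT hL S A hAn hAab hA3 S'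

end Cfsg.Agent.Lib.FTDeps.Row3110
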