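import Mathlib
import Cfsg.Prelude.Def_PLocal
import Cfsg.Agent.Lib.FTDeps.Basic
import Cfsg.Agent.Lib.Coprime.Action
import Cfsg.Agent.Lib.ZJ.Control
import Cfsg.Agent.Lib.Transfer.Frobenius
import Cfsg.Agent.S0659

/-!
# S4240 modulo the odd order theorem

A coprime operator group with all maximal invariant subgroups nilpotent.
-/

set_option autoImplicit false
set_option linter.style.haveILetI false

open scoped Pointwise
open Subgroup

namespace Cfsg.Agent.Lib.FTDeps.Row4240

universe u v

variable {A : Type u} {G : Type v} [Group A] [Group G] [MulDistribMulAction A G]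

variable (A) in
/-- A subgroup stable under the operator group. -/
def Inv (H : Subgroup G) : Prop := ∀ a : A, ∀ x ∈ H, a • x ∈ H

/-- Every maximal proper stable subgroup is nilpotent. -/
def MaxNil (A : Type u) (G : Type v) [Group A] [Group G] [MulDistribMulAction A G] : Prop :=
  ∀ H : Subgroup G, H ≠ ⊤ → (∀ a : A, ∀ x ∈ H, a • x ∈ H) →
    (∀ K : Subgroup G, H < K → (∀ a : A, ∀ x ∈ K, a • x ∈ K) → K = ⊤) → Group.IsNilpotent H

theorem Inv.map_eq [Finite G] {H : Subgroup G} (hH : Inv A H) (a : A) :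
    H.map (MulDistribMulAction.toMulAut A G a).toMonoidHom = H := by
  refine le_antisymm ?_ fun x hx => ⟨a⁻¹ • x, hH a⁻¹ x hx, smul_inv_smul a x⟩
  rintro _ ⟨x, hx, rfl⟩
  exact hH a x hx

theorem inv_normalizer [Finite G] {H : Subgroup G} (hH : Inv A H) :
    Inv A (normalizer (H : Set G)) := by
  intro a x hx
  have h1 := Subgroup.map_normalizer_eq_of_bijective H
    (f := (MulDistribMulAction.toMulAut A G a).toMonoidHom)
    (MulDistribMulAction.toMulAut A G a).bijective
  rw [hH.map_eq a] at h1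
  rw [← h1]
  exact ⟨x, hx, rfl⟩

theorem inv_centerThompson [Finite G] {P : Subgroup G} (hP : Inv A P) :
    Inv A (Cfsg.centerThompsonAOf P) := by
  intro a x hx
  have h1 := ZJ.map_centerThompsonAOf (MulDistribMulAction.toMulAut A G a).toMonoidHom
    (MulDistribMulAction.toMulAut A G a).injective P
  rw [hP.map_eq a] at h1
  rw [← h1]
  exact ⟨x, hx, rfl⟩

theorem inv_sup {H K : Subgroup G} (hH : Inv A H) (hK : Inv A K) : Inv A (H ⊔ K) := by
  intro a x hx
  have hle : H ⊔ K ≤ (H ⊔ K).comap (MulDistribMulAction.toMulAut A G a).toMonoidHom :=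
    sup_le (fun y hy => mem_sup_left (hH a y hy)) (fun y hy => mem_sup_right (hK a y hy))
  exact hle hx

theorem nilpotent_of_proper [Finite G] (hmax : MaxNil A G) {H : Subgroup G} (hH : Inv A H)
    (hne : H ≠ ⊤) : Group.IsNilpotent H := by
  obtain ⟨M, ⟨hMinv, hMne, hHM⟩, hMmax⟩ := Set.Finite.exists_maximal
    (Set.toFinite {K : Subgroup G | Inv A K ∧ K ≠ ⊤ ∧ H ≤ K}) ⟨H, hH, hne, le_rfl⟩
  haveI : Group.IsNilpotent M := hmax M hMne hMinv fun K hK hKinv => by
    by_contra hKne
    exact hK.not_ge (hMmax ⟨hKinv, hKne, hHM.trans hK.le⟩ hK.le)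
  exact Group.nilpotent_of_mulEquiv (Subgroup.subgroupOfEquivOfLe hHM)

/-- The induced action on a quotient by a stable normal subgroup. -/
@[reducible]
def quotAct (N : Subgroup G) [N.Normal] (hN : Inv A N) : MulDistribMulAction A (G ⧸ N) where
  smul a := QuotientGroup.map N N (MulDistribMulAction.toMulAut A G a).toMonoidHom
    (fun x hx => hN a x hx)
  one_smul x := QuotientGroup.induction_on x fun g => congrArg (QuotientGroup.mk' N) (one_smul A g)
  mul_smul a b x := QuotientGroup.induction_on x fun g =>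
    congrArg (QuotientGroup.mk' N) (mul_smul a b g)
  smul_mul a x y := map_mul (QuotientGroup.map N N
    (MulDistribMulAction.toMulAut A G a).toMonoidHom (fun x hx => hN a x hx)) x y
  smul_one a := map_one (QuotientGroup.map N N
    (MulDistribMulAction.toMulAut A G a).toMonoidHom (fun x hx => hN a x hx))

omit [MulDistribMulAction A G] in
/-- Either of two coprime finite groups of possibly different universes is solvable. -/
theorem solvable_or (hA : Odd (Nat.card A) → Group.IsSolvable A)
    (hG : Odd (Nat.card G) → Group.IsSolvable G) (h : (Nat.card A).Coprime (Nat.card G)) :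
    Group.IsSolvable A ∨ Group.IsSolvable G := by
  rcases Nat.even_or_odd (Nat.card G) with hb | hb
  · rcases Nat.even_or_odd (Nat.card A) with ha | ha
    · exfalso
      have := Nat.dvd_gcd ha.two_dvd hb.two_dvd
      rw [h.gcd_eq_one] at this
      norm_num at this
    · exact Or.inl (hA ha)
  · exact Or.inr (hG hb)

theorem exists_inv_sylow [Finite A] [Finite G] (hFA : Basic.OddOrderSolvable.{u})
    (hFG : Basic.OddOrderSolvable.{v}) (hcop : (Nat.card A).Coprime (Nat.card G)) (p : ℕ)
    [Fact p.Prime] : ∃ P : Sylow p G, Inv A (P : Subgroup G) :=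
  Coprime.Action.exists_invariant_sylow hcop (solvable_or (hFA A) (hFG G) hcop) p

/-- A normal `p`-complement is stable. -/
theorem inv_pComplement [Finite G] {p : ℕ} [Fact p.Prime] {P : Sylow p G} {N : Subgroup G}
    [N.Normal] (hN : N.IsComplement' (P : Subgroup G)) : Inv A N := by
  have hcardP : N.index = Nat.card (P : Subgroup G) := hN.symm.index_eq_card
  obtain ⟨k, hk⟩ := IsPGroup.iff_card.1 P.isPGroup'
  have hcopN : (Nat.card N).Coprime p := by
    have h := P.not_dvd_index
    rw [hN.index_eq_card] at h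
    exact ((Fact.out : p.Prime).coprime_iff_not_dvd.2 h).symm
  intro a x hx
  have h1 : (orderOf x).Coprime p := by
    refine hcopN.coprime_dvd_left ?_
    have := orderOf_dvd_natCard (⟨x, hx⟩ : N)
    rwa [Subgroup.orderOf_mk] at this
  have h2 : orderOf (a • x) = orderOf x :=
    orderOf_injective (MulDistribMulAction.toMulAut A G a).toMonoidHom
      (MulDistribMulAction.toMulAut A G a).injective x
  rw [← QuotientGroup.eq_one_iff, ← orderOf_eq_one_iff]
  refine Nat.eq_one_of_dvd_coprimes (Nat.Coprime.pow_right k h1)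
    (h2 ▸ orderOf_map_dvd (QuotientGroup.mk' N) (a • x)) ?_
  rw [← hk, ← hcardP]
  exact orderOf_dvd_natCard _

/-- Solvability. -/
theorem solvable [Finite A] (hFA : Basic.OddOrderSolvable.{u}) (hFG : Basic.OddOrderSolvable.{v}) :
    ∀ (n : ℕ) (X : Type v) [Group X] [Finite X] [MulDistribMulAction A X],
      Nat.card X = n → (Nat.card A).Coprime (Nat.card X) → MaxNil A X → Group.IsSolvable X := by
  intro n
  induction n using Nat.strong_induction_on with
  | _ n ih =>
  intro X _ _ _ hn hcop hmax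
  by_cases hex : ∃ N : Subgroup X, N.Normal ∧ Inv A N ∧ N ≠ ⊥ ∧ N ≠ ⊤
  · obtain ⟨N, hNn, hNinv, hN1, hN2⟩ := hex
    haveI := hNn
    haveI : Group.IsNilpotent N := nilpotent_of_proper hmax hNinv hN2
    letI := quotAct N hNinv
    have hdvd : Nat.card (X ⧸ N) ∣ Nat.card X := Subgroup.card_quotient_dvd_card N
    have hlt : Nat.card (X ⧸ N) < n := by
      rw [← hn, Subgroup.card_eq_card_quotient_mul_card_subgroup N]
      exact lt_mul_of_one_lt_right Nat.card_pos
        ((Subgroup.one_lt_card_iff_ne_bot N).2 hN1)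
    haveI : Group.IsSolvable (X ⧸ N) := by
      refine ih _ hlt (X ⧸ N) rfl (hcop.coprime_dvd_right hdvd) fun H hne hinv _ => ?_
      have hinv' : Inv A (H.comap (QuotientGroup.mk' N)) := fun a x hx => hinv a _ hx
      have hne' : H.comap (QuotientGroup.mk' N) ≠ ⊤ := fun h => hne (by
        rw [← Subgroup.map_comap_eq_self_of_surjective (QuotientGroup.mk'_surjective N) H, h,
          Subgroup.map_top_of_surjective _ (QuotientGroup.mk'_surjective N)])
      haveI := nilpotent_of_proper hmax hinv' hne'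
      exact Group.nilpotent_of_surjective _
        (MonoidHom.subgroupComap_surjective_of_surjective (QuotientGroup.mk' N) H
          (QuotientGroup.mk'_surjective N))
    exact Group.isSolvable_of_ker_le_range N.subtype (QuotientGroup.mk' N) (by simp)
  push Not at hex
  by_cases h2 : ∀ q : ℕ, q.Prime → q ∣ Nat.card X → q = 2
  · haveI : Fact (Nat.Prime 2) := ⟨Nat.prime_two⟩
    have hX : IsPGroup 2 X := IsPGroup.of_card
      (Nat.eq_prime_pow_of_unique_prime_dvd Nat.card_pos.ne' fun {d} hd hdd => h2 d hd hdd)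
    haveI := hX.isNilpotent
    infer_instance
  push Not at h2
  obtain ⟨q, hq, hqd, hq2⟩ := h2
  haveI := Fact.mk hq
  obtain ⟨Q, hQ⟩ := exists_inv_sylow hFA hFG hcop q
  by_cases htop : (Q : Subgroup X) = ⊤
  · haveI : Group.IsNilpotent X := by
      have := Q.isPGroup'
      rw [htop] at this
      exact (this.of_equiv Subgroup.topEquiv).isNilpotent
    infer_instance
  exfalso
  have hQne : (Q : Subgroup X) ≠ ⊥ := Q.ne_bot_of_dvd_card hqd
  have hQp := Q.isPGroup'
  set Z := Cfsg.centerThompsonAOf (Q : Subgroup X) with hZdef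
  have hZne : Z ≠ ⊥ := by
    intro h
    haveI : Nontrivial (Q : Subgroup X) := (Subgroup.nontrivial_iff_ne_bot _).2 hQne
    have h1 := ZJ.inducedFunctor_zjA (G := X) (Q : Subgroup X)
    rw [← hZdef, h] at h1
    exact (ZJ.isCharPFunctor_zjA q).1 (Q : Subgroup X) hQp inferInstance
      ((Subgroup.map_eq_bot_iff_of_injective _ (Q : Subgroup X).subtype_injective).1 h1)
  have hZQ : Z ≤ (Q : Subgroup X) := fun x hx => Subgroup.map_subtype_le _ (show x ∈ _ from hx.1)
  have hNinv : Inv A (normalizer (Z : Set X)) := inv_normalizer (inv_centerThompson hQ)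
  have hNne : normalizer (Z : Set X) ≠ ⊤ := fun h =>
    htop (top_le_iff.1 ((hex Z (Subgroup.normalizer_eq_top_iff.1 h) (inv_centerThompson hQ) hZne)
      ▸ hZQ))
  haveI := nilpotent_of_proper hmax hNinv hNne
  obtain ⟨P, N, hN, hNP⟩ :=
    S0659.result hq2 Q Transfer.Frobenius.hasNormalPComplement_of_isNilpotent
  haveI := hN
  by_cases hN1 : N = ⊥
  · subst hN1
    have hP : (P : Subgroup X) = ⊤ := Subgroup.isComplement'_bot_left.1 hNP
    exact htop (Subgroup.eq_top_of_card_eq _ (by rw [Sylow.card_eq_multiplicity, ← P.card_eq_multiplicity, hP, Subgroup.card_top]))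
  · have hN2 := hex N hN (inv_pComplement hNP) hN1
    subst hN2
    exact P.ne_bot_of_dvd_card hqd (Subgroup.isComplement'_top_left.1 hNP)

theorem eq_two_pow {n r s : ℕ} (hn : n ≠ 0) (hr : r.Prime)
    (h : ∀ t : ℕ, t.Prime → t ∣ n → t = r ∨ t = s) :
    ∃ a b : ℕ, n = r ^ a * s ^ b := by
  refine ⟨n.factorization r, (n / r ^ n.factorization r).primeFactorsList.length, ?_⟩
  have h1 : n / r ^ n.factorization r = s ^ (n / r ^ n.factorization r).primeFactorsList.length :=
    Nat.eq_prime_pow_of_unique_prime_dvd (Nat.ordCompl_pos r hn).ne' fun {d} hd hdd => by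
      rcases h d hd (hdd.trans (Nat.ordCompl_dvd n r)) with rfl | rfl
      · exact absurd hdd (Nat.not_dvd_ordCompl hd hn)
      · rfl
  rw [← h1, Nat.ordProj_mul_ordCompl_eq_self]

/-- A Sylow subgroup centralised or normalised by Sylow subgroups of every prime is normal. -/
theorem normal_of_forall [Finite G] {H : Subgroup G}
    (h : ∀ t : ℕ, ∀ _ : Fact t.Prime, t ∣ Nat.card G →
      ∃ T : Sylow t G, (T : Subgroup G) ≤ normalizer (H : Set G)) : H.Normal := by
  refine Subgroup.normalizer_eq_top_iff.1 (Subgroup.index_eq_one.1 ?_)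
  by_contra hne
  obtain ⟨t, ht, htd⟩ := Nat.exists_prime_and_dvd hne
  haveI := Fact.mk ht
  obtain ⟨T, hT⟩ := h t inferInstance (htd.trans (Subgroup.index_dvd_card _))
  exact T.not_dvd_index (htd.trans (Subgroup.index_dvd_of_le hT))

/-- S4240 given the odd order theorem. -/
theorem main [Finite A] [Finite G] (hFA : Basic.OddOrderSolvable.{u})
    (hFG : Basic.OddOrderSolvable.{v}) (hcop : (Nat.card A).Coprime (Nat.card G))
    (hmax : MaxNil A G) (hG : ¬ Group.IsNilpotent G) :
    Group.IsSolvable G ∧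
      (∃ p q a b : ℕ, p.Prime ∧ q.Prime ∧ p ≠ q ∧ Nat.card G = p ^ a * q ^ b) ∧
      ∃ (p : ℕ) (P : Sylow p G), p.Prime ∧ p ∣ Nat.card G ∧ (P : Subgroup G).Normal ∧
        (∀ a : A, ∀ x ∈ (P : Subgroup G), a • x ∈ (P : Subgroup G)) := by
  have hsolv : Group.IsSolvable G := solvable hFA hFG _ G rfl hcop hmax
  haveI := hsolv
  haveI hnt : Nontrivial G := by
    by_contra h
    haveI : Subsingleton G := not_nontrivial_iff_subsingleton.1 h
    exact hG inferInstance
  -- a maximal stable normal proper subgroup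
  obtain ⟨N, ⟨hNn, hNinv, hNne⟩, hNmax⟩ := Set.Finite.exists_maximal
    (Set.toFinite {K : Subgroup G | K.Normal ∧ Inv A K ∧ K ≠ ⊤})
    ⟨⊥, inferInstance, fun a x hx => by rw [Subgroup.mem_bot] at hx ⊢; rw [hx, smul_one],
      bot_ne_top⟩
  haveI := hNn
  haveI hNnil : Group.IsNilpotent N := nilpotent_of_proper hmax hNinv hNne
  letI := quotAct N hNinv
  have hsimple : ∀ K : Subgroup (G ⧸ N), K.Normal → Inv A K → K = ⊥ ∨ K = ⊤ := by
    intro K hK hKinv
    haveI := hK
    by_contra hne
    push Not at hne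
    have hle : N ≤ K.comap (QuotientGroup.mk' N) := by
      conv_lhs => rw [← QuotientGroup.ker_mk' N]
      exact Subgroup.ker_le_comap _ _
    have heq := hNmax ⟨(inferInstance : (K.comap (QuotientGroup.mk' N)).Normal),
      fun a x hx => hKinv a _ hx, fun h => hne.2 (by
        rw [← Subgroup.map_comap_eq_self_of_surjective (QuotientGroup.mk'_surjective N) K, h,
          Subgroup.map_top_of_surjective _ (QuotientGroup.mk'_surjective N)])⟩ hle
    apply hne.1
    rw [← Subgroup.map_comap_eq_self_of_surjective (QuotientGroup.mk'_surjective N) K,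
      le_antisymm heq hle, QuotientGroup.map_mk'_self]
  have hQnt : Nontrivial (G ⧸ N) := by
    refine Finite.one_lt_card_iff_nontrivial.1 ?_
    exact Subgroup.one_lt_index_of_ne_top hNne
  obtain ⟨r, hr, hrd⟩ := Nat.exists_prime_and_dvd
    (Finite.one_lt_card (α := G ⧸ N)).ne'
  haveI := Fact.mk hr
  have hcomm : commutator (G ⧸ N) = ⊥ := by
    refine (hsimple _ inferInstance fun a x hx => ?_).resolve_right
      (Group.IsSolvable.commutator_lt_top_of_nontrivial (G ⧸ N)).ne
    exact (Subgroup.characteristic_iff_map_le.1 inferInstance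
      (MulDistribMulAction.toMulAut A (G ⧸ N) a)) ⟨x, hx, rfl⟩
  obtain ⟨Rq⟩ : Nonempty (Sylow r (G ⧸ N)) := inferInstance
  haveI hRqn : (Rq : Subgroup (G ⧸ N)).Normal := by
    haveI : IsMulCommutative (G ⧸ N) :=
      ⟨⟨fun x y => commutatorElement_eq_one_iff_mul_comm.1 (Subgroup.mem_bot.1
        (hcomm ▸ Subgroup.commutator_mem_commutator (Subgroup.mem_top x) (Subgroup.mem_top y)))⟩⟩
    exact ⟨fun x hx g => by rwa [mul_comm' g x, mul_inv_cancel_right]⟩
  haveI := Sylow.characteristic_of_normal Rq hRqn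
  have hRq : (Rq : Subgroup (G ⧸ N)) = ⊤ :=
    (hsimple _ hRqn fun a x hx => (Subgroup.characteristic_iff_map_le.1 inferInstance
      (MulDistribMulAction.toMulAut A (G ⧸ N) a)) ⟨x, hx, rfl⟩).resolve_left
      (Rq.ne_bot_of_dvd_card hrd)
  have hquot : IsPGroup r (G ⧸ N) := by
    have := Rq.isPGroup'
    rw [hRq] at this
    exact this.of_equiv Subgroup.topEquiv
  -- the other Sylow subgroups are normal
  have hnorm : ∀ s : ℕ, ∀ _ : Fact s.Prime, s ≠ r → ∀ S : Sylow s G,
      (S : Subgroup G).Normal ∧ Inv A (S : Subgroup G) := by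
    intro s _ hsr S
    have hSN : (S : Subgroup G) ≤ N := by
      intro x hx
      rw [← QuotientGroup.eq_one_iff, ← orderOf_eq_one_iff]
      obtain ⟨i, hi⟩ := IsPGroup.iff_orderOf.1 hquot (QuotientGroup.mk' N x)
      obtain ⟨j, hj⟩ := IsPGroup.iff_orderOf.1 S.isPGroup' ⟨x, hx⟩
      rw [Subgroup.orderOf_mk] at hj
      refine Nat.eq_one_of_dvd_coprimes (((Nat.coprime_primes hr (Fact.out : s.Prime)).2
        hsr.symm).pow i j) (dvd_of_eq hi) ?_
      rw [← hj]; exact orderOf_map_dvd (QuotientGroup.mk' N) x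
    haveI : (S.subtype hSN : Subgroup N).Normal := inferInstance
    haveI := Sylow.characteristic_of_normal (S.subtype hSN) inferInstance
    have hSn : (S : Subgroup G).Normal := by
      have h := (inferInstance : ((S.subtype hSN : Subgroup N).map N.subtype).Normal)
      rwa [Sylow.coe_subtype, Subgroup.subgroupOf_map_subtype, inf_eq_left.2 hSN] at h
    refine ⟨hSn, fun a x hx => ?_⟩
    haveI := Sylow.characteristic_of_normal S hSn
    exact (Subgroup.characteristic_iff_map_le.1 inferInstance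
      (MulDistribMulAction.toMulAut A G a)) ⟨x, hx, rfl⟩
  obtain ⟨R, hR⟩ := exists_inv_sylow hFA hFG hcop r
  have hRn : ¬ (R : Subgroup G).Normal := by
    intro h
    refine hG ((Group.isNilpotent_of_finite_tfae.out 0 3 rfl rfl).2 fun t ht T => ?_)
    by_cases htr : t = r
    · subst htr
      haveI := Sylow.unique_of_normal R h
      rwa [Subsingleton.elim T R]
    · exact (hnorm t ht htr T).1
  -- one further prime
  have hrG : r ∣ Nat.card G := hrd.trans (Subgroup.card_quotient_dvd_card N)
  have hone : ∀ s t : ℕ, s.Prime → t.Prime → s ∣ Nat.card G → t ∣ Nat.card G → s ≠ r → t ≠ r →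
      s = t := by
    intro s t hs ht hsd htd hsr htr
    by_contra hst
    refine hRn (normal_of_forall fun w hw hwd => ?_)
    by_cases hwr : w = r
    · subst hwr; exact ⟨R, Subgroup.le_normalizer⟩
    obtain ⟨W⟩ : Nonempty (Sylow w G) := inferInstance
    refine ⟨W, ?_⟩
    obtain ⟨hWn, hWinv⟩ := hnorm w hw hwr W
    -- choose a third prime
    obtain ⟨z, hz, hzd, hzr, hzw⟩ : ∃ z : ℕ, z.Prime ∧ z ∣ Nat.card G ∧ z ≠ r ∧ z ≠ w := by
      by_cases hsw : s = w
      · exact ⟨t, ht, htd, htr, fun h => hst (hsw.trans h.symm)⟩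
      · exact ⟨s, hs, hsd, hsr, hsw⟩
    haveI := hWn
    have hne : (R : Subgroup G) ⊔ (W : Subgroup G) ≠ ⊤ := by
      intro h
      have h1 : Nat.card ((R : Subgroup G) ⊔ (W : Subgroup G) : Subgroup G) ∣
          Nat.card (R : Subgroup G) * Nat.card (W : Subgroup G) := Cores.card_sup_dvd_mul _ _
      rw [h, Subgroup.card_top] at h1
      obtain ⟨i, hi⟩ := IsPGroup.iff_card.1 R.isPGroup'
      obtain ⟨j, hj⟩ := IsPGroup.iff_card.1 W.isPGroup'
      rw [hi, hj] at h1
      rcases hz.dvd_mul.1 (hzd.trans h1) with h2 | h2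
      · exact hzr ((Nat.prime_dvd_prime_iff_eq hz hr).1 (hz.dvd_of_dvd_pow h2))
      · exact hzw ((Nat.prime_dvd_prime_iff_eq hz hw.out).1 (hz.dvd_of_dvd_pow h2))
    haveI := nilpotent_of_proper hmax (inv_sup hR hWinv) hne
    intro x hx
    refine Subgroup.mem_normalizer_iff.2 fun y => ?_
    have key : ∀ y ∈ (R : Subgroup G), x * y * x⁻¹ = y := by
      intro y hy
      obtain ⟨i, hi⟩ := IsPGroup.iff_orderOf.1 R.isPGroup' ⟨y, hy⟩
      obtain ⟨j, hj⟩ := IsPGroup.iff_orderOf.1 W.isPGroup' ⟨x, hx⟩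
      rw [Subgroup.orderOf_mk] at hi hj
      have hc := congrArg Subtype.val (Transfer.Frobenius.commute_of_coprime_of_isNilpotent
        (a := (⟨x, mem_sup_right hx⟩ : ((R : Subgroup G) ⊔ (W : Subgroup G) : Subgroup G)))
        (b := ⟨y, mem_sup_left hy⟩) (by
          rw [Subgroup.orderOf_mk, Subgroup.orderOf_mk, hi, hj]
          exact ((Nat.coprime_primes hw.out hr).2 hwr).pow j i))
      simp only [Subgroup.coe_mul] at hc
      rw [hc, mul_inv_cancel_right]
    refine ⟨fun hy => by rw [key y hy]; exact hy, fun hy => ?_⟩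
    have h1 := key _ hy
    have h2 : x * y * x⁻¹ = y := mul_right_cancel (mul_left_cancel (by
      simpa [mul_assoc] using h1 : x * ((x * y * x⁻¹) * x⁻¹) = x * (y * x⁻¹)))
    rwa [h2] at hy
  obtain ⟨s, hs, hsd, hsr⟩ : ∃ s : ℕ, s.Prime ∧ s ∣ Nat.card G ∧ s ≠ r := by
    by_contra hno
    push Not at hno
    exact hG (IsPGroup.of_card (p := r) (Nat.eq_prime_pow_of_unique_prime_dvd Nat.card_pos.ne'
      fun {d} hd hdd => hno d hd hdd)).isNilpotent
  haveI := Fact.mk hs
  obtain ⟨a, b, hab⟩ := eq_two_pow (s := s) (Nat.card_pos (α := G)).ne' hr fun t ht htd => by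
    by_cases htr : t = r
    · exact Or.inl htr
    · exact Or.inr (hone t s ht hs htd hsd htr hsr)
  obtain ⟨S⟩ : Nonempty (Sylow s G) := inferInstance
  exact ⟨hsolv, ⟨r, s, a, b, hr, hs, hsr.symm, hab⟩, s, S, hs, hsd, (hnorm s inferInstance hsr S).1,
    (hnorm s inferInstance hsr S).2⟩

end Cfsg.Agent.Lib.FTDeps.Row4240
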