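import Cfsg.Agent.Lib.FTDeps.Basic
import Cfsg.Agent.Lib.Homocyclic.BrauerTheorem
import Cfsg.Agent.Lib.ZStar.UniqueCase
import Cfsg.Agent.Lib.IsolatedInvolution.Basic
import Cfsg.Agent.S1238
import Cfsg.Prelude.Def_TwoFusion

/-!
# S0516 modulo the odd order theorem

A simple group of 2-rank at most 2 is fusion simple, so S1238 applies; the homocyclic case is
excluded by Brauer's theorem.
-/

set_option autoImplicit false
set_option linter.style.haveILetI false

namespace Cfsg.Agent.Lib.FTDeps.Row0516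

universe u v

variable {G : Type u} [Group G] [Finite G] [IsSimpleGroup G]

theorem index_ne_two (hG : ¬ IsMulCommutative G) (H : Subgroup G) : H.index ≠ 2 := by
  intro h
  haveI := Subgroup.normal_of_index_eq_two h
  rcases IsSimpleGroup.eq_bot_or_eq_top_of_normal H inferInstance with e | e
  · rw [e, Subgroup.index_bot] at h
    haveI : Fact (Nat.Prime 2) := ⟨Nat.prime_two⟩
    haveI : IsCyclic G := isCyclic_of_prime_card h
    exact hG IsCyclic.isMulCommutative
  · rw [e, Subgroup.index_top] at h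
    omega

theorem even_card (hFT : Basic.OddOrderSolvable.{u}) (hG : ¬ IsMulCommutative G) :
    ¬ Odd (Nat.card G) := by
  intro h
  haveI := hFT G h
  exact hG ⟨⟨IsSimpleGroup.comm_iff_isSolvable.2 inferInstance⟩⟩

theorem odd_normal_eq_bot (hFT : Basic.OddOrderSolvable.{u}) (hG : ¬ IsMulCommutative G)
    (N : Subgroup G) (hN : N.Normal) (hodd : Odd (Nat.card N)) : N = ⊥ := by
  rcases IsSimpleGroup.eq_bot_or_eq_top_of_normal N hN with e | e
  · exact e
  · rw [e, Subgroup.card_top] at hodd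
    exact absurd hodd (even_card hFT hG)

theorem not_isolated (hFT : Basic.OddOrderSolvable.{u}) (hG : ¬ IsMulCommutative G) (z : G) :
    ¬ Cfsg.IsIsolatedInvolution z := by
  intro hz
  have hzz : z⁻¹ = z := inv_eq_of_mul_eq_one_right (by rw [← sq, ← hz.1, pow_orderOf_eq_one])
  have hiso : ZStar.Reduction.Iso z := ⟨hz.1, fun g => by
    rw [hzz, show z * g * z * g⁻¹ = z * (g * z * g⁻¹) by group]
    exact IsolatedInvolution.Basic.odd_orderOf_mul hz (IsConj.refl z) (isConj_iff.2 ⟨g, rfl⟩)⟩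
  have hc := ZStar.UniqueCase.mem_center_of_iso hiso (odd_normal_eq_bot hFT hG)
  rcases IsSimpleGroup.eq_bot_or_eq_top_of_normal (Subgroup.center G) inferInstance with e | e
  · rw [e, Subgroup.mem_bot] at hc
    have h2 := hz.1
    rw [hc, orderOf_one] at h2
    omega
  · exact hG ⟨⟨fun a b => (Subgroup.mem_center_iff.1 (e ▸ Subgroup.mem_top b) a)⟩⟩

theorem not_rank_one (hFT : Basic.OddOrderSolvable.{u}) (hG : ¬ IsMulCommutative G) :
    ¬ Cfsg.PRankLE 2 1 G := by
  intro h1
  haveI : Fact (Nat.Prime 2) := ⟨Nat.prime_two⟩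
  obtain ⟨z, hz⟩ := exists_prime_orderOf_dvd_card' (G := G) 2
    (Nat.not_odd_iff_even.1 (even_card hFT hG)).two_dvd
  refine not_isolated hFT hG z ⟨hz, fun g hc => ?_⟩
  set w := g * z * g⁻¹ with hw
  have hwo : orderOf w = 2 := by
    rw [← hz]; exact MulEquiv.orderOf_eq (MulAut.conj g) z
  by_contra hne
  let A : Subgroup G := Subgroup.closure {z, w}
  have hcomm : ∀ a ∈ ({z, w} : Set G), ∀ b ∈ ({z, w} : Set G), a * b = b * a := by
    intro a ha b hb
    rcases ha with rfl | rfl <;> rcases hb with rfl | rfl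
    exacts [rfl, hc.eq, hc.eq.symm, rfl]
  haveI : IsMulCommutative A := Subgroup.isMulCommutative_closure hcomm
  have hexp : ∀ a ∈ A, a ^ 2 = 1 := by
    intro a ha
    induction ha using Subgroup.closure_induction with
    | mem x hx =>
      rcases hx with rfl | rfl
      · rw [← hz, pow_orderOf_eq_one]
      · rw [← hwo, pow_orderOf_eq_one]
    | one => exact one_pow 2
    | mul x y hx hy ihx ihy =>
      have hxy : Commute x y :=
        congrArg Subtype.val ((inferInstance : IsMulCommutative A).is_comm.comm ⟨x, hx⟩ ⟨y, hy⟩)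
      rw [hxy.mul_pow, ihx, ihy, one_mul]
    | inv x _ ih => rw [inv_pow, ih, inv_one]
  have hle := h1 A inferInstance hexp
  have h2 : Nat.card (Subgroup.zpowers z) = Nat.card A := by
    refine le_antisymm (Subgroup.card_le_of_le (Subgroup.zpowers_le.2
      (Subgroup.subset_closure (Set.mem_insert z {w})))) ?_
    rw [Nat.card_zpowers, hz]
    simpa using hle
  have hwz : w ∈ Subgroup.zpowers z :=
    Subgroup.eq_of_le_of_card_ge (Subgroup.zpowers_le.2
      (Subgroup.subset_closure (Set.mem_insert z {w}))) h2.ge ▸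
      Subgroup.subset_closure (Set.mem_insert_of_mem z rfl)
  rw [← (isOfFinOrder_of_finite z).mem_powers_iff_mem_zpowers, Submonoid.mem_powers_iff] at hwz
  obtain ⟨j, hj⟩ := hwz
  rw [← pow_mod_orderOf, hz] at hj
  rcases Nat.mod_two_eq_zero_or_one j with e | e <;> rw [e] at hj
  · rw [pow_zero] at hj
    rw [← hj, orderOf_one] at hwo
    omega
  · exact hne (by rw [← hj, pow_one])

theorem result (hFT : Basic.OddOrderSolvable.{u}) (hG : ¬ IsMulCommutative G)
    (h2 : Cfsg.PRankLE 2 2 G) (S : Sylow 2 G) {F : Type v} [Field F] [Fintype F]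
    (hF : Fintype.card F = 16) (P : Sylow 2 (Cfsg.PSU 3 F 4)) :
    (∃ n : ℕ, 2 ≤ n ∧ Nonempty ((S : Subgroup G) ≃* DihedralGroup n)) ∨
      Cfsg.IsQuasiDihedral (S : Subgroup G) ∨ Cfsg.IsWreathed (S : Subgroup G) ∨
      Nonempty ((S : Subgroup G) ≃* (P : Subgroup (Cfsg.PSU 3 F 4))) := by
  rcases Cfsg.Agent.S1238.result h2 (not_rank_one hFT hG) (index_ne_two hG)
      (not_isolated hFT hG) S hF P with h | h | h | ⟨n, hn, ⟨e⟩⟩ | h
  · exact Or.inl h
  · exact Or.inr (Or.inl h)
  · exact Or.inr (Or.inr (Or.inl h))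
  · exfalso
    have hS := Homocyclic.BrauerTheorem.sylow_normal_aux (Nat.card G) G rfl S n hn e
      (odd_normal_eq_bot hFT hG)
    rcases IsSimpleGroup.eq_bot_or_eq_top_of_normal (S : Subgroup G) hS with h | h
    · refine even_card hFT hG (Nat.not_even_iff_odd.1 fun he => ?_)
      haveI : Fact (Nat.Prime 2) := ⟨Nat.prime_two⟩
      exact S.not_dvd_index (by rw [h, Subgroup.index_bot]; exact he.two_dvd)
    · refine hG ⟨⟨fun a b => ?_⟩⟩
      have := e.injective (a₁ := ⟨a, h ▸ Subgroup.mem_top a⟩ * ⟨b, h ▸ Subgroup.mem_top b⟩)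
        (a₂ := ⟨b, h ▸ Subgroup.mem_top b⟩ * ⟨a, h ▸ Subgroup.mem_top a⟩)
        (by rw [map_mul, map_mul, mul_comm])
      exact congrArg Subtype.val this
  · exact Or.inr (Or.inr (Or.inr h))

end Cfsg.Agent.Lib.FTDeps.Row0516
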