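import Cfsg.Agent.Lib.FTDeps.SchurConj

/-!
# Hall subgroups of π-separable groups and extensions of `C_π`-groups

The odd order theorem enters only through the conjugacy of complements.
-/

set_option autoImplicit false
set_option linter.style.haveILetI false

namespace Cfsg.Agent.Lib.FTDeps.HallSeparable

open Cfsg.Agent.Lib

universe u v

variable {G : Type u} [Group G]

/-- `G` has Hall `π`-subgroups, they are conjugate and contain all `π`-subgroups up to conjugacy. -/
def HallProps (π : Set ℕ) (G : Type u) [Group G] : Prop :=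
  (∃ K : Subgroup G, Cfsg.IsPiHall π K) ∧
    (∀ K L : Subgroup G, Cfsg.IsPiHall π K → Cfsg.IsPiHall π L →
      ∃ g : G, L = K.map (MulAut.conj g).toMonoidHom) ∧
    ∀ U : Subgroup G, (∀ q : ℕ, q.Prime → q ∣ Nat.card U → q ∈ π) →
      ∃ K : Subgroup G, Cfsg.IsPiHall π K ∧ U ≤ K

/-- A subgroup of order prime to `|N|` lies in a conjugate of a complement of `N`. -/
theorem exists_conj_le (hFT : Basic.OddOrderSolvable.{u}) [Finite G] {N K U : Subgroup G} [N.Normal]
    (hK : Subgroup.IsComplement' N K) (hU : (Nat.card N).Coprime (Nat.card U)) :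
    ∃ g : G, U ≤ K.map (MulAut.conj g).toMonoidHom := by
  set M := N ⊔ U with hM
  have h1 : Subgroup.IsComplement' (N.subgroupOf M) (U.subgroupOf M) := by
    refine SchurConj.compl_of_coprime ?_ ?_
    · rw [← Subgroup.subgroupOf_sup le_sup_left le_sup_right]
      exact Subgroup.subgroupOf_self _
    · rwa [Nat.card_congr (Subgroup.subgroupOfEquivOfLe (le_sup_left : N ≤ M)).toEquiv,
        Nat.card_congr (Subgroup.subgroupOfEquivOfLe (le_sup_right : U ≤ M)).toEquiv]
  have h2 : Subgroup.IsComplement' (N.subgroupOf M) ((K ⊓ M).subgroupOf M) := by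
    refine Hall.isComplement'_of_normal ?_ ?_
    · ext ⟨x, hx⟩
      simp only [Subgroup.mem_inf, Subgroup.mem_subgroupOf, Subgroup.mem_bot]
      refine ⟨fun h => Subtype.ext (Subgroup.disjoint_def.1 hK.disjoint h.1 h.2.1), ?_⟩
      intro h
      rw [Subgroup.mk_eq_one] at h
      subst h
      exact ⟨one_mem _, one_mem _, one_mem _⟩
    · rw [eq_top_iff]
      rintro ⟨x, hx⟩ -
      have hxs : x ∈ N ⊔ K := by rw [hK.sup_eq_top]; trivial
      obtain ⟨a, ha, b, hb, rfl⟩ := Subgroup.mem_sup_of_normal_left.1 hxs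
      have haM : a ∈ M := (le_sup_left : N ≤ M) ha
      have hbM : b ∈ M := (mul_mem_cancel_left haM).1 hx
      exact Subgroup.mem_sup_of_normal_left.2
        ⟨⟨a, haM⟩, Subgroup.mem_subgroupOf.2 ha, ⟨b, hbM⟩, Subgroup.mem_subgroupOf.2 ⟨hb, hbM⟩, rfl⟩
  have hc : (Nat.card (N.subgroupOf M)).Coprime (N.subgroupOf M).index := by
    rwa [h1.symm.index_eq_card, Nat.card_congr (Subgroup.subgroupOfEquivOfLe (le_sup_left : N ≤ M)).toEquiv,
      Nat.card_congr (Subgroup.subgroupOfEquivOfLe (le_sup_right : U ≤ M)).toEquiv]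
  obtain ⟨m, hm⟩ := SchurConj.exists_conj hFT hc h2 h1
  exact ⟨(m : G), le_of_eq_of_le (SchurConj.conj_of_subgroupOf inf_le_right le_sup_right m hm).symm
    (Subgroup.map_mono inf_le_left)⟩

theorem card_comap_mk [Finite G] (M : Subgroup G) [M.Normal] (Kb : Subgroup (G ⧸ M)) :
    Nat.card (Kb.comap (QuotientGroup.mk' M)) = Nat.card M * Nat.card Kb := by
  have hle : M ≤ Kb.comap (QuotientGroup.mk' M) :=
    (QuotientGroup.ker_mk' M).symm.le.trans (Subgroup.ker_le_comap _ Kb)
  have h1 := Subgroup.relIndex_mul_relIndex ⊥ M (Kb.comap (QuotientGroup.mk' M)) bot_le hle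
  rw [Subgroup.relIndex_bot_left, Subgroup.relIndex_bot_left] at h1
  rw [← h1]
  congr 1
  conv_lhs => arg 1; rw [← QuotientGroup.ker_mk' M, ← MonoidHom.comap_bot]
  rw [Subgroup.relIndex_comap, Subgroup.map_comap_eq_self_of_surjective (QuotientGroup.mk'_surjective M),
    Subgroup.relIndex_bot_left]

theorem hall_aux (hFT : Basic.OddOrderSolvable.{u}) (π : Set ℕ) : ∀ (n : ℕ) (G : Type u) [Group G] [Finite G]
    (H : Fin (n + 1) → Subgroup G), H 0 = ⊥ → H (Fin.last n) = ⊤ → Monotone H → (∀ i, (H i).Normal) →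
    (∀ i : Fin n, (∀ q : ℕ, q.Prime → q ∣ (H i.castSucc).relIndex (H i.succ) → q ∈ π) ∨
        (∀ q : ℕ, q.Prime → q ∣ (H i.castSucc).relIndex (H i.succ) → q ∉ π)) →
    HallProps π G := by
  intro n
  induction n with
  | zero =>
    intro G _ _ H h0 h1 _ _ _
    have hbt : (⊥ : Subgroup G) = ⊤ := h0.symm.trans (h1 ▸ rfl)
    have hall : ∀ K : Subgroup G, K = ⊥ := fun K => le_bot_iff.1 (hbt ▸ le_top)
    have hH : Cfsg.IsPiHall π (⊥ : Subgroup G) := by
      refine ⟨fun p hp h => ?_, fun p hp _ h => ?_⟩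
      · rw [Subgroup.card_bot] at h; exact absurd h hp.not_dvd_one
      · rw [hbt, Subgroup.index_top] at h; exact hp.not_dvd_one h
    exact ⟨⟨⊥, hH⟩, fun K L _ _ => ⟨1, by rw [hall K, hall L, Subgroup.map_bot]⟩,
      fun U _ => ⟨⊥, hH, (hall U).le⟩⟩
  | succ n ih =>
    intro G _ _ H h0 h1 hmono hnor hstep
    set M := H 1 with hM
    haveI : M.Normal := hnor 1
    set f := QuotientGroup.mk' M with hf
    have hfs : Function.Surjective f := QuotientGroup.mk'_surjective M
    have hfk : f.ker = M := QuotientGroup.ker_mk' M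
    obtain ⟨hex, hconj, hle⟩ := ih (G ⧸ M) (fun i => (H i.succ).map f)
      (by
        show (H (Fin.succ 0)).map f = ⊥
        rw [Fin.succ_zero_eq_one, ← hM, QuotientGroup.map_mk'_self])
      (by
        show (H (Fin.last n).succ).map f = ⊤
        rw [Fin.succ_last, h1, Subgroup.map_top_of_surjective _ hfs])
      (fun i j hij => Subgroup.map_mono (hmono (Fin.succ_le_succ_iff.2 hij)))
      (fun i => Subgroup.Normal.map (hnor _) _ hfs)
      (fun i => by
        have hge : ∀ j : Fin (n + 1), H j.succ ⊔ f.ker = H j.succ := fun j => by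
          rw [hfk]; exact sup_eq_left.2 (hmono (Fin.one_le_of_ne_zero (Fin.succ_ne_zero j)))
        have := hstep i.succ
        rw [Fin.castSucc_succ] at this
        simp only [Subgroup.relIndex_map_map, hge]
        exact this)
    have hfirst : (∀ q : ℕ, q.Prime → q ∣ Nat.card M → q ∈ π) ∨ (∀ q : ℕ, q.Prime → q ∣ Nat.card M → q ∉ π) := by
      have := hstep 0
      rwa [Fin.castSucc_zero, Fin.succ_zero_eq_one, h0, Subgroup.relIndex_bot_left] at this
    rcases hfirst with hMπ | hMπ
    · have hcomap : ∀ Kb : Subgroup (G ⧸ M), Cfsg.IsPiHall π Kb → Cfsg.IsPiHall π (Kb.comap f) := by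
        intro Kb hKb
        refine ⟨fun p hp h => ?_, fun p hp hm h => hKb.2 p hp hm ?_⟩
        · rw [card_comap_mk] at h
          exact (hp.dvd_mul.1 h).elim (hMπ p hp) (hKb.1 p hp)
        · rwa [Subgroup.index_comap_of_surjective _ hfs] at h
      have heq : ∀ K : Subgroup G, Cfsg.IsPiHall π K → (K.map f).comap f = K := by
        intro K hK
        rw [Subgroup.comap_map_eq, hfk]
        exact (Hall.isPiHall_eq_of_le hK (fun p hp hd =>
          (hp.dvd_mul.1 (hd.trans (Hall.card_sup_dvd K M))).elim (hK.1 p hp) (hMπ p hp)) le_sup_left).symm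
      obtain ⟨Kb, hKb⟩ := hex
      refine ⟨⟨_, hcomap Kb hKb⟩, fun K L hK hL => ?_, fun U hU => ?_⟩
      · obtain ⟨gb, hgb⟩ := hconj _ _ (Hall.isPiHall_map hK f hfs) (Hall.isPiHall_map hL f hfs)
        obtain ⟨g, rfl⟩ := hfs gb
        refine ⟨g, ?_⟩
        have h := SchurConj.le_of_map_mk (A := M) g hgb.symm
        have hKg : Cfsg.IsPiHall π (K.map (MulAut.conj g).toMonoidHom) := Hall.isPiHall_conj hK g
        have e1 := heq L hL
        have e2 := heq _ hKg
        rw [Subgroup.comap_map_eq, hfk, sup_comm] at e1 e2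
        exact (e1.symm.trans (h.symm.trans e2))
      · obtain ⟨Kb', hKb', hUle⟩ := hle (U.map f) (fun q hq h => hU q hq (h.trans (Subgroup.card_map_dvd U f)))
        exact ⟨_, hcomap Kb' hKb', Subgroup.map_le_iff_le_comap.1 hUle⟩
    · have hpre : ∀ Kb : Subgroup (G ⧸ M), Cfsg.IsPiHall π Kb → ∃ K : Subgroup G, K ≤ Kb.comap f ∧
          Subgroup.IsComplement' (M.subgroupOf (Kb.comap f)) (K.subgroupOf (Kb.comap f)) ∧
          Cfsg.IsPiHall π K := by
        intro Kb hKb
        set X := Kb.comap f with hX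
        have hMX : M ≤ X := hfk.symm.le.trans (Subgroup.ker_le_comap _ Kb)
        have hMc : Nat.card (M.subgroupOf X) = Nat.card M :=
          Nat.card_congr (Subgroup.subgroupOfEquivOfLe hMX).toEquiv
        have hidx : (M.subgroupOf X).index = Nat.card Kb := by
          have h2 := (M.subgroupOf X).card_mul_index
          rw [hMc, hX, card_comap_mk] at h2
          exact Nat.eq_of_mul_eq_mul_left Nat.card_pos h2
        obtain ⟨K₀, hK₀⟩ := Subgroup.exists_right_complement'_of_coprime (N := M.subgroupOf X) (by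
          rw [hMc, hidx]
          exact Nat.coprime_of_dvd fun p hp a b => hMπ p hp a (hKb.1 p hp b))
        refine ⟨K₀.map X.subtype, Subgroup.map_subtype_le K₀, ?_, ?_, ?_⟩
        · rwa [show (K₀.map X.subtype).subgroupOf X = K₀ from
            Subgroup.comap_map_eq_self_of_injective X.subtype_injective K₀]
        · intro p hp h
          rw [Subgroup.card_map_of_injective X.subtype_injective, ← hK₀.symm.index_eq_card, hidx] at h
          exact hKb.1 p hp h
        · intro p hp hm h
          rw [Subgroup.index_map_subtype, hK₀.index_eq_card, hMc, hX,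
            Subgroup.index_comap_of_surjective _ hfs] at h
          exact (hp.dvd_mul.1 h).elim (fun h => hMπ p hp h hm) (hKb.2 p hp hm)
      have hconjle : ∀ (Kb : Subgroup (G ⧸ M)) (K U : Subgroup G), K ≤ Kb.comap f →
          Subgroup.IsComplement' (M.subgroupOf (Kb.comap f)) (K.subgroupOf (Kb.comap f)) →
          (∀ q : ℕ, q.Prime → q ∣ Nat.card U → q ∈ π) → U ≤ Kb.comap f →
          ∃ g : G, U ≤ K.map (MulAut.conj g).toMonoidHom := by
        intro Kb K U hKX hKc hU hUX
        set X := Kb.comap f with hX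
        obtain ⟨g, hg⟩ := exists_conj_le hFT hKc (U := U.subgroupOf X) (by
          refine Nat.coprime_of_dvd fun p hp a b => ?_
          exact hMπ p hp (a.trans (Subgroup.card_comap_dvd_of_injective M X.subtype X.subtype_injective))
            (hU p hp (b.trans (Subgroup.card_comap_dvd_of_injective U X.subtype X.subtype_injective))))
        refine ⟨(g : G), fun u hu => ?_⟩
        obtain ⟨k, hk, hku⟩ := hg (show (⟨u, hUX hu⟩ : ↥X) ∈ U.subgroupOf X from hu)
        exact ⟨(k : G), hk, congrArg Subtype.val hku⟩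
      obtain ⟨Kb, hKb⟩ := hex
      obtain ⟨K, -, -, hK⟩ := hpre Kb hKb
      refine ⟨⟨K, hK⟩, fun K L hK hL => ?_, fun U hU => ?_⟩
      · obtain ⟨K', hK'X, hK'c, hK'⟩ := hpre _ (Hall.isPiHall_map hK f hfs)
        obtain ⟨a, ha⟩ := hconjle _ K' K hK'X hK'c hK.1 (Subgroup.le_comap_map f K)
        have ea : K = K'.map (MulAut.conj a).toMonoidHom :=
          Hall.isPiHall_eq_of_le hK (Hall.isPiHall_conj hK' a).1 ha
        obtain ⟨gb, hgb⟩ := hconj _ _ (Hall.isPiHall_map hK f hfs) (Hall.isPiHall_map hL f hfs)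
        obtain ⟨g, rfl⟩ := hfs gb
        have h := SchurConj.le_of_map_mk (A := M) g hgb.symm
        have hLc : L.map (MulAut.conj g⁻¹).toMonoidHom ≤ (K.map f).comap f := by
          rw [Subgroup.comap_map_eq, hfk, sup_comm]
          have h2 := congrArg (Subgroup.map (MulAut.conj g⁻¹).toMonoidHom) h
          rw [Subgroup.map_sup, Subgroup.map_sup, SchurConj.map_conj_map_conj, inv_mul_cancel,
            show M.map (MulAut.conj g⁻¹).toMonoidHom = M from Subgroup.Normal.map_conj_eq M _,
            show K.map (MulAut.conj (1 : G)).toMonoidHom = K by ext x; simp] at h2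
          rw [h2]
          exact le_sup_right
        obtain ⟨b, hb⟩ := hconjle _ K' _ hK'X hK'c (Hall.isPiHall_conj hL g⁻¹).1 hLc
        have eb : L.map (MulAut.conj g⁻¹).toMonoidHom = K'.map (MulAut.conj b).toMonoidHom :=
          Hall.isPiHall_eq_of_le (Hall.isPiHall_conj hL g⁻¹) (Hall.isPiHall_conj hK' b).1 hb
        refine ⟨g * b * a⁻¹, ?_⟩
        rw [ea, SchurConj.map_conj_map_conj, inv_mul_cancel_right, ← SchurConj.map_conj_map_conj]
        have := congrArg (Subgroup.map (MulAut.conj g).toMonoidHom) eb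
        rw [← this]
        refine Eq.symm ?_
        refine (SchurConj.map_conj_map_conj L g⁻¹ g).trans ?_
        rw [mul_inv_cancel]
        ext x; simp
      · obtain ⟨Kb', hKb', hUle⟩ := hle (U.map f) (fun q hq h => hU q hq (h.trans (Subgroup.card_map_dvd U f)))
        obtain ⟨K', hK'X, hK'c, hK'⟩ := hpre Kb' hKb'
        obtain ⟨g, hg⟩ := hconjle Kb' K' U hK'X hK'c hU (Subgroup.map_le_iff_le_comap.1 hUle)
        exact ⟨_, Hall.isPiHall_conj hK' g, hg⟩

/-- Hall's theorem for π-separable groups. -/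
theorem hallProps_of_separable (hFT : Basic.OddOrderSolvable.{u}) [Finite G] (π : Set ℕ)
    (hsep : ∃ (n : ℕ) (H : Fin (n + 1) → Subgroup G), H 0 = ⊥ ∧ H (Fin.last n) = ⊤ ∧ Monotone H ∧
      (∀ i, (H i).Normal) ∧
      ∀ i : Fin n, (∀ q : ℕ, q.Prime → q ∣ (H i.castSucc).relIndex (H i.succ) → q ∈ π) ∨
        (∀ q : ℕ, q.Prime → q ∣ (H i.castSucc).relIndex (H i.succ) → q ∉ π)) :
    HallProps π G := by
  obtain ⟨n, H, h0, h1, h2, h3, h4⟩ := hsep
  exact hall_aux hFT π n G H h0 h1 h2 h3 h4

end Cfsg.Agent.Lib.FTDeps.HallSeparable
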