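import Cfsg.Agent.Lib.FTDeps.Basic
import Cfsg.Agent.Lib.FTDeps.FixingSylow
import Cfsg.Agent.Lib.FTDeps.HallSeparable
import Cfsg.Agent.Lib.Transfer.Frobenius
import Cfsg.Agent.Lib.ZStar.UniqueCase

/-!
# Automorphisms fixing a Sylow 2-subgroup

They form a group with abelian Sylow 2-subgroups and normal 2-complements, solvable by the odd order
theorem.
-/

set_option autoImplicit false
set_option linter.style.haveILetI false

namespace Cfsg.Agent.Lib.FTDeps.FixingSylowSolvable

open scoped commutatorElement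

universe u

variable {G : Type u} [Group G] [Finite G]

theorem structure_of_fixing (hFT : Basic.OddOrderSolvable.{u})
    (hO : ∀ N : Subgroup G, N.Normal → Odd (Nat.card N) → N = ⊥) (S : Sylow 2 G) (C : Subgroup (MulAut G))
    (hC : ∀ φ : MulAut G, φ ∈ C ↔ ∀ s : G, s ∈ S → φ s = s) :
    (∀ T : Sylow 2 ↥C, (∀ a b : ↥T, a * b = b * a) ∧
      ∃ N : Subgroup ↥C, N.Normal ∧ Subgroup.IsComplement' N (T : Subgroup ↥C)) ∧ Group.IsSolvable ↥C := by
  haveI : Fact (Nat.Prime 2) := ⟨Nat.prime_two⟩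
  haveI : Finite (MulAut G) := Finite.of_injective (fun φ : MulAut G => (φ : G → G)) DFunLike.coe_injective
  set D := _root_.commutator ↥C with hD
  have hodd : Odd (Nat.card D) := by
    have := FixingSylow.card_commutator_odd
      (fun G _ _ P t ht htP h => Lib.ZStar.UniqueCase.zstar P t ht htP h) hO S C (fun r hr => (hC r).1 hr)
    rwa [← Subgroup.map_subtype_commutator, Subgroup.card_map_of_injective C.subtype_injective] at this
  have hfree : ∀ (T : Sylow 2 ↥C) (x : ↥C), x ∈ T → x ∈ D → x = 1 := by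
    intro T x hxT hxD
    obtain ⟨k, hk⟩ := IsPGroup.iff_orderOf.1 T.2 ⟨x, hxT⟩
    rw [Subgroup.orderOf_mk] at hk
    rw [← orderOf_eq_one_iff]
    exact Nat.eq_one_of_dvd_coprimes (Nat.Coprime.pow_left k (Nat.coprime_two_left.2 hodd)) (dvd_of_eq hk)
      (Subgroup.orderOf_dvd_natCard D hxD)
  letI : CommGroup (↥C ⧸ D) :=
    { (inferInstance : Group (↥C ⧸ D)) with
      mul_comm := fun a b => by
        obtain ⟨a, rfl⟩ := QuotientGroup.mk'_surjective D a
        obtain ⟨b, rfl⟩ := QuotientGroup.mk'_surjective D b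
        rw [← map_mul, ← map_mul]
        refine QuotientGroup.eq.2 ?_
        have : (a * b)⁻¹ * (b * a) = ⁅b⁻¹, a⁻¹⁆ := by rw [commutatorElement_def]; group
        rw [this, hD, _root_.commutator_def]
        exact Subgroup.commutator_mem_commutator (Subgroup.mem_top _) (Subgroup.mem_top _) }
  refine ⟨fun T => ⟨fun a b => ?_, ?_⟩, ?_⟩
  · refine Subtype.ext ?_
    have h : ⁅(a : ↥C), (b : ↥C)⁆ = 1 := by
      refine hfree T _ ?_ ?_
      · rw [commutatorElement_def]
        exact mul_mem (mul_mem (mul_mem a.2 b.2) (inv_mem a.2)) (inv_mem b.2)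
      · rw [hD, _root_.commutator_def]
        exact Subgroup.commutator_mem_commutator (Subgroup.mem_top _) (Subgroup.mem_top _)
    exact commutatorElement_eq_one_iff_mul_comm.1 h
  · haveI : Group.IsNilpotent (↥C ⧸ D) := inferInstance
    obtain ⟨P, N, hN, hc⟩ := Lib.Transfer.Frobenius.hasNormalPComplement_of_isNilpotent (p := 2) (G := ↥C ⧸ D)
    have hNodd : ¬ 2 ∣ Nat.card N := by rw [← hc.index_eq_card]; exact P.not_dvd_index
    set M := N.comap (QuotientGroup.mk' D) with hM
    haveI : M.Normal := hN.comap _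
    have hMcard : ¬ 2 ∣ Nat.card M := by
      rw [hM, HallSeparable.card_comap_mk, Nat.prime_two.dvd_mul]
      exact fun h => h.elim hodd.not_two_dvd_nat hNodd
    obtain ⟨j, hj⟩ := IsPGroup.iff_card.1 T.2
    obtain ⟨i, hi⟩ := IsPGroup.iff_card.1 P.2
    refine ⟨M, inferInstance, Cfsg.Agent.Lib.FTDeps.SchurConj.compl_of_coprime ?_ ?_⟩
    · rw [← Subgroup.index_eq_one]
      have h1 : (M ⊔ (T : Subgroup ↥C)).index ∣ 2 ^ i := by
        have := Subgroup.index_dvd_of_le (le_sup_left : M ≤ M ⊔ (T : Subgroup ↥C))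
        rwa [hM, Subgroup.index_comap_of_surjective _ (QuotientGroup.mk'_surjective D), hc.symm.index_eq_card,
          hi] at this
      have h2 := Subgroup.index_dvd_of_le (le_sup_right : (T : Subgroup ↥C) ≤ M ⊔ (T : Subgroup ↥C))
      exact Nat.eq_one_of_dvd_coprimes
        (Nat.Coprime.pow_left i ((Nat.Prime.coprime_iff_not_dvd Nat.prime_two).2 T.not_dvd_index)) h1 h2
    · rw [hj]
      exact ((Nat.Prime.coprime_iff_not_dvd Nat.prime_two).2 hMcard).symm.pow_right j
  · haveI : Group.IsSolvable ↥D := hFT ↥D hodd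
    haveI : Group.IsSolvable (↥C ⧸ D) := inferInstance
    exact (Group.isSolvable_iff_subgroup_quotient D).2 ⟨inferInstance, inferInstance⟩

end Cfsg.Agent.Lib.FTDeps.FixingSylowSolvable
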