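import Cfsg.Agent.Lib.FTDeps.Basic
import Cfsg.Agent.Lib.ZStar.Elements
import Cfsg.Agent.Lib.ZStar.StronglyClosed

/-!
# A 2-group `Q` with `C_N(Q) = C_N(t)` for some `t ∈ Z(Q) ∩ Q'`

`t` is isolated in a Sylow 2-subgroup, so `[N, Q]` has odd order.
-/

set_option autoImplicit false
set_option linter.style.haveILetI false

namespace Cfsg.Agent.Lib.FTDeps.CentralTwo

open Cfsg.Agent.Lib.ZStar.Elements
open scoped commutatorElement Pointwise

universe u

variable {G : Type u} [Group G] [Finite G]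

/-- `Q` centralises each 2-group it normalises in which `t` centralises only what `Q` does. -/
theorem centralizes_of {Q R : Subgroup G} {t : G} (hQ : IsPGroup 2 ↥Q) (hR : IsPGroup 2 ↥R)
    (hn : Q ≤ Subgroup.normalizer (R : Set G)) (hdisj : Q ⊓ R = ⊥) (htQ : t ∈ ⁅Q, Q⁆)
    (hC : ∀ r ∈ R, Commute t r → ∀ q ∈ Q, Commute q r) : ∀ r ∈ R, ∀ q ∈ Q, Commute q r := by
  haveI : Fact (Nat.Prime 2) := ⟨Nat.prime_two⟩
  set C := R ⊓ Subgroup.centralizer (Q : Set G) with hCdef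
  have hCq : ∀ d ∈ C, ∀ q ∈ Q, Commute q d := fun d hd q hq => Subgroup.mem_centralizer_iff.1 hd.2 q hq
  by_cases hCR : R ≤ C
  · exact fun r hr q hq => hCq r (hCR hr) q hq
  exfalso
  set M := R ⊓ Subgroup.normalizer (C : Set G) with hM
  have hQC : Q ≤ Subgroup.normalizer (C : Set G) := by
    intro q hq
    rw [Subgroup.mem_normalizer_iff]
    intro d
    constructor
    · intro hd
      rw [(hCq d hd q hq).eq, mul_inv_cancel_right]
      exact hd
    · intro hd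
      have h1 := (hCq _ hd q hq).eq
      have : d = q * d * q⁻¹ := by
        have h2 : q * d * q⁻¹ = q⁻¹ * (q * (q * d * q⁻¹)) := by group
        rw [h1] at h2
        rw [h2]; group
      rw [this]
      exact hd
  have hQM : Q ≤ Subgroup.normalizer (M : Set G) := by
    intro q hq
    rw [Subgroup.mem_normalizer_iff]
    intro d
    have h1 := Subgroup.mem_normalizer_iff.1 (hn hq) d
    have hqN := hQC hq
    constructor
    · exact fun hd => Subgroup.mem_inf.2 ⟨h1.1 hd.1, mul_mem (mul_mem hqN hd.2) (inv_mem hqN)⟩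
    · intro hd
      refine Subgroup.mem_inf.2 ⟨h1.2 hd.1, ?_⟩
      have h2 := mul_mem (mul_mem (inv_mem hqN) hd.2) hqN
      have e : q⁻¹ * (q * d * q⁻¹) * q = d := by group
      rwa [e] at h2
  have hCM : C ≤ M := le_inf inf_le_left Subgroup.le_normalizer
  have hMC : ¬ M ≤ C := by
    intro hle
    haveI : Group.IsNilpotent ↥R := hR.isNilpotent
    have hlt : C.subgroupOf R < ⊤ := by
      rw [lt_top_iff_ne_top, ne_eq, Subgroup.subgroupOf_eq_top]
      exact hCR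
    obtain ⟨g, hgN, hgC⟩ := SetLike.exists_of_lt (Group.normalizerCondition_of_isNilpotent _ hlt)
    refine hgC (Subgroup.mem_subgroupOf.2 (hle (Subgroup.mem_inf.2 ⟨g.2, ?_⟩)))
    rw [Subgroup.mem_normalizer_iff]
    intro a
    constructor
    · intro ha
      exact Subgroup.mem_subgroupOf.1 ((Subgroup.mem_normalizer_iff.1 hgN ⟨a, ha.1⟩).1 (Subgroup.mem_subgroupOf.2 ha))
    · intro ha
      have haR : a ∈ R := by
        have := mul_mem (mul_mem (inv_mem g.2) ha.1) g.2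
        have e : (g : G)⁻¹ * ((g : G) * a * (g : G)⁻¹) * (g : G) = a := by group
        rwa [e] at this
      exact Subgroup.mem_subgroupOf.1 ((Subgroup.mem_normalizer_iff.1 hgN ⟨a, haR⟩).2 (Subgroup.mem_subgroupOf.2 ha))
  -- a fixed point of `Q` on `M / C`
  set P := Q ⊔ M
  set L := Q ⊔ C
  have hP : IsPGroup 2 ↥P := hQ.to_sup_of_normal_right' (hR.to_le inf_le_left) hQM
  have hdec : ∀ {X : Subgroup G}, Q ≤ Subgroup.normalizer (X : Set G) → ∀ y ∈ Q ⊔ X, ∃ q ∈ Q, ∃ x ∈ X, q * x = y := by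
    intro X hX y hy
    have h1 : y ∈ ((Q ⊔ X : Subgroup G) : Set G) := hy
    rw [Subgroup.coe_mul_of_left_le_normalizer_right Q X hX] at h1
    exact Set.mem_mul.1 h1
  have hLP : L.subgroupOf P < ⊤ := by
    rw [lt_top_iff_ne_top, ne_eq, Subgroup.subgroupOf_eq_top]
    intro hle
    refine hMC fun m hm => ?_
    obtain ⟨q, hq, d, hd, rfl⟩ := hdec hQC m (hle (Subgroup.mem_sup_right hm))
    have : q ∈ Q ⊓ R := ⟨hq, by simpa using mul_mem (Subgroup.mem_inf.1 hm).1 (inv_mem (Subgroup.mem_inf.1 hd).1)⟩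
    rw [hdisj, Subgroup.mem_bot] at this
    rw [this, one_mul]
    exact hd
  haveI : Group.IsNilpotent ↥P := hP.isNilpotent
  obtain ⟨y, hyN, hyL⟩ := SetLike.exists_of_lt (Group.normalizerCondition_of_isNilpotent _ hLP)
  obtain ⟨q₀, hq₀, x, hx, hyx⟩ := hdec hQM (y : G) y.2
  have hxC : x ∉ C := fun h => hyL (Subgroup.mem_subgroupOf.2
    (hyx ▸ mul_mem (Subgroup.mem_sup_left hq₀) (Subgroup.mem_sup_right h)))
  have hc : ∀ q ∈ Q, q * x * q⁻¹ * x⁻¹ ∈ C := by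
    intro q hq
    -- `x` normalises `L`
    have hqL : q⁻¹ ∈ L := Subgroup.mem_sup_left (inv_mem hq)
    have hqP : q⁻¹ ∈ P := Subgroup.mem_sup_left (inv_mem hq)
    have h1 : (y : G) * q⁻¹ * (y : G)⁻¹ ∈ L :=
      Subgroup.mem_subgroupOf.1 ((Subgroup.mem_normalizer_iff.1 hyN ⟨q⁻¹, hqP⟩).1 (Subgroup.mem_subgroupOf.2 hqL))
    have h2 : q₀⁻¹ * ((y : G) * q⁻¹ * (y : G)⁻¹) * q₀ ∈ L :=
      mul_mem (mul_mem (inv_mem (Subgroup.mem_sup_left hq₀)) h1) (Subgroup.mem_sup_left hq₀)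
    have h3 : q * x * q⁻¹ * x⁻¹ ∈ L := by
      have e : q * x * q⁻¹ * x⁻¹ = q * (q₀⁻¹ * ((y : G) * q⁻¹ * (y : G)⁻¹) * q₀) := by rw [← hyx]; group
      rw [e]
      exact mul_mem (Subgroup.mem_sup_left hq) h2
    have h4 : q * x * q⁻¹ * x⁻¹ ∈ M :=
      mul_mem ((Subgroup.mem_normalizer_iff.1 (hQM hq) x).1 hx) (inv_mem hx)
    obtain ⟨q', hq', d, hd, e⟩ := hdec hQC _ h3
    have : q' ∈ Q ⊓ R := ⟨hq', by
      have h5 := mul_mem (Subgroup.mem_inf.1 h4).1 (inv_mem (Subgroup.mem_inf.1 hd).1)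
      rwa [← e, mul_inv_cancel_right] at h5⟩
    rw [hdisj, Subgroup.mem_bot] at this
    rw [← e, this, one_mul]
    exact hd
  set c : G → G := fun q => q * x * q⁻¹ * x⁻¹ with hcdef
  have hcm : ∀ a ∈ Q, ∀ b ∈ Q, c (a * b) = c b * c a := by
    intro a ha b hb
    have : c (a * b) = a * c b * a⁻¹ * c a := by simp only [hcdef]; group
    rw [this, (hCq _ (hc b hb) a ha).eq, mul_inv_cancel_right]
  have hcen : ∀ a ∈ Q, ∀ d ∈ C, Commute (c a) d := by
    intro a ha d hd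
    have hxN : x ∈ Subgroup.normalizer (C : Set G) := hx.2
    have hd' : x⁻¹ * d * x ∈ C := by
      have := (Subgroup.mem_normalizer_iff.1 (inv_mem hxN) d).1 hd
      rwa [inv_inv] at this
    have e1 : a * d * a⁻¹ = d := by rw [(hCq d hd a ha).eq, mul_inv_cancel_right]
    have e2 : a * d * a⁻¹ = c a * (x * (a * (x⁻¹ * d * x) * a⁻¹) * x⁻¹) * (c a)⁻¹ := by
      simp only [hcdef]; group
    rw [e1, (hCq _ hd' a ha).eq, mul_inv_cancel_right] at e2
    have e3 : d = c a * d * (c a)⁻¹ := by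
      rwa [show x * (x⁻¹ * d * x) * x⁻¹ = d by group] at e2
    exact mul_inv_eq_iff_eq_mul.1 e3.symm
  have hker : ∀ a ∈ Q, ∀ b ∈ Q, c ⁅a, b⁆ = 1 := by
    intro a ha b hb
    have hc1 : c 1 = 1 := by simp [hcdef]
    have hinv : ∀ q ∈ Q, c q⁻¹ = (c q)⁻¹ := by
      intro q hq
      apply eq_inv_of_mul_eq_one_right
      rw [← hcm _ (inv_mem hq) _ hq, inv_mul_cancel, hc1]
    rw [commutatorElement_def, hcm _ (mul_mem (mul_mem ha hb) (inv_mem ha)) _ (inv_mem hb),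
      hcm _ (mul_mem ha hb) _ (inv_mem ha), hcm _ ha _ hb, hinv a ha, hinv b hb,
      show c b * c a = c a * c b from (hcen b hb (c a) (hc a ha)).eq]
    group
  have hle : ⁅Q, Q⁆ ≤ Subgroup.centralizer ({x} : Set G) := by
    rw [Subgroup.commutator_le]
    intro a ha b hb
    rw [Subgroup.mem_centralizer_singleton_iff]
    have := hker a ha b hb
    simp only [hcdef] at this
    exact mul_inv_eq_iff_eq_mul.1 (mul_inv_eq_one.1 this)
  exact hxC (Subgroup.mem_inf.2 ⟨hx.1, Subgroup.mem_centralizer_iff.2 fun q hq =>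
    hC x hx.1 (Subgroup.mem_centralizer_singleton_iff.1 (hle htQ)) q hq⟩)

variable {N Q : Subgroup G} [N.Normal] {t : G}

/-- `t` is isolated in a Sylow 2-subgroup containing `Q`. -/
theorem isolated (hG : Q ⊔ N = ⊤) (hQ : IsPGroup 2 ↥Q) (hdisj : Q ⊓ N = ⊥) (htQ : t ∈ ⁅Q, Q⁆)
    (htc : ∀ q ∈ Q, Commute q t) (hC : ∀ n ∈ N, Commute t n → ∀ q ∈ Q, Commute q n)
    (S : Sylow 2 G) (hQS : Q ≤ (S : Subgroup G)) : IsolatedIn S t := by
  haveI : Fact (Nat.Prime 2) := ⟨Nat.prime_two⟩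
  have htmem : t ∈ Q := (Subgroup.commutator_le.2 fun a ha b hb => mul_mem (mul_mem (mul_mem ha hb) (inv_mem ha)) (inv_mem hb)) htQ
  have hsplit : ∀ g : G, ∃ q ∈ Q, ∃ n ∈ N, q * n = g := fun g =>
    Subgroup.mem_sup_of_normal_right.1 (hG ▸ Subgroup.mem_top g)
  -- `Q` centralises every 2-subgroup of `N` it normalises
  have hcent : ∀ T : Sylow 2 G, Q ≤ (T : Subgroup G) → ∀ r ∈ (T : Subgroup G), r ∈ N → ∀ q ∈ Q, Commute q r := by
    intro T hQT r hr hrN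
    refine centralizes_of (R := (T : Subgroup G) ⊓ N) hQ (T.2.to_le inf_le_left) ?_ ?_ htQ
      (fun n hn => hC n hn.2) r ⟨hr, hrN⟩
    · intro q hq
      rw [Subgroup.mem_normalizer_iff]
      intro a
      constructor
      · exact fun ha => Subgroup.mem_inf.2 ⟨mul_mem (mul_mem (hQT hq) ha.1) (inv_mem (hQT hq)),
          Subgroup.Normal.conj_mem inferInstance a ha.2 q⟩
      · intro ha
        have h1 := mul_mem (mul_mem (inv_mem (hQT hq)) ha.1) (hQT hq)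
        have h2 := Subgroup.Normal.conj_mem (inferInstanceAs N.Normal) _ ha.2 q⁻¹
        have e : q⁻¹ * (q * a * q⁻¹) * q = a := by group
        rw [inv_inv] at h2
        rw [e] at h1 h2
        exact Subgroup.mem_inf.2 ⟨h1, h2⟩
    · rw [eq_bot_iff, ← hdisj]
      exact le_inf inf_le_left (inf_le_right.trans inf_le_right)
  have hSdec : ∀ s ∈ (S : Subgroup G), ∃ q ∈ Q, ∃ n ∈ (S : Subgroup G), n ∈ N ∧ q * n = s := by
    intro s hs
    obtain ⟨q, hq, n, hn, e⟩ := hsplit s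
    exact ⟨q, hq, n, by simpa [← e] using mul_mem (inv_mem (hQS hq)) hs, hn, e⟩
  refine ⟨hQS htmem, fun g hg => ?_⟩
  set x := g * t * g⁻¹ with hx
  -- `x` is centralised by `Q`
  have hxN : t⁻¹ * x ∈ N := by
    obtain ⟨q, hq, n, hn, rfl⟩ := hsplit g
    have e : t⁻¹ * x = q * ((t⁻¹ * n * t⁻¹⁻¹) * n⁻¹) * q⁻¹ := by
      have h1 : t⁻¹ * q = q * t⁻¹ := ((htc q hq).inv_right.eq).symm
      rw [hx]
      calc t⁻¹ * (q * n * t * (q * n)⁻¹) = t⁻¹ * q * (n * t * n⁻¹) * q⁻¹ := by group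
        _ = q * t⁻¹ * (n * t * n⁻¹) * q⁻¹ := by rw [h1]
        _ = _ := by group
    rw [e]
    exact Subgroup.Normal.conj_mem inferInstance _
      (mul_mem (Subgroup.Normal.conj_mem inferInstance n hn t⁻¹) (inv_mem hn)) q
  have hxQ : ∀ q ∈ Q, Commute q x := by
    intro q hq
    have h1 := hcent S hQS _ (mul_mem (inv_mem (hQS htmem)) hg) hxN q hq
    have := (htc q hq).mul_right h1
    rwa [mul_inv_cancel_left] at this
  have hSt : (S : Subgroup G) ≤ Subgroup.centralizer ({t} : Set G) := by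
    intro s hs
    obtain ⟨q, hq, n, hnS, hnN, rfl⟩ := hSdec s hs
    exact Subgroup.mem_centralizer_singleton_iff.2 ((htc q hq).mul_left (hcent S hQS n hnS hnN t htmem).symm).eq
  -- conjugate `S` into the centraliser of `x` so that it contains `Q`
  set Cx := Subgroup.centralizer ({x} : Set G) with hCx
  set S' := g • S with hS'
  have hS'x : (S' : Subgroup G) ≤ Cx := by
    intro y hy
    rw [hS', Sylow.coe_subgroup_smul, Subgroup.mem_smul_pointwise_iff_exists] at hy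
    obtain ⟨s, hs, rfl⟩ := hy
    rw [hCx, Subgroup.mem_centralizer_singleton_iff, hx]
    simpa using congrArg (MulAut.conj g) (Subgroup.mem_centralizer_singleton_iff.1 (hSt hs))
  have hQx : Q ≤ Cx := fun q hq => Subgroup.mem_centralizer_singleton_iff.2 (hxQ q hq).eq
  obtain ⟨U, hU⟩ := (hQ.comap_of_injective Cx.subtype Cx.subtype_injective :
    IsPGroup 2 ↥(Q.subgroupOf Cx)).exists_le_sylow
  obtain ⟨h, hh⟩ := MulAction.exists_smul_eq ↥Cx (S'.subtype hS'x) U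
  set m := (h : G) * g with hm
  have hmx : m * t * m⁻¹ = x := by
    have h1 : (h : G) * x = x * h := Subgroup.mem_centralizer_singleton_iff.1 h.2
    calc m * t * m⁻¹ = (h : G) * x * (h : G)⁻¹ := by rw [hm, hx]; group
      _ = x := by rw [h1, mul_inv_cancel_right]
  set T := m • S with hT
  have hQT : Q ≤ (T : Subgroup G) := by
    intro q hq
    have h1 : (⟨q, hQx hq⟩ : ↥Cx) ∈ (U : Subgroup ↥Cx) := hU (Subgroup.mem_subgroupOf.2 hq)
    rw [← hh, Sylow.coe_subgroup_smul, Subgroup.mem_smul_pointwise_iff_exists] at h1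
    obtain ⟨a, ha, hae⟩ := h1
    have ha' : (a : G) ∈ (S' : Subgroup G) := Subgroup.mem_subgroupOf.1 ha
    rw [hS', Sylow.coe_subgroup_smul, Subgroup.mem_smul_pointwise_iff_exists] at ha'
    obtain ⟨s, hs, hsa⟩ := ha'
    rw [hT, Sylow.coe_subgroup_smul, Subgroup.mem_smul_pointwise_iff_exists]
    refine ⟨s, hs, ?_⟩
    have e1 : (h : G) * a * (h : G)⁻¹ = q := congrArg Subtype.val hae
    rw [← e1, ← hsa, hm]
    simp [mul_assoc]
  -- `q = (m q₁ m⁻¹) r` with `r ∈ T ∩ N`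
  have hdec : ∀ q ∈ Q, ∃ q₁ ∈ Q, ∃ r, r ∈ (T : Subgroup G) ∧ r ∈ N ∧ q = m * q₁ * m⁻¹ * r ∧ Commute (m * q₁ * m⁻¹) r := by
    intro q hq
    have h1 := hQT hq
    rw [hT, Sylow.coe_subgroup_smul, Subgroup.mem_smul_pointwise_iff_exists] at h1
    obtain ⟨s, hs, hsq⟩ := h1
    obtain ⟨q₁, hq₁, n, hnS, hnN, rfl⟩ := hSdec s hs
    refine ⟨q₁, hq₁, m * n * m⁻¹, ?_, Subgroup.Normal.conj_mem inferInstance n hnN m, ?_, ?_⟩
    · rw [hT, Sylow.coe_subgroup_smul, Subgroup.mem_smul_pointwise_iff_exists]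
      exact ⟨n, hnS, by simp⟩
    · rw [← hsq]; simp
    · exact (hcent S hQS n hnS hnN q₁ hq₁).map (MulAut.conj m)
  have hcomm : ∀ a ∈ Q, ∀ b ∈ Q, ⁅a, b⁆ ∈ MulAut.conj m • Q := by
    intro a ha b hb
    obtain ⟨a₁, ha₁, r, hrT, hrN, ea, ca⟩ := hdec a ha
    obtain ⟨b₁, hb₁, s, hsT, hsN, eb, cb⟩ := hdec b hb
    have hQR : ∀ q₁ ∈ Q, ∀ w, w ∈ (T : Subgroup G) → w ∈ N → Commute (m * q₁ * m⁻¹) w := by
      intro q₁ hq₁ w hwT hwN
      rw [hT, Sylow.coe_subgroup_smul, Subgroup.mem_smul_pointwise_iff_exists] at hwT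
      obtain ⟨w', hw', rfl⟩ := hwT
      have hw'N : w' ∈ N := by
        have := Subgroup.Normal.conj_mem (inferInstanceAs N.Normal) _ hwN m⁻¹
        simpa [mul_assoc] using this
      simpa using (hcent S hQS w' hw' hw'N q₁ hq₁).map (MulAut.conj m)
    have h1 : Commute r b := (hcent T hQT r hrT hrN b hb).symm
    have h2 : Commute (m * a₁ * m⁻¹) s := hQR a₁ ha₁ s hsT hsN
    rw [Subgroup.mem_smul_pointwise_iff_exists]
    refine ⟨⁅a₁, b₁⁆, mul_mem (mul_mem (mul_mem ha₁ hb₁) (inv_mem ha₁)) (inv_mem hb₁), ?_⟩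
    show (MulAut.conj m) ⁅a₁, b₁⁆ = ⁅a, b⁆
    rw [map_commutatorElement]
    simp only [MulAut.conj_apply]
    have e1 : ⁅a, b⁆ = ⁅m * a₁ * m⁻¹, b⁆ := by
      rw [ea, commutatorElement_def, commutatorElement_def]
      calc m * a₁ * m⁻¹ * r * b * (m * a₁ * m⁻¹ * r)⁻¹ * b⁻¹
          = m * a₁ * m⁻¹ * (r * b) * r⁻¹ * (m * a₁ * m⁻¹)⁻¹ * b⁻¹ := by group
        _ = m * a₁ * m⁻¹ * (b * r) * r⁻¹ * (m * a₁ * m⁻¹)⁻¹ * b⁻¹ := by rw [h1.eq]
        _ = _ := by group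
    have e2 : ⁅m * a₁ * m⁻¹, b⁆ = ⁅m * a₁ * m⁻¹, m * b₁ * m⁻¹⁆ := by
      rw [eb, commutatorElement_def, commutatorElement_def]
      calc m * a₁ * m⁻¹ * (m * b₁ * m⁻¹ * s) * (m * a₁ * m⁻¹)⁻¹ * (m * b₁ * m⁻¹ * s)⁻¹
          = m * a₁ * m⁻¹ * (m * b₁ * m⁻¹) * (s * (m * a₁ * m⁻¹)⁻¹) * s⁻¹ * (m * b₁ * m⁻¹)⁻¹ := by group
        _ = m * a₁ * m⁻¹ * (m * b₁ * m⁻¹) * ((m * a₁ * m⁻¹)⁻¹ * s) * s⁻¹ * (m * b₁ * m⁻¹)⁻¹ := by
              rw [h2.inv_left.eq]
        _ = _ := by group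
    rw [e1, e2]
  have htm : t ∈ MulAut.conj m • Q := (Subgroup.commutator_le.2 hcomm) htQ
  rw [Subgroup.mem_smul_pointwise_iff_exists] at htm
  obtain ⟨t₁, ht₁, htt⟩ := htm
  replace htt : m * t₁ * m⁻¹ = t := by simpa using htt
  have h3 : t₁⁻¹ * t ∈ Q ⊓ N := by
    refine ⟨Q.mul_mem (Q.inv_mem ht₁) htmem, ?_⟩
    have e : t₁⁻¹ * t = m⁻¹ * (t⁻¹ * x) * m⁻¹⁻¹ := by
      rw [← hmx]
      nth_rw 1 [show t₁ = m⁻¹ * t * m by rw [← htt]; group]
      group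
    rw [e]
    exact Subgroup.Normal.conj_mem inferInstance _ hxN m⁻¹
  rw [hdisj, Subgroup.mem_bot, inv_mul_eq_one] at h3
  rw [← hmx, ← h3]
  rw [h3] at htt
  rw [h3]
  exact htt

/-- `[N, Q]` lies in a normal subgroup of odd order. -/
theorem commutator_le (hG : Q ⊔ N = ⊤) (hQ : IsPGroup 2 ↥Q) (hdisj : Q ⊓ N = ⊥) (htQ : t ∈ ⁅Q, Q⁆)
    (htc : ∀ q ∈ Q, Commute q t) (hC : ∀ n ∈ N, Commute t n → ∀ q ∈ Q, Commute q n) :
    ⁅N, Q⁆ ≤ Cfsg.oddCore G ⊓ N := by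
  obtain ⟨S, hQS⟩ := hQ.exists_le_sylow
  have hiso := isolated hG hQ hdisj htQ htc hC S hQS
  set O := Cfsg.oddCore G ⊓ N with hO
  haveI hOn : O.Normal := by
    haveI : (Cfsg.oddCore G).Normal := by unfold Cfsg.oddCore; infer_instance
    rw [hO]; infer_instance
  rw [Subgroup.commutator_le]
  intro n hn q hq
  set y := n * t * n⁻¹ with hy
  set W := Subgroup.zpowers t ⊔ O with hW
  have hwO : y * t⁻¹ ∈ O := by
    refine Subgroup.mem_inf.2 ⟨?_, ?_⟩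
    · have h1 := commutator_mem_oddCore Cfsg.Agent.Lib.ZStar.StronglyClosed.involutionThm _ G S t rfl hiso n
      have := inv_mem h1
      have e : (t * n * t⁻¹ * n⁻¹)⁻¹ = y * t⁻¹ := by rw [hy]; group
      rwa [e] at this
    · rw [hy, mul_assoc n, mul_assoc n]
      exact mul_mem hn (by simpa [mul_assoc] using Subgroup.Normal.conj_mem inferInstance _ (inv_mem hn) t)
  have htW : t ∈ W := Subgroup.mem_sup_left (Subgroup.mem_zpowers t)
  have hyW : y ∈ W := by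
    rw [show y = y * t⁻¹ * t by group]
    exact mul_mem (Subgroup.mem_sup_right hwO) htW
  haveI : Fact (Nat.Prime 2) := ⟨Nat.prime_two⟩
  obtain ⟨k, hk⟩ := IsPGroup.iff_orderOf.1 S.2 ⟨t, hiso.1⟩
  rw [Subgroup.orderOf_mk] at hk
  have hp1 : IsPGroup 2 ↥(Subgroup.zpowers (⟨t, htW⟩ : ↥W)) :=
    IsPGroup.of_card (n := k) (by rw [Nat.card_zpowers, ← Subgroup.orderOf_coe, hk])
  have hp2 : IsPGroup 2 ↥(Subgroup.zpowers (⟨y, hyW⟩ : ↥W)) :=
    IsPGroup.of_card (n := k) (by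
      rw [Nat.card_zpowers, ← Subgroup.orderOf_coe]
      exact (MulEquiv.orderOf_eq (MulAut.conj n) t).trans hk)
  obtain ⟨U, hU⟩ := hp1.exists_le_sylow
  obtain ⟨U', hU'⟩ := hp2.exists_le_sylow
  obtain ⟨w, hw⟩ := MulAction.exists_smul_eq ↥W U' U
  have hwmem : (w : G) * y * (w : G)⁻¹ ∈ (U : Subgroup ↥W).map W.subtype := by
    refine ⟨w * ⟨y, hyW⟩ * w⁻¹, ?_, rfl⟩
    show _ ∈ (U : Subgroup ↥W)
    rw [← hw, Sylow.coe_subgroup_smul]
    simpa using Subgroup.smul_mem_pointwise_smul (a := MulAut.conj w) _ (U' : Subgroup ↥W)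
      (hU' (Subgroup.mem_zpowers _))
  have heq := hiso.eq_of_isPGroup (U.2.map W.subtype) ⟨⟨t, htW⟩, hU (Subgroup.mem_zpowers _), rfl⟩
    (g := (w : G) * n) (by
      rwa [show (w : G) * n * t * ((w : G) * n)⁻¹ = (w : G) * y * (w : G)⁻¹ by rw [hy]; group])
  obtain ⟨a, ha, o, ho, hao⟩ := Subgroup.mem_sup_of_normal_right.1 w.2
  obtain ⟨i, rfl⟩ := Subgroup.mem_zpowers_iff.1 ha
  -- `o * n` centralises `t`
  have hon : Commute t (o * n) := by
    have h1 : Commute ((w : G) * n) t := mul_inv_eq_iff_eq_mul.1 heq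
    have h2 : Commute (t ^ i)⁻¹ t := ((Commute.refl t).zpow_left i).inv_left
    have h3 := h2.mul_left h1
    have e : (t ^ i)⁻¹ * ((w : G) * n) = o * n := by rw [← hao]; group
    rw [e] at h3
    exact h3.symm
  have hc := hC _ (mul_mem ho.2 hn) hon q hq
  have e : ⁅n, q⁆ = o⁻¹ * (q * o * q⁻¹) := by
    have h4 : q * (o * n) = o * n * q := hc.eq
    rw [commutatorElement_def]
    calc n * q * n⁻¹ * q⁻¹ = o⁻¹ * (o * n * q) * n⁻¹ * q⁻¹ := by group
      _ = o⁻¹ * (q * (o * n)) * n⁻¹ * q⁻¹ := by rw [h4]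
      _ = _ := by group
  rw [e]
  exact mul_mem (inv_mem ho) (hOn.conj_mem o ho q)

end Cfsg.Agent.Lib.FTDeps.CentralTwo
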