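import Cfsg.Agent.Lib.FTDeps.Basic
import Cfsg.Agent.Lib.FTDeps.HallSeparable
import Cfsg.Agent.S0071
import Cfsg.Agent.Lib.FusionSystem.Group
import Cfsg.Agent.Lib.TwoGroups.MetacyclicFusion
import Cfsg.Agent.Lib.Homocyclic.BrauerTheorem
import Cfsg.Agent.Lib.Cores.Pi

/-!
# Groups with a metacyclic Sylow 2-subgroup having a large cyclic quotient

With the odd order theorem as hypothesis these groups are solvable.
-/

set_option autoImplicit false
set_option linter.style.haveILetI false

namespace Cfsg.Agent.Lib.FTDeps.MetacyclicSylow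

universe u

variable {G : Type u} [Group G] [Finite G]

/-- Outside four families of metacyclic 2-groups there is a normal 2-complement. -/
theorem hasNormalComplement (S : Sylow 2 G) (hm : Cfsg.IsMetacyclic ↥(S : Subgroup G))
    (hh : ∀ n : ℕ, 0 < n →
      IsEmpty (↥(S : Subgroup G) ≃* Multiplicative (ZMod (2 ^ n)) × Multiplicative (ZMod (2 ^ n))))
    (hd : ¬ ∃ m : ℕ, Nonempty (↥(S : Subgroup G) ≃* DihedralGroup m))
    (hq : ¬ ∃ m : ℕ, Nonempty (↥(S : Subgroup G) ≃* QuaternionGroup m))
    (hsd : ¬ Cfsg.IsQuasiDihedral ↥(S : Subgroup G)) :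
    ∃ N : Subgroup G, N.Normal ∧ N.IsComplement' (S : Subgroup G) := by
  haveI : Fact (Nat.Prime 2) := ⟨Nat.prime_two⟩
  refine (S0071.result S).2 fun Q hQ g hg hgo => ?_
  have hF := TwoGroups.MetacyclicFusion.eq_inner (Ω := G) S.2 (FS.isSaturated_group S) hm hh hd hq hsd
  have hmem : Cfsg.conjHom Q g ∈ (Cfsg.groupFusionSystem (S : Subgroup G)).Hom Q :=
    ⟨hQ, fun x => hQ ((Subgroup.mem_normalizer_iff.1 hg x).1 x.2), g, fun x => rfl⟩
  rw [hF] at hmem
  obtain ⟨-, s, hs, hsx⟩ := hmem
  have hsN : s ∈ Subgroup.normalizer (Q : Set G) := by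
    rw [Subgroup.mem_normalizer_iff]
    have key : ∀ x ∈ Q, s * x * s⁻¹ = g * x * g⁻¹ := fun x hx => (hsx ⟨x, hx⟩).symm
    intro x
    constructor
    · intro hx
      rw [key x hx]
      exact (Subgroup.mem_normalizer_iff.1 hg x).1 hx
    · intro hx
      have h1 : g⁻¹ * (s * x * s⁻¹) * g ∈ Q := by
        have := (Subgroup.mem_normalizer_iff.1 (inv_mem hg) (s * x * s⁻¹)).1 hx
        rwa [inv_inv] at this
      have h2 := key _ h1
      have h3 : g⁻¹ * (s * x * s⁻¹) * g = x := by
        have h4 : s * (g⁻¹ * (s * x * s⁻¹) * g) * s⁻¹ = s * x * s⁻¹ := by rw [h2]; group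
        exact mul_left_cancel (mul_right_cancel h4)
      exact h3 ▸ h1
  have himg : Q.normalizerMonoidHom ⟨g, hg⟩ = Q.normalizerMonoidHom ⟨s, hsN⟩ :=
    MulEquiv.ext fun x => Subtype.ext (hsx x)
  have h1 : orderOf (Q.normalizerMonoidHom ⟨g, hg⟩) ∣ orderOf g := by
    have := orderOf_map_dvd Q.normalizerMonoidHom ⟨g, hg⟩
    rwa [Subgroup.orderOf_mk] at this
  have h2 : ∃ k : ℕ, orderOf (Q.normalizerMonoidHom ⟨s, hsN⟩) ∣ 2 ^ k := by
    obtain ⟨k, hk⟩ := IsPGroup.iff_orderOf.1 S.2 ⟨s, hs⟩
    rw [Subgroup.orderOf_mk] at hk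
    refine ⟨k, ?_⟩
    have := orderOf_map_dvd Q.normalizerMonoidHom ⟨s, hsN⟩
    rwa [Subgroup.orderOf_mk, hk] at this
  obtain ⟨k, hk⟩ := h2
  rw [← himg] at hk
  have hone : Q.normalizerMonoidHom ⟨g, hg⟩ = 1 :=
    orderOf_eq_one_iff.1 (Nat.eq_one_of_dvd_coprimes (hgo.pow_right k) h1 hk)
  have hker : (⟨g, hg⟩ : ↥(Subgroup.normalizer (Q : Set G))) ∈ Q.normalizerMonoidHom.ker := hone
  rw [Subgroup.normalizerMonoidHom_ker] at hker
  exact Subgroup.mem_subgroupOf.1 hker

/-- A cyclic quotient of order above 2 is impossible if the abelianisation has exponent 2. -/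
theorem card_le_two {T C : Type*} [Group T] [Group C] [Finite C] [IsCyclic C] (f : T →* C)
    (hf : Function.Surjective f) (h : ∀ t : T, f t ^ 2 = 1) : Nat.card C ≤ 2 := by
  obtain ⟨c, hc⟩ := IsCyclic.exists_generator (α := C)
  obtain ⟨t, rfl⟩ := hf c
  rw [← orderOf_eq_card_of_forall_mem_zpowers hc]
  exact Nat.le_of_dvd two_pos (orderOf_dvd_of_pow_eq_one (h t))

theorem dihedral_sq {C : Type*} [CommGroup C] {m : ℕ} (f : DihedralGroup m →* C) (t : DihedralGroup m) :
    f t ^ 2 = 1 := by
  have hsr : ∀ i : ZMod m, f (DihedralGroup.sr i) ^ 2 = 1 := fun i => by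
    rw [sq, ← map_mul, DihedralGroup.sr_mul_self, map_one]
  rcases t with i | i
  · have : (DihedralGroup.r i : DihedralGroup m) = DihedralGroup.sr 0 * DihedralGroup.sr i := by simp
    rw [this, map_mul, mul_pow, hsr, hsr, one_mul]
  · exact hsr i

theorem quaternion_sq {C : Type*} [CommGroup C] {m : ℕ} (hm : 2 ∣ m) (f : QuaternionGroup m →* C)
    (t : QuaternionGroup m) : f t ^ 2 = 1 := by
  obtain ⟨m, rfl⟩ := hm
  have ha : ∀ i, f (QuaternionGroup.a i : QuaternionGroup (2 * m)) ^ 2 = 1 := by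
    intro i
    have e : (QuaternionGroup.xa 0 : QuaternionGroup (2 * m)) * QuaternionGroup.a i =
        QuaternionGroup.a (-i) * QuaternionGroup.xa 0 := by simp
    have h1 := congrArg f e
    rw [map_mul, map_mul, mul_comm (f (QuaternionGroup.a (-i)))] at h1
    have h2 := mul_left_cancel h1
    rw [sq]
    conv_lhs => arg 2; rw [h2]
    rw [← map_mul, QuaternionGroup.a_mul_a, add_neg_cancel, QuaternionGroup.a_zero, map_one]
  have haa : ∀ j : ℕ, f (QuaternionGroup.a ((2 * j : ℕ) : ZMod (2 * (2 * m)))) = 1 := fun j => by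
    have h := ha ((j : ℕ) : ZMod (2 * (2 * m)))
    rw [sq, ← map_mul, QuaternionGroup.a_mul_a] at h
    rwa [show ((2 * j : ℕ) : ZMod (2 * (2 * m))) = (j : ZMod (2 * (2 * m))) + j by push_cast; ring]
  rcases t with i | i
  · exact ha i
  · rw [sq, ← map_mul, QuaternionGroup.xa_mul_xa]
    have := haa m
    simpa using this

theorem two_pow_one_sq : ∀ a : Multiplicative (ZMod (2 ^ 1)), a ^ 2 = 1 := by decide

/-- Solvability under the odd order theorem. -/
theorem isSolvable (hFT : Basic.OddOrderSolvable.{u}) (S : Sylow 2 G) (N : Subgroup ↥(S : Subgroup G))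
    [N.Normal] (hNc : IsCyclic N) (hQc : IsCyclic (↥(S : Subgroup G) ⧸ N))
    (hQ : 2 < Nat.card (↥(S : Subgroup G) ⧸ N)) : Group.IsSolvable G := by
  haveI : Fact (Nat.Prime 2) := ⟨Nat.prime_two⟩
  letI : CommGroup (↥(S : Subgroup G) ⧸ N) := IsCyclic.commGroup
  set q := QuotientGroup.mk' N with hq
  have hqs : Function.Surjective q := QuotientGroup.mk'_surjective N
  have hcomp : (∃ M : Subgroup G, M.Normal ∧ M.IsComplement' (S : Subgroup G)) → Group.IsSolvable G := by
    rintro ⟨M, hM, hc⟩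
    haveI : Group.IsSolvable ↥M := by
      refine hFT ↥M (Nat.not_even_iff_odd.1 fun he => S.not_dvd_index ?_)
      rw [hc.index_eq_card]
      exact he.two_dvd
    haveI : Group.IsSolvable (G ⧸ M) := by
      haveI : Group.IsNilpotent (G ⧸ M) := IsPGroup.isNilpotent (p := 2) (by
        obtain ⟨k, hk⟩ := IsPGroup.iff_card.1 S.2
        exact IsPGroup.of_card (n := k) (by rw [← Subgroup.index, hc.symm.index_eq_card, hk]))
      infer_instance
    exact (Group.isSolvable_iff_subgroup_quotient M).2 ⟨inferInstance, inferInstance⟩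
  by_cases hcyc : IsCyclic ↥(S : Subgroup G)
  · have hmin : (Nat.card G).minFac = 2 ∨ ¬ 2 ∣ Nat.card G := by
      by_cases h : 2 ∣ Nat.card G
      · exact Or.inl ((Nat.minFac_eq_two_iff _).2 h)
      · exact Or.inr h
    rcases hmin with hmin | hodd
    · exact hcomp ⟨_, inferInstance, IsCyclic.isComplement' (P := S) hmin hcyc⟩
    · exact hFT G (Nat.not_even_iff_odd.1 fun he => hodd he.two_dvd)
  have hm : Cfsg.IsMetacyclic ↥(S : Subgroup G) := ⟨N, inferInstance, hNc, hQc⟩
  by_cases hd : ∃ m : ℕ, Nonempty (↥(S : Subgroup G) ≃* DihedralGroup m)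
  · obtain ⟨m, ⟨e⟩⟩ := hd
    have := card_le_two q hqs fun t => by
      simpa using dihedral_sq (q.comp e.symm.toMonoidHom) (e t)
    omega
  by_cases hqu : ∃ m : ℕ, Nonempty (↥(S : Subgroup G) ≃* QuaternionGroup m)
  · obtain ⟨m, ⟨e⟩⟩ := hqu
    exfalso
    have hm2 : 2 ∣ m := by
      haveI : NeZero m := ⟨fun h0 => by
        subst h0
        haveI : Finite (QuaternionGroup 0) := Finite.of_equiv _ e.toEquiv
        haveI : Finite ℤ := Finite.of_injective (fun i : ℤ => (QuaternionGroup.a i : QuaternionGroup 0))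
          fun a b h => by injection h
        exact not_finite ℤ⟩
      obtain ⟨k, hk⟩ := IsPGroup.iff_card.1 S.2
      rw [Nat.card_congr e.toEquiv, Nat.card_eq_fintype_card, QuaternionGroup.card] at hk
      have hd : m ∣ 2 ^ k := Dvd.intro_left 4 hk
      obtain ⟨j, -, rfl⟩ := (Nat.dvd_prime_pow Nat.prime_two).1 hd
      rcases Nat.eq_zero_or_pos j with rfl | hj
      · exact absurd ((MulEquiv.isCyclic e).2 (isCyclic_of_orderOf_eq_card (QuaternionGroup.xa (n := 2 ^ 0) 0) (by rw [QuaternionGroup.orderOf_xa, Nat.card_eq_fintype_card, QuaternionGroup.card, pow_zero, mul_one])) ) hcyc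
      · exact dvd_pow_self 2 hj.ne'
    have := card_le_two q hqs fun t => by
      simpa using quaternion_sq hm2 (q.comp e.symm.toMonoidHom) (e t)
    omega
  by_cases hsd : Cfsg.IsQuasiDihedral ↥(S : Subgroup G)
  · obtain ⟨n, hn, hcard, x, y, hx, hy, hrel⟩ := hsd
    exfalso
    have hrel' := congrArg q hrel
    rw [map_mul, map_mul, map_inv, mul_inv_cancel_comm, map_pow] at hrel'
    have hx2 : q x ^ 2 = 1 := by
      set M := 2 ^ (n - 1) with hM
      have hM4 : 4 ≤ M := by
        calc 4 = 2 ^ 2 := rfl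
          _ ≤ _ := Nat.pow_le_pow_right two_pos (by omega)
      have h1 : q x ^ (M - 2) = 1 := by
        have e : q x ^ (M - 2) * q x = 1 * q x := by
          rw [← pow_succ, show M - 2 + 1 = M - 1 by omega, ← hrel', one_mul]
        exact mul_right_cancel e
      have h2 : q x ^ (2 ^ n) = 1 := by rw [← map_pow, ← hx, pow_orderOf_eq_one, map_one]
      have h3 : q x ^ (2 * M) = 1 := by
        rwa [hM, ← pow_succ', show n - 1 + 1 = n by omega]
      have h4 : q x ^ 4 = 1 := by
        have : q x ^ (2 * M) = q x ^ (M - 2) * q x ^ (M - 2) * q x ^ 4 := by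
          rw [← pow_add, ← pow_add]; congr 1; omega
        rw [h3, h1, one_mul, one_mul] at this
        exact this.symm
      obtain ⟨c, hc⟩ : 4 ∣ M := by
        rw [hM]; exact (pow_dvd_pow 2 (show 2 ≤ n - 1 by omega))
      have h5 : q x ^ M = 1 := by rw [hc, pow_mul, h4, one_pow]
      have : q x ^ M = q x ^ (M - 2) * q x ^ 2 := by rw [← pow_add]; congr 1; omega
      rw [h5, h1, one_mul] at this
      exact this.symm
    have hy2 : q y ^ 2 = 1 := by rw [← map_pow, show y ^ 2 = 1 from orderOf_dvd_iff_pow_eq_one.1 (dvd_of_eq hy), map_one]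
    have hgen : Subgroup.zpowers x ⊔ Subgroup.zpowers y = ⊤ := by
      have hidx : (Subgroup.zpowers x).index = 2 := by
        have h := (Subgroup.zpowers x).card_mul_index
        rw [Nat.card_zpowers, hx, hcard, pow_succ] at h
        exact Nat.eq_of_mul_eq_mul_left (pow_pos two_pos n) h
      have hyx : y ∉ Subgroup.zpowers x := by
        intro hyx
        obtain ⟨i, rfl⟩ := Subgroup.mem_zpowers_iff.1 hyx
        rw [((Commute.refl x).zpow_left i).eq, mul_inv_cancel_right] at hrel
        have h0 : x ^ (2 ^ (n - 1) - 2) = 1 := by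
          have e : x ^ (2 ^ (n - 1) - 2) * x = 1 * x := by
            have : 2 ≤ 2 ^ (n - 1) := Nat.le_self_pow (by omega) 2
            rw [← pow_succ, show 2 ^ (n - 1) - 2 + 1 = 2 ^ (n - 1) - 1 by omega, ← hrel, one_mul]
          exact mul_right_cancel e
        have h4 : 4 ≤ 2 ^ (n - 1) := by
          calc 4 = 2 ^ 2 := rfl
            _ ≤ _ := Nat.pow_le_pow_right two_pos (by omega)
        have hdvd := orderOf_dvd_of_pow_eq_one h0
        rw [hx] at hdvd
        have := Nat.le_of_dvd (by omega) hdvd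
        have h2 : 2 ^ (n - 1) < 2 ^ n := Nat.pow_lt_pow_right (by norm_num) (by omega)
        omega
      have hidx' : (Subgroup.zpowers x ⊔ Subgroup.zpowers y).index ∣ 2 :=
        (Subgroup.index_dvd_of_le le_sup_left).trans (dvd_of_eq hidx)
      rcases (Nat.dvd_prime Nat.prime_two).1 hidx' with h | h
      · exact Subgroup.index_eq_one.1 h
      · exfalso
        refine hyx ?_
        have heq : Subgroup.zpowers x = Subgroup.zpowers x ⊔ Subgroup.zpowers y := by
          refine Subgroup.eq_of_le_of_card_ge le_sup_left ?_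
          have h1 := (Subgroup.zpowers x).card_mul_index
          have h2 := (Subgroup.zpowers x ⊔ Subgroup.zpowers y).card_mul_index
          rw [h, ← h1, hidx] at h2
          exact le_of_eq (Nat.eq_of_mul_eq_mul_right two_pos h2)
        rw [heq]
        exact Subgroup.mem_sup_right (Subgroup.mem_zpowers y)
    have := card_le_two q hqs fun t => by
      have ht : t ∈ Subgroup.zpowers x ⊔ Subgroup.zpowers y := hgen ▸ trivial
      have hle : Subgroup.zpowers x ⊔ Subgroup.zpowers y ≤ ((powMonoidHom 2).comp q).ker :=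
        sup_le (Subgroup.zpowers_le.2 hx2) (Subgroup.zpowers_le.2 hy2)
      exact hle ht
    omega
  by_cases hh : ∀ n : ℕ, 0 < n →
      IsEmpty (↥(S : Subgroup G) ≃* Multiplicative (ZMod (2 ^ n)) × Multiplicative (ZMod (2 ^ n)))
  · exact hcomp (hasNormalComplement S hm hh hd hqu hsd)
  push Not at hh
  obtain ⟨n, hn, ⟨e⟩⟩ := hh
  rcases (show n = 1 ∨ 2 ≤ n by omega) with rfl | hn2
  · exfalso
    have := card_le_two q hqs fun t => by
      have h : e t ^ 2 = 1 := by
        have := two_pow_one_sq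
        exact Prod.ext (this _) (this _)
      rw [← map_pow, show t ^ 2 = 1 from e.injective (by rw [map_pow, h, map_one]), map_one]
    omega
  set O := Cfsg.oddCore G with hO
  haveI : O.Normal := by rw [hO]; unfold Cfsg.oddCore; infer_instance
  haveI : Group.IsSolvable ↥O := hFT ↥O Cores.oddCore_odd
  set p := QuotientGroup.mk' O with hp
  have hps : Function.Surjective p := QuotientGroup.mk'_surjective O
  let P : Sylow 2 (G ⧸ O) := S.mapSurjective hps
  have hinj : Function.Injective (p.comp (S : Subgroup G).subtype) := by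
    refine (injective_iff_map_eq_one _).2 fun a ha => ?_
    have haO : (a : G) ∈ O := (QuotientGroup.eq_one_iff _).1 ha
    obtain ⟨k, hk⟩ := IsPGroup.iff_orderOf.1 S.2 a
    rw [← orderOf_eq_one_iff]
    refine Nat.eq_one_of_dvd_coprimes (Nat.Coprime.pow_left k (Nat.coprime_two_left.2 (Cores.oddCore_odd (G := G))))
      (dvd_of_eq hk) ?_
    rw [← Subgroup.orderOf_coe]
    exact Subgroup.orderOf_dvd_natCard O haO
  let e' : ↥(P : Subgroup (G ⧸ O)) ≃* Multiplicative (ZMod (2 ^ n) × ZMod (2 ^ n)) :=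
    ((MulEquiv.subgroupCongr (by
      show (S : Subgroup G).map p = _
      rw [MonoidHom.range_comp, Subgroup.range_subtype])).trans
      (MonoidHom.ofInjective hinj).symm).trans (e.trans (MulEquiv.prodMultiplicative _ _).symm)
  have hO' : ∀ M : Subgroup (G ⧸ O), M.Normal → Odd (Nat.card M) → M = ⊥ := by
    intro M hM hodd
    haveI : (M.comap p).Normal := hM.comap p
    have hle : O ≤ M.comap p := (QuotientGroup.ker_mk' O).symm.le.trans (Subgroup.ker_le_comap _ M)
    have hcard : Nat.card (M.comap p) = Nat.card O * Nat.card M := HallSeparable.card_comap_mk O M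
    have hle' : M.comap p ≤ O := Cores.le_oddCore (hcard ▸ Cores.oddCore_odd.mul hodd)
    rw [eq_bot_iff]
    intro z hz
    obtain ⟨g, rfl⟩ := hps z
    exact (QuotientGroup.eq_one_iff g).2 (hle' hz)
  have hPn : (P : Subgroup (G ⧸ O)).Normal :=
    Homocyclic.BrauerTheorem.sylow_normal_aux _ (G ⧸ O) rfl P n hn2 e' hO'
  haveI := hPn
  haveI : Group.IsSolvable ↥(P : Subgroup (G ⧸ O)) := by
    haveI : Group.IsNilpotent ↥(P : Subgroup (G ⧸ O)) := P.2.isNilpotent
    infer_instance
  haveI : Group.IsSolvable ((G ⧸ O) ⧸ (P : Subgroup (G ⧸ O))) := by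
    refine hFT _ ?_
    rw [← Subgroup.index]
    exact Nat.not_even_iff_odd.1 fun he => P.not_dvd_index he.two_dvd
  haveI : Group.IsSolvable (G ⧸ O) :=
    (Group.isSolvable_iff_subgroup_quotient (P : Subgroup (G ⧸ O))).2 ⟨inferInstance, inferInstance⟩
  exact (Group.isSolvable_iff_subgroup_quotient O).2 ⟨inferInstance, inferInstance⟩

end Cfsg.Agent.Lib.FTDeps.MetacyclicSylow
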