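import Mathlib
import Cfsg.Agent.Lib.FTDeps.Basic

/-!
# S0204 modulo the odd order theorem

A finite simple group that is not cyclic contains a Klein four-subgroup.
-/

set_option autoImplicit false

namespace Cfsg.Agent.Lib.FTDeps.Row0204

universe u

theorem isCyclic_of_isSimpleGroup_of_isSolvable {G : Type u} [Group G] [Finite G] [IsSimpleGroup G]
    (hs : Group.IsSolvable G) : IsCyclic G := by
  have hc : ∀ a b : G, a * b = b * a := IsSimpleGroup.comm_iff_isSolvable.mpr hs
  letI : CommGroup G := { ‹Group G› with mul_comm := hc }
  exact IsSimpleGroup.isCyclic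

/-- The target, given the odd order theorem and a Glauberman-type central involution modulo core. -/
theorem main (hFT : Basic.OddOrderSolvable.{u})
    (hZ : ∀ {H : Type u} [Group H] [Finite H], Even (Nat.card H) →
      (∀ E : Subgroup H, ¬ IsKleinFour E) →
      ∃ z : H, orderOf z = 2 ∧ ∃ N : Subgroup H, N.Normal ∧ Odd (Nat.card N) ∧
        ∀ g : H, z * g * z⁻¹ * g⁻¹ ∈ N)
    {G : Type u} [Group G] [Finite G] [IsSimpleGroup G] (hG : ¬ IsCyclic G) :
    ∃ E : Subgroup G, IsKleinFour E := by
  by_contra hne
  push_neg at hne
  rcases Nat.even_or_odd (Nat.card G) with heven | hodd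
  · obtain ⟨z, hz, N, hN, hNodd, hcomm⟩ := hZ heven hne
    rcases hN.eq_bot_or_eq_top with h | h
    · subst h
      have hzc : z ∈ Subgroup.center G := by
        rw [Subgroup.mem_center_iff]
        intro g
        have h1 := Subgroup.mem_bot.1 (hcomm g)
        have h2 : z * g = g * z := by
          have : z * g * z⁻¹ = g := by
            calc z * g * z⁻¹ = (z * g * z⁻¹ * g⁻¹) * g := by group
              _ = g := by rw [h1, one_mul]
          calc z * g = (z * g * z⁻¹) * z := by group
            _ = g * z := by rw [this]
        exact h2.symm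
      have hz1 : z ≠ 1 := by
        intro h; rw [h, orderOf_one] at hz; norm_num at hz
      rcases (inferInstance : (Subgroup.center G).Normal).eq_bot_or_eq_top with hc | hc
      · rw [hc, Subgroup.mem_bot] at hzc; exact hz1 hzc
      · apply hG
        letI : CommGroup G := Group.commGroupOfCenterEqTop hc
        exact IsSimpleGroup.isCyclic
    · subst h
      rw [Subgroup.card_top] at hNodd
      exact (Nat.not_even_iff_odd.mpr hNodd) heven
  · exact hG (isCyclic_of_isSimpleGroup_of_isSolvable (hFT G hodd))

end Cfsg.Agent.Lib.FTDeps.Row0204
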