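import Mathlib
import Cfsg.Agent.Lib.FTDeps.Basic
import Cfsg.Agent.Lib.ComponentPairs.Basic
import Cfsg.Agent.S1301

/-!
# S1322 modulo the odd order theorem
-/

set_option autoImplicit false

open Cfsg Subgroup
open Cfsg.Agent.Lib Cfsg.Agent.Lib.Components
open scoped commutatorElement

namespace Cfsg.Agent.Lib.FTDeps.Row1322

universe u

variable {G : Type u} [Group G] [Finite G]

/-- A quasisimple group has even order. -/
theorem even_card (hFT : Basic.OddOrderSolvable.{u}) {H : Type u} [Group H] [Finite H]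
    (h : IsQuasisimple H) : Even (Nat.card H) := by
  rw [← Nat.not_odd_iff_even]
  exact fun hodd => Quasisimple.not_isSolvable h (hFT H hodd)

/-- A component of `C(t)` lies in the 2-layer of `G`. -/
theorem le_pLayer (hFT : Basic.OddOrderSolvable.{u}) {t : G} (ht : orderOf t = 2) {L : Subgroup G}
    (hLt : L ≤ Subgroup.centralizer ({t} : Set G))
    (hL : IsComponent (L.subgroupOf (Subgroup.centralizer ({t} : Set G)))) :
    L ≤ pLayer 2 G := by
  have hc : Subgroup.centralizer ((Subgroup.zpowers t : Subgroup G) : Set G) =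
      Subgroup.centralizer ({t} : Set G) := by
    rw [Subgroup.zpowers_eq_closure, Subgroup.centralizer_closure]
  have hP : IsPGroup 2 (Subgroup.zpowers t) :=
    IsPGroup.of_card (n := 1) (by rw [Nat.card_zpowers, ht, pow_one])
  have hbal := S1301.result (Subgroup.zpowers t) hP
  rw [hc] at hbal
  have hcomp := ComponentPairs.isPComponent_two hL (even_card hFT hL.2)
  intro x hx
  exact hbal ⟨⟨x, hLt hx⟩, le_sSup (show _ ∈ {K | IsPComponent 2 K} from hcomp) hx, rfl⟩

/-- S1322 given the odd order theorem. -/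
theorem main (hFT : Basic.OddOrderSolvable.{u}) (hL2 : Cfsg.pLayer 2 G = Cfsg.layer G) (t : G)
    (ht : orderOf t = 2) (L : Subgroup G) (hLt : L ≤ Subgroup.centralizer ({t} : Set G))
    (hL : Cfsg.IsComponent (L.subgroupOf (Subgroup.centralizer ({t} : Set G)))) :
    ∃ D : Subgroup G, Cfsg.IsComponent D ∧ (L = D ∨ (L < D ∧ D = ⁅D, Subgroup.zpowers t⁆) ∨
      (D.map (MulAut.conj t).toMonoidHom ≠ D ∧
        L = (Cfsg.layer ↥((D ⊔ D.map (MulAut.conj t).toMonoidHom) ⊓
          Subgroup.centralizer ({t} : Set G))).map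
          ((D ⊔ D.map (MulAut.conj t).toMonoidHom) ⊓
            Subgroup.centralizer ({t} : Set G)).subtype)) := by
  have htt : t * t = 1 := by rw [← pow_two, ← ht, pow_orderOf_eq_one]
  have hLE : L ≤ layer G := hL2 ▸ le_pLayer hFT ht hLt hL
  obtain ⟨D, hD, h⟩ := ComponentPairs.trichotomy htt hLt hL hLE
  refine ⟨D, hD, ?_⟩
  rcases h with h | h | ⟨hD', hne, hLrange, huniq⟩
  · exact Or.inl h
  · exact Or.inr (Or.inl h)
  refine Or.inr (Or.inr ⟨hne, ?_⟩)
  set Ct := Subgroup.centralizer ({t} : Set G) with hCt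
  set W := D ⊔ D.map (MulAut.conj t).toMonoidHom with hW
  have hWn : layer G ≤ Subgroup.normalizer (W : Set G) := by
    refine fun g hg => Balance.mem_normalizer_iff_cj.2 ?_
    show W.map (MulAut.conj g).toMonoidHom = W
    rw [hW, Subgroup.map_sup]
    congr 1
    · exact Balance.mem_normalizer_iff_cj.1 (Layer.layer_le_normalizer hD hg)
    · exact Balance.mem_normalizer_iff_cj.1 (Layer.layer_le_normalizer (Component.conj hD t) hg)
  have hWE : W ≤ layer G :=
    sup_le (Layer.component_le_layer hD) (Layer.component_le_layer (Component.conj hD t))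
  have hsn : ((W ⊓ Ct).subgroupOf Ct).IsSubnormal := by
    rw [Subgroup.inf_subgroupOf_right]
    refine Subgroup.IsSubnormal.step _ ((layer G).subgroupOf Ct) (fun x hx => hWE hx)
      (Subgroup.Normal.isSubnormal (Subgroup.Normal.subgroupOf inferInstance Ct)) ?_
    rw [Subgroup.normal_subgroupOf_iff_le_normalizer
      ((fun x hx => hWE hx) : W.subgroupOf Ct ≤ (layer G).subgroupOf Ct)]
    intro x hx
    have h := hWn (show (x : G) ∈ layer G from hx)
    refine Subgroup.mem_normalizer_iff.2 fun y => ?_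
    show (y : G) ∈ W ↔ ((x * y * x⁻¹ : ↥Ct) : G) ∈ W
    exact Subgroup.mem_normalizer_iff.1 h y
  have hLW : L ≤ W := by
    rw [hLrange]
    rintro _ ⟨e, rfl⟩
    exact Subgroup.mul_mem_sup e.2 ⟨e, e.2, rfl⟩
  refine le_antisymm (fun x hx => ?_) ?_
  · exact ⟨⟨x, hLW hx, hLt hx⟩, Layer.component_le_layer
      (MaxPairs.isComponent_subgroupOf hL (le_inf hLW hLt) (inf_le_right : W ⊓ Ct ≤ Ct)) hx, rfl⟩
  · rw [Subgroup.map_le_iff_le_comap]
    refine sSup_le fun K' hK' => ?_
    set K := K'.map (W ⊓ Ct).subtype with hK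
    have hKW : K ≤ W ⊓ Ct := Subgroup.map_subtype_le K'
    have hKc : IsComponent (K.subgroupOf Ct) := by
      refine (Component.subgroupOf_iff hsn (fun x hx => hKW hx)).1 ?_
      have h := Component.map_equiv
        (Subgroup.subgroupOfEquivOfLe (inf_le_right : W ⊓ Ct ≤ Ct)).symm hK'
      convert h using 1
      ext x
      constructor
      · rintro ⟨y, hy, hyx⟩
        refine ⟨y, hy, ?_⟩
        exact Subtype.ext (Subtype.ext hyx)
      · rintro ⟨y, hy, rfl⟩
        exact ⟨y, hy, rfl⟩
    rw [← Subgroup.map_le_iff_le_comap]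
    exact (huniq K (hKW.trans inf_le_right) (hKW.trans inf_le_left) hKc).le

end Cfsg.Agent.Lib.FTDeps.Row1322
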