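import Mathlib
import Cfsg.Agent.Lib.FTDeps.Row1322
import Cfsg.Agent.Lib.Balance.Permute

/-!
# S1347 modulo the odd order theorem
-/

set_option autoImplicit false
set_option linter.style.haveILetI false
set_option linter.unusedSectionVars false

open Cfsg Subgroup
open Cfsg.Agent.Lib Cfsg.Agent.Lib.Components
open scoped commutatorElement

namespace Cfsg.Agent.Lib.FTDeps.Row1347

universe u

variable {G : Type u} [Group G] [Finite G]

/-- With trivial odd core the 2-layer is the layer. -/
theorem pLayer_eq_layer (hO : pPrimeCore 2 G = ⊥) : pLayer 2 G = layer G := by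
  set q := QuotientGroup.mk' (pPrimeCore 2 G) with hq
  have hinj : Function.Injective q := by
    rw [← MonoidHom.ker_eq_bot_iff, hq, QuotientGroup.ker_mk', hO]
  let e : G ≃* G ⧸ pPrimeCore 2 G :=
    MulEquiv.ofBijective q ⟨hinj, QuotientGroup.mk'_surjective _⟩
  refine Subgroup.map_injective hinj ?_
  rw [hq, PComponent.map_pLayer]
  exact (Layer.map_layer e).symm

/-- A subgroup of `C(A)` normalized by `g` and of even order forces `g` to normalize `A`. -/
theorem mem_normalizer_of_even {A Q : Subgroup G} (hA : IsStandardSubgroup A)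
    (hQ : Q ≤ centralizer (A : Set G)) (heven : Even (Nat.card Q)) {g : G}
    (hg : g ∈ normalizer (Q : Set G)) : g ∈ normalizer (A : Set G) := by
  rw [hA.2.2.2]
  by_contra h
  have hodd := hA.2.1.2 g h
  have hle : Q ≤ centralizer (A : Set G) ⊓
      (centralizer (A : Set G)).map (MulAut.conj g).toMonoidHom := by
    refine le_inf hQ ?_
    have := Subgroup.map_mono (f := (MulAut.conj g).toMonoidHom) hQ
    have hQg : Q.map (MulAut.conj g).toMonoidHom = Q :=
      Subgroup.mem_normalizer_iff_map_conj_eq.1 hg
    rwa [hQg] at this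
  exact (Nat.not_even_iff_odd.2 (hodd.of_dvd_nat (card_dvd_of_le hle))) heven

/-- The centralizer of a subgroup is normalized by its normalizer. -/
theorem normalizer_le_normalizer_centralizer (W : Subgroup G) :
    normalizer (W : Set G) ≤ normalizer (centralizer (W : Set G) : Set G) := by
  refine Subgroup.le_normalizer_iff.2 fun g hg c hc => mem_centralizer_iff.2 fun w hw => ?_
  have h' : g⁻¹ * w * g ∈ W := by
    simpa using (mem_normalizer_iff.1 (inv_mem hg) w).1 hw
  have := mem_centralizer_iff.1 hc _ h'
  calc w * (g * c * g⁻¹) = g * ((g⁻¹ * w * g) * c) * g⁻¹ := by group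
    _ = g * (c * (g⁻¹ * w * g)) * g⁻¹ := by rw [this]
    _ = _ := by group

/-- A quasisimple group with trivial centre is simple. -/
theorem isSimple_of_center {H : Type u} [Group H] (h : IsQuasisimple H) (hZ : center H = ⊥) :
    IsSimpleGroup H := by
  haveI := Quasisimple.nontrivial h
  refine ⟨fun N hN => ?_⟩
  rcases Quasisimple.normal_le_center_or_eq_top h hN with h' | h'
  · exact Or.inl (le_bot_iff.1 (hZ ▸ h'))
  · exact Or.inr h'

/-- An element of odd-order normal subgroups dies when `O(G) = 1`. -/
theorem eq_bot_of_odd (hO : pPrimeCore 2 G = ⊥) {Q : Subgroup G} [Q.Normal]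
    (hodd : Odd (Nat.card Q)) : Q = ⊥ :=
  le_bot_iff.1 (hO ▸ Cores.le_pPrimeCore (Nat.coprime_two_right.2 hodd))

theorem center_eq_bot_of_centralizer {D : Subgroup G} (h : centralizer (D : Set G) = ⊥) :
    center D = ⊥ := by
  rw [eq_bot_iff]
  intro z hz
  have : (z : G) ∈ centralizer (D : Set G) := mem_centralizer_iff.2 fun d hd =>
    congrArg Subtype.val (mem_center_iff.1 hz ⟨d, hd⟩)
  rw [h, Subgroup.mem_bot] at this
  exact Subgroup.mem_bot.2 (Subtype.ext this)

/-- A component centralized by everything in a trivial centralizer cannot exist. -/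
theorem layer_le_of_centralizer {D : Subgroup G} (S : Set (Subgroup G))
    (hS : ∀ K : Subgroup G, IsComponent K → K ∉ S → K ≤ centralizer (D : Set G))
    (hD : ∀ K ∈ S, K ≤ D) (h : centralizer (D : Set G) = ⊥) : layer G ≤ D := by
  refine sSup_le fun K hK => ?_
  by_cases hKS : K ∈ S
  · exact hD K hKS
  · exact absurd (le_bot_iff.1 (h ▸ hS K hK hKS)) (Component.ne_bot hK)

/-- S1347 given the odd order theorem. -/
theorem main (hFT : Basic.OddOrderSolvable.{u}) (A : Subgroup G) (hA : Cfsg.IsStandardSubgroup A)
    (hO : Cfsg.oddCore G = ⊥) (t : G) (ht : orderOf t = 2)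
    (htA : t ∈ Subgroup.centralizer (A : Set G)) :
    A.Normal ∨ (∃ X : Subgroup G, IsSimpleGroup ↥X ∧ ¬ IsMulCommutative ↥X ∧
      Nonempty (↥X ≃* ↥A) ∧
      (∀ a ∈ X, ∀ b ∈ X.map (MulAut.conj t).toMonoidHom, a * b = b * a) ∧
      X ⊓ X.map (MulAut.conj t).toMonoidHom = ⊥ ∧
      X ⊔ X.map (MulAut.conj t).toMonoidHom = Cfsg.layer G ∧
      Subgroup.centralizer (A : Set G) = Subgroup.zpowers t) ∨
    (A ≤ Cfsg.layer G ∧ IsSimpleGroup ↥(Cfsg.layer G) ∧ ¬ IsMulCommutative ↥(Cfsg.layer G)) := by
  classical
  have htt : t * t = 1 := by rw [← pow_two, ← ht, pow_orderOf_eq_one]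
  set C := centralizer (A : Set G) with hC
  set Ct := centralizer ({t} : Set G) with hCt
  by_cases hAn : A.Normal
  · exact Or.inl hAn
  right
  have hmov : ∃ g : G, g ∉ normalizer (A : Set G) := by
    by_contra h
    push Not at h
    exact hAn (Subgroup.normalizer_eq_top_iff.1 (eq_top_iff.2 fun g _ => h g))
  have hQnormal : ∀ Q : Subgroup G, Q.Normal → Q ≤ C → Q = ⊥ := by
    intro Q hQn hQC
    haveI := hQn
    refine eq_bot_of_odd hO ?_
    rw [← Nat.not_even_iff_odd]
    intro heven
    obtain ⟨g, hg⟩ := hmov
    exact hg (mem_normalizer_of_even hA hQC heven (Subgroup.normalizer_eq_top (H := Q) ▸ mem_top g))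
  -- `A` is a component of `C(t)`
  have hAt : A ≤ Ct := fun a ha => mem_centralizer_singleton_iff.2
    (mem_centralizer_iff.1 htA a ha)
  have htt' : Even (Nat.card (zpowers t)) := by
    rw [Nat.card_zpowers, ht]; exact even_two
  have hCtA : Ct ≤ normalizer (A : Set G) := fun g hg =>
    mem_normalizer_of_even hA (zpowers_le.2 htA) htt' (centralizer_le_normalizer _ (by
      rw [zpowers_eq_closure, centralizer_closure]; exact hg))
  have hAcomp : IsComponent (A.subgroupOf Ct) := by
    haveI : (A.subgroupOf Ct).Normal := (normal_subgroupOf_iff_le_normalizer hAt).2 hCtA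
    exact ⟨Subgroup.Normal.isSubnormal inferInstance,
      Quasisimple.of_mulEquiv hA.1 (subgroupOfEquivOfLe hAt).symm⟩
  have hAE : A ≤ layer G := pLayer_eq_layer hO ▸ Row1322.le_pLayer hFT ht hAt hAcomp
  have hperfA : ⁅A, A⁆ = A := Subgroup.isPerfect_iff.1 hA.1.1
  have hAnc : ¬ A ≤ C := fun h => Quasisimple.not_isMulCommutative hA.1
    (Subgroup.le_centralizer_iff_isMulCommutative.1 h)
  obtain ⟨D, hD, h⟩ := ComponentPairs.trichotomy htt hAt hAcomp hAE
  -- conjugates of `A` inside a component are equal to `A` or do not commute with it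
  have hno : ∀ g : G, A.map (MulAut.conj g).toMonoidHom ≠ A →
      ¬ (A ≤ centralizer ((A.map (MulAut.conj g).toMonoidHom : Subgroup G) : Set G)) :=
    fun g hne hle => hA.2.2.1 g hne (Subgroup.commutator_eq_bot_iff_le_centralizer.2 hle)
  rcases h with rfl | ⟨hlt, -⟩ | ⟨hD', hne, hrange, -⟩
  · -- `A` is a component
    exfalso
    obtain ⟨g, hg⟩ := hmov
    have hne : A.map (MulAut.conj g).toMonoidHom ≠ A :=
      fun h => hg (Subgroup.mem_normalizer_iff_map_conj_eq.2 h)
    exact hno g hne (Component.le_centralizer_of_ne hD (Component.conj hD g) hne.symm)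
  · -- `A < D`: then `D` is the layer
    have hAD : A ≤ D := hlt.le
    have hDn : D.Normal := by
      refine Subgroup.normalizer_eq_top_iff.1 (eq_top_iff.2 fun g _ => ?_)
      by_contra hgn
      have hne : D.map (MulAut.conj g).toMonoidHom ≠ D :=
        fun h => hgn (Subgroup.mem_normalizer_iff_map_conj_eq.2 h)
      have hc : A ≤ centralizer ((A.map (MulAut.conj g).toMonoidHom : Subgroup G) : Set G) :=
        (hAD.trans (Component.le_centralizer_of_ne hD (Component.conj hD g) hne.symm)).trans
          (centralizer_le (Subgroup.map_mono hAD))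
      by_cases hAg : A.map (MulAut.conj g).toMonoidHom = A
      · exact hAnc (by rw [hAg] at hc; exact hc)
      · exact hno g hAg hc
    haveI := hDn
    have hQ : centralizer (D : Set G) = ⊥ :=
      hQnormal _ inferInstance (centralizer_le hAD)
    have hlay : layer G = D := le_antisymm (layer_le_of_centralizer {D}
      (fun K hK hKD => Component.le_centralizer_of_ne hK hD (by simpa using hKD))
      (fun K hK => le_of_eq (Set.mem_singleton_iff.1 hK)) hQ) (Layer.component_le_layer hD)
    refine Or.inr ⟨hAE, ?_, ?_⟩
    · rw [hlay]; exact isSimple_of_center hD.2 (center_eq_bot_of_centralizer hQ)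
    · rw [hlay]; exact Quasisimple.not_isMulCommutative hD.2
  · -- the diagonal case
    set D' := D.map (MulAut.conj t).toMonoidHom with hD'def
    set W := D ⊔ D' with hW
    have hcom : D ≤ centralizer (D' : Set G) :=
      Component.le_centralizer_of_ne hD (Component.conj hD t) hne.symm
    have hDperf : ⁅D, D⁆ = D := Component.commutator_self hD
    have hdiag : ∀ e : ↥D, (e : G) * (t * e * t⁻¹) ∈ A := fun e => by
      rw [hrange]; exact ⟨e, rfl⟩
    have hAW : A ≤ W := by
      rw [hrange]
      rintro _ ⟨e, rfl⟩
      exact Subgroup.mul_mem_sup e.2 ⟨e, e.2, rfl⟩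
    -- `D` does not normalize `A`
    obtain ⟨g, hgD, hgA⟩ : ∃ g ∈ D, g ∉ normalizer (A : Set G) := by
      by_contra hall
      push Not at hall
      refine hne ?_
      have hDA : D ≤ A := by
        rw [← hDperf, commutator_le]
        intro d hd x hx
        have h1 := (mem_normalizer_iff.1 (hall d hd) _).1 (hdiag ⟨x, hx⟩)
        have h2 := A.mul_mem h1 (A.inv_mem (hdiag ⟨x, hx⟩))
        have hc : d * (t * x * t⁻¹) = (t * x * t⁻¹) * d :=
          (mem_centralizer_iff.1 (hcom hd) _ ⟨x, hx, rfl⟩).symm
        have e : d * (x * (t * x * t⁻¹)) * d⁻¹ * (x * (t * x * t⁻¹))⁻¹ = ⁅d, x⁆ := by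
          rw [commutatorElement_def]
          calc d * (x * (t * x * t⁻¹)) * d⁻¹ * (x * (t * x * t⁻¹))⁻¹
              = d * x * d⁻¹ * ((d * (t * x * t⁻¹)) * d⁻¹ * (t * x * t⁻¹)⁻¹) * x⁻¹ := by group
            _ = d * x * d⁻¹ * x⁻¹ := by rw [hc]; group
        exact e ▸ h2
      refine Balance.mem_normalizer_iff_cj.1 ?_
      refine centralizer_le_normalizer _ ?_
      exact mem_centralizer_iff.2 fun d hd => mem_centralizer_singleton_iff.1 (hAt (hDA hd))
    have hgW : g ∈ normalizer (centralizer (W : Set G) : Set G) :=
      normalizer_le_normalizer_centralizer W (le_normalizer (mem_sup_left hgD))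
    have hQodd : Odd (Nat.card (centralizer (W : Set G))) := by
      rw [← Nat.not_even_iff_odd]
      exact fun heven => hgA (mem_normalizer_of_even hA (centralizer_le hAW) heven hgW)
    have hlay : layer G = W := by
      refine le_antisymm (sSup_le fun K hK => ?_)
        (sup_le (Layer.component_le_layer hD) (Layer.component_le_layer (Component.conj hD t)))
      by_cases h1 : K = D
      · exact h1 ▸ le_sup_left
      by_cases h2 : K = D'
      · exact h2 ▸ le_sup_right
      exfalso
      have hKQ : K ≤ centralizer (W : Set G) := by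
        rw [Subgroup.le_centralizer_iff]
        exact sup_le (Component.le_centralizer_of_ne hD hK (Ne.symm h1))
          (Component.le_centralizer_of_ne (Component.conj hD t) hK (Ne.symm h2))
      exact (Nat.not_even_iff_odd.2 (hQodd.of_dvd_nat (card_dvd_of_le hKQ)))
        (Row1322.even_card hFT hK.2)
    haveI hWn : W.Normal := hlay ▸ inferInstance
    have hQ : centralizer (W : Set G) = ⊥ := eq_bot_of_odd hO hQodd
    have hZ : ∀ z ∈ D, z ∈ D' → z = 1 := by
      intro z hz hz'
      have : z ∈ centralizer (W : Set G) := by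
        refine mem_centralizer_iff.2 fun w hw => ?_
        have hle : W ≤ centralizer ({z} : Set G) := by
          refine sup_le (fun d hd => mem_centralizer_singleton_iff.2 ?_)
            (fun d hd => mem_centralizer_singleton_iff.2 ?_)
          · exact (mem_centralizer_iff.1 (hcom hd) z hz').symm
          · exact mem_centralizer_iff.1 (hcom hz) d hd
        exact mem_centralizer_singleton_iff.1 (hle hw)
      rwa [hQ, Subgroup.mem_bot] at this
    have hinf : D ⊓ D' = ⊥ := eq_bot_iff.2 fun z hz => hZ z hz.1 hz.2
    have hcD : center D = ⊥ := by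
      rw [eq_bot_iff]
      intro z hz
      have : (z : G) ∈ centralizer (W : Set G) := by
        refine mem_centralizer_iff.2 fun w hw => ?_
        have hle : W ≤ centralizer ({(z : G)} : Set G) := by
          refine sup_le (fun d hd => mem_centralizer_singleton_iff.2 ?_)
            (fun d hd => mem_centralizer_singleton_iff.2 ?_)
          · exact congrArg Subtype.val (mem_center_iff.1 hz ⟨d, hd⟩)
          · exact mem_centralizer_iff.1 (hcom z.2) d hd
        exact mem_centralizer_singleton_iff.1 (hle hw)
      rw [hQ, Subgroup.mem_bot] at this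
      exact Subgroup.mem_bot.2 (Subtype.ext this)
    -- the centralizer of `A`
    have hfix : ∀ c ∈ C, c ∈ normalizer (D : Set G) → c = 1 := by
      intro c hc hcn
      have h1 : ∀ e ∈ D, c * e * c⁻¹ = e := by
        intro e he
        have h2 := mem_centralizer_iff.1 hc _ (hdiag ⟨e, he⟩)
        have hce : c * e * c⁻¹ ∈ D := (mem_normalizer_iff.1 hcn e).1 he
        have hct : c * (t * e * t⁻¹) * c⁻¹ ∈ D' := by
          have hcn' : c ∈ normalizer (D' : Set G) := by
            refine Balance.mem_normalizer_iff_cj.2 ?_
            show (D.map (MulAut.conj t).toMonoidHom).map (MulAut.conj c).toMonoidHom = D'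
            by_contra h'
            have hK : IsComponent ((D.map (MulAut.conj t).toMonoidHom).map
                (MulAut.conj c).toMonoidHom) := Component.conj (Component.conj hD t) c
            have hKD : (D.map (MulAut.conj t).toMonoidHom).map (MulAut.conj c).toMonoidHom ≠ D := by
              intro he'
              have := Subgroup.mem_normalizer_iff_map_conj_eq.1 hcn
              exact hne (Subgroup.map_injective (MulAut.conj c).injective (he'.trans this.symm))
            have hle : (D.map (MulAut.conj t).toMonoidHom).map (MulAut.conj c).toMonoidHom ≤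
                centralizer (W : Set G) := by
              rw [Subgroup.le_centralizer_iff]
              exact sup_le (Component.le_centralizer_of_ne hD hK hKD.symm)
                (Component.le_centralizer_of_ne (Component.conj hD t) hK (Ne.symm h'))
            exact Component.ne_bot hK (le_bot_iff.1 (hQ ▸ hle))
          exact (mem_normalizer_iff.1 hcn' _).1 ⟨e, he, rfl⟩
        have h3 : (c * e * c⁻¹) * (c * (t * e * t⁻¹) * c⁻¹) = e * (t * e * t⁻¹) := by
          calc (c * e * c⁻¹) * (c * (t * e * t⁻¹) * c⁻¹) = c * (e * (t * e * t⁻¹)) * c⁻¹ := by group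
            _ = _ := by rw [← h2, mul_inv_cancel_right]
        have h4 : e⁻¹ * (c * e * c⁻¹) = (t * e * t⁻¹) * (c * (t * e * t⁻¹) * c⁻¹)⁻¹ := by
          rw [eq_mul_inv_iff_mul_eq, mul_assoc, h3]; group
        have h5 := hZ _ (D.mul_mem (D.inv_mem he) hce)
          (h4 ▸ D'.mul_mem ⟨e, he, rfl⟩ (D'.inv_mem hct))
        exact (inv_mul_eq_one.1 h5).symm
      have : c ∈ centralizer (W : Set G) := by
        refine mem_centralizer_iff.2 fun w hw => ?_
        have hle : W ≤ centralizer ({c} : Set G) := by
          refine sup_le (fun d hd => mem_centralizer_singleton_iff.2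
            (mul_inv_eq_iff_eq_mul.1 (h1 d hd)).symm) ?_
          rintro _ ⟨e, he, rfl⟩
          refine mem_centralizer_singleton_iff.2 ?_
          have h2 := mem_centralizer_iff.1 hc _ (hdiag ⟨e, he⟩)
          have h3 : c * e = e * c := mul_inv_eq_iff_eq_mul.1 (h1 e he)
          show (t * e * t⁻¹) * c = c * (t * e * t⁻¹)
          apply mul_left_cancel (a := e)
          calc e * ((t * e * t⁻¹) * c) = (e * (t * e * t⁻¹)) * c := by group
            _ = c * (e * (t * e * t⁻¹)) := h2
            _ = (c * e) * (t * e * t⁻¹) := by group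
            _ = e * (c * (t * e * t⁻¹)) := by rw [h3]; group
        exact mem_centralizer_singleton_iff.1 (hle hw)
      rwa [hQ, Subgroup.mem_bot] at this
    refine Or.inl ⟨D, isSimple_of_center hD.2 hcD, Quasisimple.not_isMulCommutative hD.2, ?_, ?_,
      hinf, hlay.symm, ?_⟩
    · have hinj : Function.Injective (ComponentPairs.diag hD' hne) := by
        rw [injective_iff_map_eq_one]
        intro e he
        refine Subtype.ext (hZ _ e.2 ?_)
        rw [show (e : G) = (t * e * t⁻¹)⁻¹ from eq_inv_of_mul_eq_one_left he]
        exact D'.inv_mem ⟨e, e.2, rfl⟩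
      exact ⟨(MonoidHom.ofInjective hinj).trans (MulEquiv.subgroupCongr hrange.symm)⟩
    · intro a ha b hb
      exact (mem_centralizer_iff.1 (hcom ha) b hb).symm
    · refine le_antisymm (fun c hc => ?_) (zpowers_le.2 htA)
      by_cases hcn : c ∈ normalizer (D : Set G)
      · rw [hfix c hc hcn]; exact one_mem _
      have hsw : D.map (MulAut.conj c).toMonoidHom = D' := by
        by_contra h'
        have hK : IsComponent (D.map (MulAut.conj c).toMonoidHom) := Component.conj hD c
        have hKD : D.map (MulAut.conj c).toMonoidHom ≠ D :=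
          fun h => hcn (Subgroup.mem_normalizer_iff_map_conj_eq.2 h)
        have hle : D.map (MulAut.conj c).toMonoidHom ≤ centralizer (W : Set G) := by
          rw [Subgroup.le_centralizer_iff]
          exact sup_le (Component.le_centralizer_of_ne hD hK hKD.symm)
            (Component.le_centralizer_of_ne (Component.conj hD t) hK (Ne.symm h'))
        exact Component.ne_bot hK (le_bot_iff.1 (hQ ▸ hle))
      have htc : t * c = 1 := by
        refine hfix _ (C.mul_mem htA hc) (Balance.mem_normalizer_iff_cj.2 ?_)
        show D.map (MulAut.conj (t * c)).toMonoidHom = D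
        have e : D.map (MulAut.conj (t * c)).toMonoidHom =
            (D.map (MulAut.conj c).toMonoidHom).map (MulAut.conj t).toMonoidHom := by
          rw [Subgroup.map_map]
          congr 1
          ext x
          simp [MulAut.conj_apply, mul_assoc]
        rw [e, hsw, hD'def, ComponentPairs.map_conj_conj htt]
      rw [show c = t⁻¹ from (inv_eq_of_mul_eq_one_right htc).symm]
      exact inv_mem (mem_zpowers t)

end Cfsg.Agent.Lib.FTDeps.Row1347
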