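import Cfsg.Agent.Lib.FTDeps.CentralTwo

/-!
# The row S2962 from the odd order theorem
-/

set_option autoImplicit false

namespace Cfsg.Agent.Lib.FTDeps.Row2962

open Cfsg.Agent.Lib.FTDeps.Basic

universe u

theorem of_oddOrder (hFT : OddOrderSolvable.{u}) {G : Type u} [Group G] [Finite G] (N Q : Subgroup G)
    [N.Normal] (hG : Q ⊔ N = ⊤) (hQ : IsPGroup 2 ↥Q) (hdisj : Q ⊓ N = ⊥) (t : G)
    (htZ : t ∈ Q ⊓ Subgroup.centralizer (Q : Set G)) (htQ : t ∈ ⁅Q, Q⁆)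
    (hC : N ⊓ Subgroup.centralizer (Q : Set G) = N ⊓ Subgroup.centralizer ({t} : Set G)) :
    Group.IsSolvable ↥⁅N, Q⁆ ∧ Odd (Nat.card ↥⁅N, Q⁆) := by
  have hle := CentralTwo.commutator_le hG hQ hdisj htQ
    (fun q hq => Subgroup.mem_centralizer_iff.1 htZ.2 q hq) (fun n hn hnt q hq => by
      have h1 : n ∈ N ⊓ Subgroup.centralizer ({t} : Set G) :=
        ⟨hn, Subgroup.mem_centralizer_singleton_iff.2 hnt.symm.eq⟩
      rw [← hC] at h1
      exact Subgroup.mem_centralizer_iff.1 h1.2 q hq)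
  have hodd : Odd (Nat.card ↥⁅N, Q⁆) :=
    Odd.of_dvd_nat (ZStar.Elements.oddCore_odd (G := G))
      (Subgroup.card_dvd_of_le (hle.trans inf_le_left))
  exact ⟨hFT _ hodd, hodd⟩

end Cfsg.Agent.Lib.FTDeps.Row2962
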