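import Cfsg.Agent.Lib.Transfer.Frobenius
import Cfsg.Agent.Lib.Cores.Basic
import Cfsg.Agent.Lib.SquarefreeClass.Fitting
import Cfsg.Agent.Lib.PSolvable.HallHigman

/-!
# Values of left-normed commutator words and coprime action

If coprime values behave as in a nilpotent group, a value of `p'`-order centralises the `p`-subgroups it
normalises; in a solvable group every value then lies in the Fitting subgroup modulo itself.
-/

set_option autoImplicit false
set_option linter.style.haveILetI false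

open scoped commutatorElement Pointwise

namespace Cfsg.Agent.Lib.FTDeps.Row3900Values

variable {G : Type*} [Group G] {H : Type*} [Group H]

/-- Values of the left-normed commutator word with `k + 1` entries. -/
def Val : ∀ (_k : ℕ) (G : Type*) [Group G], Set G
  | 0, _, _ => Set.univ
  | k + 1, G, _ => {x | ∃ v ∈ Val k G, ∃ g : G, x = ⁅v, g⁆}

theorem mem_val_zero (x : G) : x ∈ Val 0 G := Set.mem_univ x

theorem mem_val_succ {k : ℕ} {v : G} (hv : v ∈ Val k G) (g : G) : ⁅v, g⁆ ∈ Val (k + 1) G :=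
  ⟨v, hv, g, rfl⟩

theorem val_succ_subset : ∀ (k : ℕ) {x : G}, x ∈ Val (k + 1) G → x ∈ Val k G
  | 0, x, _ => mem_val_zero x
  | k + 1, _, ⟨_, hv, g, rfl⟩ => mem_val_succ (val_succ_subset k hv) g

theorem map_mem_val (φ : G →* H) : ∀ (k : ℕ) {x : G}, x ∈ Val k G → φ x ∈ Val k H
  | 0, _, _ => mem_val_zero _
  | k + 1, _, ⟨_, hv, g, rfl⟩ => by
    rw [map_commutatorElement]
    exact mem_val_succ (map_mem_val φ k hv) _

/-- The values lift into any subgroup mapping onto. -/
theorem exists_val_lift (φ : G →* H) (P : Subgroup G) (hP : ∀ g : G, ∃ p ∈ P, φ p = φ g) :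
    ∀ (k : ℕ) {x : G}, x ∈ Val k G → ∃ y ∈ Val k G, y ∈ P ∧ φ y = φ x
  | 0, x, _ => by
    obtain ⟨p, hp, he⟩ := hP x
    exact ⟨p, mem_val_zero p, hp, he⟩
  | k + 1, _, ⟨v, hv, g, rfl⟩ => by
    obtain ⟨w, hw, hwP, hwe⟩ := exists_val_lift φ P hP k hv
    obtain ⟨p, hp, he⟩ := hP g
    refine ⟨⁅w, p⁆, mem_val_succ hw p, ?_, by rw [map_commutatorElement, map_commutatorElement, hwe, he]⟩
    rw [commutatorElement_def]
    exact mul_mem (mul_mem (mul_mem hwP hp) (inv_mem hwP)) (inv_mem hp)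

/-- The predicate written with a folded list. -/
theorem mem_val_iff_foldl : ∀ (k : ℕ) (x : G), x ∈ Val k G ↔
    ∃ (a : G) (l : List G), l.length = k ∧ x = l.foldl (fun a b => a * b * a⁻¹ * b⁻¹) a
  | 0, x => ⟨fun _ => ⟨x, [], rfl, rfl⟩, fun _ => mem_val_zero x⟩
  | k + 1, x => by
    constructor
    · rintro ⟨v, hv, g, rfl⟩
      obtain ⟨a, l, hl, rfl⟩ := (mem_val_iff_foldl k v).1 hv
      exact ⟨a, l ++ [g], by simp [hl], by simp [List.foldl_append, commutatorElement_def]⟩
    · rintro ⟨a, l, hl, rfl⟩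
      rcases List.eq_nil_or_concat l with rfl | ⟨l', g, rfl⟩
      · simp at hl
      · rw [List.concat_eq_append, List.foldl_append, List.foldl_cons, List.foldl_nil]
        have hl' : l'.length = k := by simpa using hl
        have := mem_val_succ ((mem_val_iff_foldl k _).2 ⟨a, l', hl', rfl⟩) g
        rwa [commutatorElement_def] at this

theorem mem_val_iff (k : ℕ) (x : G) : x ∈ Val k G ↔
    ∃ f : Fin (k + 1) → G,
      x = ((List.ofFn f).tail).foldl (fun a b => a * b * a⁻¹ * b⁻¹) (f 0) := by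
  rw [mem_val_iff_foldl]
  constructor
  · rintro ⟨a, l, hl, rfl⟩
    subst hl
    refine ⟨Fin.cons a l.get, ?_⟩
    rw [List.ofFn_succ, List.tail_cons]
    simp [List.ofFn_get]
  · rintro ⟨f, rfl⟩
    exact ⟨f 0, (List.ofFn f).tail, by simp, rfl⟩

theorem val_subset_lowerCentralSeries : ∀ (k : ℕ) {x : G}, x ∈ Val k G →
    x ∈ (⊤ : Subgroup G).lowerCentralSeries k
  | 0, x, _ => by simp
  | k + 1, _, ⟨v, hv, g, rfl⟩ => by
    rw [Subgroup.lowerCentralSeries_succ]
    exact Subgroup.commutator_mem_commutator (val_subset_lowerCentralSeries k hv) (Subgroup.mem_top g)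

/-- A normal subgroup containing the values contains `γ_{k+1}`. -/
theorem lowerCentralSeries_le : ∀ (k : ℕ) (M : Subgroup G), M.Normal → (∀ x ∈ Val k G, x ∈ M) →
    (⊤ : Subgroup G).lowerCentralSeries k ≤ M
  | 0, M, _, h => fun x _ => h x (mem_val_zero x)
  | k + 1, M, hM, h => by
    haveI := hM
    rw [Subgroup.lowerCentralSeries_succ, Subgroup.commutator_le]
    intro a ha g _
    have h1 : ∀ x ∈ Val k G, x ∈ (Subgroup.center (G ⧸ M)).comap (QuotientGroup.mk' M) := by
      intro x hx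
      rw [Subgroup.mem_comap, Subgroup.mem_center_iff]
      intro z
      obtain ⟨b, rfl⟩ := QuotientGroup.mk'_surjective M z
      symm
      rw [← commutatorElement_eq_one_iff_mul_comm, ← map_commutatorElement]
      exact (QuotientGroup.eq_one_iff _).2 (h _ (mem_val_succ hx b))
    have h2 := lowerCentralSeries_le k _ inferInstance h1 ha
    rw [Subgroup.mem_comap, Subgroup.mem_center_iff] at h2
    rw [← QuotientGroup.eq_one_iff]
    show QuotientGroup.mk' M ⁅a, g⁆ = 1
    rw [map_commutatorElement, commutatorElement_eq_one_iff_mul_comm]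
    exact (h2 _).symm

/-! ### Iterated commutators with a fixed element -/

/-- `[n, g, …, g]`, with `j` copies of `g`. -/
def iter (g : G) : ℕ → G → G
  | 0, n => n
  | j + 1, n => ⁅iter g j n, g⁆

theorem iter_succ' (g : G) : ∀ (j : ℕ) (n : G), iter g (j + 1) n = iter g j ⁅n, g⁆
  | 0, _ => rfl
  | j + 1, n => by
    show ⁅iter g (j + 1) n, g⁆ = ⁅iter g j ⁅n, g⁆, g⁆
    rw [iter_succ' g j n]

theorem map_iter (φ : G →* H) (g : G) : ∀ (j : ℕ) (n : G), φ (iter g j n) = iter (φ g) j (φ n)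
  | 0, _ => rfl
  | j + 1, n => by
    show φ ⁅iter g j n, g⁆ = ⁅iter (φ g) j (φ n), φ g⁆
    rw [map_commutatorElement, map_iter φ g j n]

theorem iter_mem_val (g : G) : ∀ (j : ℕ) (n : G), iter g j n ∈ Val j G
  | 0, n => mem_val_zero n
  | j + 1, n => mem_val_succ (iter_mem_val g j n) g

theorem commutator_mem {Q : Subgroup G} {g n : G} (hg : g ∈ Subgroup.normalizer (Q : Set G))
    (hn : n ∈ Q) : ⁅n, g⁆ ∈ Q := by
  rw [commutatorElement_def, mul_assoc, mul_assoc]
  refine mul_mem hn ?_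
  rw [← mul_assoc]
  exact (Subgroup.mem_normalizer_iff.1 hg n⁻¹).1 (inv_mem hn)

theorem iter_mem {Q : Subgroup G} {g : G} (hg : g ∈ Subgroup.normalizer (Q : Set G)) :
    ∀ (j : ℕ) {n : G}, n ∈ Q → iter g j n ∈ Q
  | 0, _, hn => hn
  | j + 1, _, hn => commutator_mem hg (iter_mem hg j hn)

/-- An element of coprime order with trivial iterated commutators centralises. -/
theorem commute_of_iter_eq_one [Finite G] {q : ℕ} [Fact q.Prime] {Q : Subgroup G}
    (hQ : IsPGroup q Q) {g : G} (hg : g ∈ Subgroup.normalizer (Q : Set G))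
    (hgq : (orderOf g).Coprime q) : ∀ (j : ℕ) {n : G}, n ∈ Q → iter g j n = 1 → Commute n g := by
  intro j
  induction j with
  | zero => intro n _ h; rw [show n = 1 from h]; exact Commute.one_left g
  | succ j ih =>
    intro n hn h
    rw [iter_succ'] at h
    have hc := ih (commutator_mem hg hn) h
    obtain ⟨a, ha⟩ := IsPGroup.iff_orderOf.1 hQ ⟨⁅n, g⁆, commutator_mem hg hn⟩
    rw [Subgroup.orderOf_mk] at ha
    set c := ⁅n, g⁆ with hcdef
    have e : n * g * n⁻¹ = c * g := by rw [hcdef, commutatorElement_def]; group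
    have p1 : c ^ orderOf g = 1 := by
      have := congrArg (fun x => x ^ orderOf g) e
      simpa [conj_pow, hc.mul_pow, pow_orderOf_eq_one] using this.symm
    have hc1 : c = 1 := orderOf_eq_one_iff.1 (Nat.eq_one_of_dvd_coprimes
      (ha ▸ (hgq.symm.pow_left a)) dvd_rfl (orderOf_dvd_of_pow_eq_one p1))
    exact commutatorElement_eq_one_iff_mul_comm.1 (hcdef.symm.trans hc1)

/-! ### Lifting normalised subgroups -/

/-- A `q`-subgroup of a quotient is the image of a `q`-subgroup whose normaliser covers its normaliser. -/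
theorem exists_lift_subgroup [Finite G] {q : ℕ} [Fact q.Prime] (M : Subgroup G) [M.Normal]
    {P : Subgroup (G ⧸ M)} (hP : IsPGroup q P) :
    ∃ Q : Subgroup G, IsPGroup q Q ∧ Q.map (QuotientGroup.mk' M) = P ∧
      ∀ g : G, QuotientGroup.mk' M g ∈ Subgroup.normalizer (P : Set (G ⧸ M)) →
        ∃ m ∈ M, m * g ∈ Subgroup.normalizer (Q : Set G) := by
  set π := QuotientGroup.mk' M with hπ
  have hπs : Function.Surjective π := QuotientGroup.mk'_surjective M
  set K := P.comap π with hK
  have hKmap : K.map π = P := Subgroup.map_comap_eq_self_of_surjective hπs P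
  obtain ⟨S⟩ : Nonempty (Sylow q K) := inferInstance
  set Q := (S : Subgroup K).map K.subtype with hQ
  have hQp : IsPGroup q Q := S.2.map _
  have hQmap : Q.map π = P := by
    rw [hQ, PSolvable.map_sylow_eq_map_of_isPGroup π K (by rwa [hKmap]) S, hKmap]
  refine ⟨Q, hQp, hQmap, fun g hg => ?_⟩
  set c := (MulAut.conj g).toMonoidHom with hc
  have hle : Q.map c ≤ K := by
    rintro _ ⟨x, hx, rfl⟩
    show π (g * x * g⁻¹) ∈ P
    rw [map_mul, map_mul, map_inv]
    exact (Subgroup.mem_normalizer_iff.1 hg _).1 (hQmap ▸ Subgroup.mem_map_of_mem π hx)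
  obtain ⟨T, hT⟩ := ((hQp.map c).comap_subtype (K := K)).exists_le_sylow
  obtain ⟨k, hk⟩ := MulAction.exists_smul_eq K S T
  have hcard : Nat.card ((Q.map c).subgroupOf K) = Nat.card (T : Subgroup K) := by
    rw [Nat.card_congr (Subgroup.subgroupOfEquivOfLe hle).toEquiv,
      Subgroup.card_map_of_injective (MulAut.conj g).injective, hQ,
      Subgroup.card_map_of_injective K.subtype_injective, ← hk]
    exact Sylow.card_eq_multiplicity S ▸ (Sylow.card_eq_multiplicity (k • S)).symm
  have hT' : (Q.map c).subgroupOf K = (T : Subgroup K) :=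
    Subgroup.eq_of_le_of_card_ge hT hcard.ge
  -- `k = m * (element of Q)`
  have hk' : π (k : G) ∈ Q.map π := hQmap.symm ▸ k.2
  obtain ⟨x, hx, hxk⟩ := hk'
  refine ⟨(k * x⁻¹)⁻¹, inv_mem ((QuotientGroup.eq_one_iff _).1 ?_), ?_⟩
  · show π ((k : G) * x⁻¹) = 1
    rw [map_mul, map_inv, hxk, mul_inv_cancel]
  have hconj : ∀ y : G, y ∈ Q → ∃ z ∈ Q, g * y * g⁻¹ = (k : G) * z * (k : G)⁻¹ := by
    intro y hy
    have h1 : (⟨g * y * g⁻¹, hle ⟨y, hy, rfl⟩⟩ : K) ∈ ((k • S : Sylow q K) : Subgroup K) := by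
      rw [hk, ← hT', Subgroup.mem_subgroupOf]
      exact ⟨y, hy, rfl⟩
    rw [Sylow.coe_subgroup_smul, Subgroup.mem_pointwise_smul_iff_inv_smul_mem] at h1
    refine ⟨_, ⟨_, h1, rfl⟩, ?_⟩
    simp [mul_assoc]
  have hsub : ∀ y ∈ Q, ((k : G) * x⁻¹)⁻¹ * g * y * (((k : G) * x⁻¹)⁻¹ * g)⁻¹ ∈ Q := by
    intro y hy
    obtain ⟨z, hz, he⟩ := hconj y hy
    have : ((k : G) * x⁻¹)⁻¹ * g * y * (((k : G) * x⁻¹)⁻¹ * g)⁻¹ = x * z * x⁻¹ := by
      calc _ = x * (k : G)⁻¹ * (g * y * g⁻¹) * (k : G) * x⁻¹ := by group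
        _ = x * z * x⁻¹ := by rw [he]; group
    rw [this]
    exact mul_mem (mul_mem hx hz) (inv_mem hx)
  rw [Subgroup.mem_normalizer_iff_map_conj_eq]
  refine Subgroup.eq_of_le_of_card_ge ?_ ?_
  · rintro _ ⟨y, hy, rfl⟩
    exact hsub y hy
  · exact (Subgroup.card_map_of_injective (MulAut.conj _).injective).ge

/-- If all values of `q`-power order lie in `M`, then `G / M` has a normal `q`-complement. -/
theorem hasNormalPComplement_quotient [Finite G] {q : ℕ} [Fact q.Prime] {k : ℕ} (M : Subgroup G)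
    [M.Normal] (hV : ∀ v ∈ Val k G, (∃ a, orderOf v = q ^ a) → v ∈ M) :
    Cfsg.HasNormalPComplement q (G ⧸ M) := by
  refine Transfer.Frobenius.hasNormalPComplement_of_forall_centralizes fun P hP _ gb hg hgq => ?_
  obtain ⟨Q, hQ, hQmap, hQn⟩ := exists_lift_subgroup M hP
  obtain ⟨g, rfl⟩ := QuotientGroup.mk'_surjective M gb
  obtain ⟨m, hm, hmg⟩ := hQn g hg
  have hm1 : QuotientGroup.mk' M (m * g) = QuotientGroup.mk' M g := by
    rw [map_mul, show QuotientGroup.mk' M m = 1 from (QuotientGroup.eq_one_iff m).2 hm, one_mul]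
  rw [Subgroup.mem_centralizer_iff]
  intro nb hn
  rw [← hQmap] at hn
  obtain ⟨n, hn', rfl⟩ := hn
  obtain ⟨a, ha⟩ := IsPGroup.iff_orderOf.1 hQ ⟨_, iter_mem hmg k hn'⟩
  rw [Subgroup.orderOf_mk] at ha
  have h1 : QuotientGroup.mk' M (iter (m * g) k n) = 1 :=
    (QuotientGroup.eq_one_iff _).2 (hV _ (iter_mem_val _ k n) ⟨a, ha⟩)
  rw [map_iter, hm1] at h1
  exact (commute_of_iter_eq_one hP hg hgq k (hQmap ▸ Subgroup.mem_map_of_mem _ hn') h1).eq

/-! ### The hypothesis on coprime values -/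

/-- Weak form of the order condition on pairs of coprime values. -/
def IsGood (k : ℕ) (G : Type*) [Group G] : Prop :=
  ∀ x ∈ Val k G, ∀ y ∈ Val k G, (orderOf x).Coprime (orderOf y) →
    orderOf (y * x) = orderOf x → y = 1

theorem IsGood.subgroup {k : ℕ} (h : IsGood k G) (K : Subgroup G) : IsGood k K := by
  intro x hx y hy hco he
  apply Subtype.ext
  refine h _ (map_mem_val K.subtype k hx) _ (map_mem_val K.subtype k hy) ?_ ?_
  · simpa [Subgroup.orderOf_coe] using hco
  · show orderOf (K.subtype y * K.subtype x) = _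
    rw [← map_mul, orderOf_injective K.subtype K.subtype_injective,
      orderOf_injective K.subtype K.subtype_injective, he]

/-- A value of `q'`-order centralises the `q`-subgroups it normalises. -/
theorem IsGood.commute [Finite G] {k q : ℕ} [Fact q.Prime] (h : IsGood k G) {Q : Subgroup G}
    (hQ : IsPGroup q Q) {x : G} (hx : x ∈ Val k G) (hn : x ∈ Subgroup.normalizer (Q : Set G))
    (hxq : (orderOf x).Coprime q) {n : G} (hnQ : n ∈ Q) : Commute n x := by
  refine commute_of_iter_eq_one hQ hn hxq (k + 1) hnQ ?_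
  have hy : iter x (k + 1) n ∈ Val k G := val_succ_subset k (iter_mem_val x (k + 1) n)
  obtain ⟨a, ha⟩ := IsPGroup.iff_orderOf.1 hQ ⟨_, iter_mem hn (k + 1) hnQ⟩
  rw [Subgroup.orderOf_mk] at ha
  refine h x hx _ hy (ha ▸ hxq.pow_right a) ?_
  show orderOf (⁅iter x k n, x⁆ * x) = orderOf x
  rw [commutatorElement_def, inv_mul_cancel_right]
  exact (MulEquiv.orderOf_eq (MulAut.conj (iter x k n)) x)

variable [Finite G] {k : ℕ}

/-- In a solvable group a value of `q`-power order lies in `O_q`. -/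
theorem IsGood.mem_pCore [Group.IsSolvable G] (h : IsGood k G) {q : ℕ} [hq : Fact q.Prime] {v : G}
    (hv : v ∈ Val k G) (hvq : ∃ a, orderOf v = q ^ a) : v ∈ Cfsg.pCore q G := by
  set O := Cfsg.pCore q G with hO
  haveI : O.Normal := inferInstance
  set π := QuotientGroup.mk' O with hπ
  obtain ⟨a, ha⟩ := hvq
  obtain ⟨a', -, ha'⟩ := (Nat.dvd_prime_pow hq.out).1 (ha ▸ orderOf_map_dvd π v)
  have hcent : π v ∈ Subgroup.centralizer
      (Cfsg.fittingSubgroup (G ⧸ O) : Set (G ⧸ O)) := by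
    have hle : Cfsg.fittingSubgroup (G ⧸ O) ≤ Subgroup.centralizer {π v} := by
      rw [Cores.fittingSubgroup_eq_iSup_pCore]
      refine iSup_le fun p => ?_
      haveI : Fact (p : ℕ).Prime := ⟨p.2⟩
      by_cases hpq : (p : ℕ) = q
      · rw [hpq, Cores.pCore_quotient_pCore]; exact bot_le
      intro nb hnb
      obtain ⟨Q, hQ, hQmap, hQn⟩ := exists_lift_subgroup O (Cores.pCore_isPGroup (G := G ⧸ O) (p : ℕ))
      obtain ⟨m, hm, hmv⟩ := hQn v (Subgroup.normalizer_eq_top (Cfsg.pCore (p : ℕ) (G ⧸ O)) ▸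
        Subgroup.mem_top _)
      rw [← hQmap] at hnb
      obtain ⟨n, hn, rfl⟩ := hnb
      set v' := m * v with hv'
      have hπv : π v' = π v := by
        rw [hv', map_mul, show π m = 1 from (QuotientGroup.eq_one_iff m).2 hm, one_mul]
      have hv'q : (orderOf v').Coprime p := by
        have h1 : v' ^ q ^ a ∈ O := by
          rw [← QuotientGroup.eq_one_iff]
          show π (v' ^ q ^ a) = 1
          rw [map_pow, hπv, ← map_pow, ← ha, pow_orderOf_eq_one, map_one]
        obtain ⟨b, hb⟩ := Cores.pCore_isPGroup (G := G) q ⟨_, h1⟩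
        have hb' : v' ^ q ^ (a + b) = 1 := by
          rw [pow_add, pow_mul]; exact congrArg Subtype.val hb
        exact (((Nat.coprime_primes hq.out p.2).2 (Ne.symm hpq)).pow_left _).coprime_dvd_left
          (orderOf_dvd_of_pow_eq_one hb')
      set C := Subgroup.centralizer (O : Set G) with hC
      -- iterates centralise `O`
      have hy : iter v' k n ∈ Q ⊓ C := by
        refine Subgroup.mem_inf.2 ⟨iter_mem hmv k hn, Subgroup.mem_centralizer_iff.2 fun z hz => ?_⟩
        obtain ⟨b, hb⟩ := IsPGroup.iff_orderOf.1 hQ ⟨_, iter_mem hmv k hn⟩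
        rw [Subgroup.orderOf_mk] at hb
        exact (h.commute (Cores.pCore_isPGroup (G := G) q) (iter_mem_val v' k n)
          (Subgroup.normalizer_eq_top O ▸ Subgroup.mem_top _)
          (hb ▸ (((Nat.coprime_primes p.2 hq.out).2 hpq).pow_left b)) hz).eq
      have hsame : ∀ z ∈ Q ⊓ C, v * z * v⁻¹ = v' * z * v'⁻¹ := by
        intro z hz
        have h1 : v * z * v⁻¹ ∈ C :=
          (inferInstance : C.Normal).conj_mem z (Subgroup.mem_inf.1 hz).2 v
        have h2 := Subgroup.mem_centralizer_iff.1 h1 m hm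
        rw [hv', show m * v * z * (m * v)⁻¹ = m * (v * z * v⁻¹) * m⁻¹ by group, h2,
          mul_inv_cancel_right]
      have hfix : ∀ z ∈ Q ⊓ C, v * z * v⁻¹ ∈ Q ⊓ C := fun z hz => Subgroup.mem_inf.2
        ⟨hsame z hz ▸ (Subgroup.mem_normalizer_iff.1 hmv z).1 (Subgroup.mem_inf.1 hz).1,
          (inferInstance : C.Normal).conj_mem z (Subgroup.mem_inf.1 hz).2 v⟩
      have hvn : v ∈ Subgroup.normalizer ((Q ⊓ C : Subgroup G) : Set G) := by
        rw [Subgroup.mem_normalizer_iff_map_conj_eq]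
        refine Subgroup.eq_of_le_of_card_ge ?_
          (Subgroup.card_map_of_injective (MulAut.conj v).injective).ge
        rintro _ ⟨z, hz, rfl⟩
        exact hfix z hz
      have hc : Commute (iter v' k n) v := h.commute (hQ.to_le inf_le_left) hv hvn
        (ha ▸ (((Nat.coprime_primes hq.out p.2).2 (Ne.symm hpq)).pow_left a)) hy
      have hc' : Commute (iter v' k n) v' := by
        have h1 : v * iter v' k n * v⁻¹ = iter v' k n := by rw [← hc.eq, mul_inv_cancel_right]
        exact (mul_inv_eq_iff_eq_mul.1 ((hsame _ hy).symm.trans h1)).symm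
      have h2 : Commute n v' := commute_of_iter_eq_one hQ hmv hv'q (k + 1) hn
        (commutatorElement_eq_one_iff_mul_comm.2 hc'.eq)
      rw [Subgroup.mem_centralizer_singleton_iff, ← hπv, ← map_mul, ← map_mul, h2.eq]
    rw [Subgroup.mem_centralizer_iff]
    exact fun f hf => Subgroup.mem_centralizer_singleton_iff.1 (hle hf)
  have := SquarefreeClass.mem_pCore_of_mem_fitting
    (Cores.centralizer_fittingSubgroup_le hcent) ⟨a', ha'⟩
  rw [Cores.pCore_quotient_pCore, Subgroup.mem_bot] at this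
  exact (QuotientGroup.eq_one_iff v).1 this

/-- In a solvable group `γ_{k+1}` lies in the Fitting subgroup. -/
theorem IsGood.lowerCentralSeries_le_fitting [Group.IsSolvable G] (h : IsGood k G) :
    (⊤ : Subgroup G).lowerCentralSeries k ≤ Cfsg.fittingSubgroup G := by
  set F := Cfsg.fittingSubgroup G with hF
  refine lowerCentralSeries_le k F inferInstance fun x hx => ?_
  have key : ∀ p : ℕ, p.Prime → ¬ p ∣ orderOf (QuotientGroup.mk' F x) := by
    intro p hp
    haveI := Fact.mk hp
    have hV : ∀ v ∈ Val k G, (∃ a, orderOf v = p ^ a) → v ∈ F := fun v hv ha =>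
      Cores.pCore_le_fittingSubgroup p (h.mem_pCore hv ha)
    have hN := hasNormalPComplement_quotient F hV
    set R := Cfsg.pResidual p (G ⧸ F) with hR
    haveI : R.Normal := inferInstance
    set φ := (QuotientGroup.mk' R).comp (QuotientGroup.mk' F) with hφ
    obtain ⟨P⟩ : Nonempty (Sylow p G) := inferInstance
    have hsurj : ∀ g : G, ∃ y ∈ (P : Subgroup G), φ y = φ g := by
      intro g
      have hφs : Function.Surjective φ :=
        (QuotientGroup.mk'_surjective R).comp (QuotientGroup.mk'_surjective F)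
      have htop : (P : Subgroup G).map φ = ⊤ :=
        ((Sylow.mapSurjective hφs P).is_maximal'
          ((Transfer.PResidual.isPGroup_quotient (p := p) (G := G ⧸ F)).to_subgroup ⊤) le_top).symm
      exact Subgroup.mem_map.1 (htop ▸ Subgroup.mem_top (φ g))
    obtain ⟨y, hy, hyP, he⟩ := exists_val_lift φ P hsurj k hx
    obtain ⟨a, ha⟩ := IsPGroup.iff_orderOf.1 P.2 ⟨y, hyP⟩
    rw [Subgroup.orderOf_mk] at ha
    have hy1 : φ y = 1 := by
      show QuotientGroup.mk' R (QuotientGroup.mk' F y) = 1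
      rw [show QuotientGroup.mk' F y = 1 from (QuotientGroup.eq_one_iff y).2 (hV y hy ⟨a, ha⟩), map_one]
    have hxR : QuotientGroup.mk' F x ∈ R :=
      (QuotientGroup.eq_one_iff _).1 (he.symm.trans hy1)
    exact fun hd => Transfer.PResidual.hasNormalPComplement_iff_not_dvd.1 hN
      (hd.trans (R.orderOf_dvd_natCard hxR))
  have h1 : orderOf (QuotientGroup.mk' F x) = 1 := Nat.eq_one_iff_not_exists_prime_dvd.2 key
  exact (QuotientGroup.eq_one_iff x).1 (orderOf_eq_one_iff.1 h1)

end Cfsg.Agent.Lib.FTDeps.Row3900Values
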