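import Cfsg.Agent.Lib.FTDeps.Basic
import Cfsg.Agent.Lib.FTDeps.Row3900Values
import Cfsg.Agent.Lib.Involutions.BaerSuzuki

/-!
# S3900 modulo the odd order theorem

`γ_{k+1}(G)` is nilpotent iff commutator values of coprime orders multiply their orders.
-/

set_option autoImplicit false
set_option linter.style.haveILetI false
set_option linter.unusedSectionVars false

open scoped commutatorElement Pointwise

namespace Cfsg.Agent.Lib.FTDeps.Row3900

open Row3900Values

universe u

section Perfect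

variable {G : Type u} [Group G] [Finite G]

theorem derivedSeries_eq_top (hperf : commutator G = ⊤) : ∀ n, derivedSeries G n = ⊤
  | 0 => derivedSeries_zero G
  | n + 1 => by rw [derivedSeries_succ, derivedSeries_eq_top hperf n, ← commutator_def, hperf]

/-- A perfect group has no proper solvable quotient. -/
theorem eq_top_of_solvable_quotient (hperf : commutator G = ⊤) (N : Subgroup G) [N.Normal]
    (h : Group.IsSolvable (G ⧸ N)) : N = ⊤ := by
  obtain ⟨n, hn⟩ := h.solvable
  rw [eq_top_iff]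
  intro x _
  have h1 := map_derivedSeries_le_derivedSeries (QuotientGroup.mk' N) n
    (Subgroup.mem_map_of_mem _ ((derivedSeries_eq_top hperf n).symm ▸ Subgroup.mem_top x))
  rw [hn, Subgroup.mem_bot] at h1
  exact (QuotientGroup.eq_one_iff x).1 h1

/-- Under the odd order theorem a group with normal `2`-complement is solvable. -/
theorem isSolvable_of_complement (hFT : Basic.OddOrderSolvable.{u}) (X : Type u) [Group X] [Finite X]
    (h : Cfsg.HasNormalPComplement 2 X) : Group.IsSolvable X := by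
  haveI : Fact (Nat.Prime 2) := ⟨Nat.prime_two⟩
  haveI : Group.IsSolvable (Cfsg.pResidual 2 X) := hFT _ (Nat.not_even_iff_odd.1 fun he =>
    Transfer.PResidual.hasNormalPComplement_iff_not_dvd.1 h he.two_dvd)
  haveI : Group.IsNilpotent (X ⧸ Cfsg.pResidual 2 X) :=
    (Transfer.PResidual.isPGroup_quotient (p := 2) (G := X)).isNilpotent
  exact (Group.isSolvable_iff_subgroup_quotient (Cfsg.pResidual 2 X)).2 ⟨inferInstance, inferInstance⟩

/-- A value of `2`-power order maps to an involution modulo the central `2`-subgroup `U`. -/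
theorem exists_value (k : ℕ) (U : Subgroup G) [U.Normal] (hU : IsPGroup 2 U)
    (hn : ¬ Cfsg.HasNormalPComplement 2 (G ⧸ U)) :
    ∃ v ∈ Val k G, (∃ a, orderOf v = 2 ^ a) ∧ orderOf (QuotientGroup.mk' U v) = 2 := by
  haveI : Fact (Nat.Prime 2) := ⟨Nat.prime_two⟩
  set π := QuotientGroup.mk' U with hπ
  have hπs : Function.Surjective π := QuotientGroup.mk'_surjective U
  by_contra hcon
  push Not at hcon
  apply hn
  refine Transfer.Frobenius.hasNormalPComplement_of_forall_centralizes fun P hP _ y hy hy2 => ?_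
  by_contra hyc
  obtain ⟨R, ⟨hR, hyR, hRc⟩, hmin⟩ := Set.Finite.exists_minimal
    (s := {R : Subgroup (G ⧸ U) | IsPGroup 2 R ∧ y ∈ Subgroup.normalizer (R : Set (G ⧸ U)) ∧
      y ∉ Subgroup.centralizer (R : Set (G ⧸ U))}) (Set.toFinite _) ⟨P, hP, hy, hyc⟩
  clear hyc hP hy
  -- proper invariant subgroups are centralised
  have hprop : ∀ T : Subgroup (G ⧸ U), T ≤ R → (∀ t ∈ T, y * t * y⁻¹ ∈ T) →
      (∀ t ∈ T, Commute t y) ∨ R ≤ T := by
    intro T hTR hTy
    by_cases hc : y ∈ Subgroup.centralizer (T : Set (G ⧸ U))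
    · exact Or.inl fun t ht => Subgroup.mem_centralizer_iff.1 hc t ht
    refine Or.inr (hmin ⟨hR.to_le hTR, ?_, hc⟩ hTR)
    rw [Subgroup.mem_normalizer_iff_map_conj_eq]
    refine Subgroup.eq_of_le_of_card_ge ?_
      (Subgroup.card_map_of_injective (MulAut.conj y).injective).ge
    rintro _ ⟨t, ht, rfl⟩
    exact hTy t ht
  have hRy : ∀ t ∈ R, y * t * y⁻¹ ∈ R := fun t ht => (Subgroup.mem_normalizer_iff.1 hyR t).1 ht
  -- an iterated commutator not centralised by `y`
  obtain ⟨n, hn', he1⟩ : ∃ n ∈ R, ¬ Commute (iter y k n) y := by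
    by_contra h
    push Not at h
    refine hRc (Subgroup.mem_centralizer_iff.2 fun t ht => ?_)
    exact (commute_of_iter_eq_one hR hyR hy2 (k + 1) ht
      (commutatorElement_eq_one_iff_mul_comm.2 (h t ht).eq)).eq
  set e := iter y k n with he
  have heR : e ∈ R := iter_mem hyR k hn'
  -- lifting values
  have hQ : IsPGroup 2 (R.comap π) := by
    refine hR.comap_of_ker_isPGroup π ?_
    rw [hπ, QuotientGroup.ker_mk']
    exact hU
  obtain ⟨y0, hy0⟩ := hπs y
  obtain ⟨n0, hn0⟩ := hπs n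
  set e0 := iter y0 k n0 with he0
  have he0π : π e0 = e := by rw [he0, map_iter, hy0, hn0]
  have hnotinv : ∀ v ∈ Val k G, π v ∈ R → orderOf (π v) ≠ 2 := by
    intro v hv hvR
    have hvQ : v ∈ R.comap π := Subgroup.mem_comap.2 hvR
    obtain ⟨a, ha⟩ := IsPGroup.iff_orderOf.1 hQ ⟨v, hvQ⟩
    rw [Subgroup.orderOf_mk] at ha
    exact hcon v hv ⟨a, ha⟩
  have he2 : e ^ 2 ≠ 1 := by
    intro h
    refine hnotinv e0 (iter_mem_val y0 k n0) (he0π.symm ▸ heR) (orderOf_eq_prime ?_ ?_)
    · rw [he0π]; exact h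
    · rw [he0π]; intro h1; exact he1 (h1.symm ▸ Commute.one_left y)
  -- the elements centralised by `y` are central
  set C := R ⊓ Subgroup.centralizer {y} with hC
  have hCmem : ∀ t, t ∈ C ↔ t ∈ R ∧ Commute t y := fun t => by
    rw [hC, Subgroup.mem_inf, Subgroup.mem_centralizer_singleton_iff]; rfl
  haveI : Group.IsNilpotent R := hR.isNilpotent
  haveI : Nontrivial R := by
    refine (Subgroup.nontrivial_iff_ne_bot R).2 fun h => hRc ?_
    rw [Subgroup.mem_centralizer_iff]
    intro t ht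
    rw [h] at ht
    rw [Subgroup.mem_bot.1 ht, one_mul, mul_one]
  have hder : ∀ a ∈ R, ∀ b ∈ R, Commute ⁅a, b⁆ y := by
    intro a ha b hb
    have hlt : (commutator R).map R.subtype ≠ R := by
      intro h
      refine (Group.IsSolvable.commutator_lt_top_of_nontrivial R).ne
        (Subgroup.map_injective R.subtype_injective ?_)
      rw [h, ← MonoidHom.range_eq_map, Subgroup.range_subtype]
    have hinv : ∀ t ∈ (commutator R).map R.subtype, y * t * y⁻¹ ∈ (commutator R).map R.subtype := by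
      have hgen : (commutator R).map R.subtype = ⁅R, R⁆ := by
        rw [commutator_def, Subgroup.map_commutator, ← MonoidHom.range_eq_map, Subgroup.range_subtype]
      rw [hgen]
      have hmap : R.map (MulAut.conj y).toMonoidHom = R := Subgroup.mem_normalizer_iff_map_conj_eq.1 hyR
      intro t ht
      have := Subgroup.mem_map_of_mem (MulAut.conj y).toMonoidHom ht
      rw [Subgroup.map_commutator, hmap] at this
      exact this
    rcases hprop _ (Subgroup.map_subtype_le _) hinv with h | h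
    · refine h _ ?_
      exact ⟨⁅(⟨a, ha⟩ : R), ⟨b, hb⟩⁆, Subgroup.commutator_mem_commutator (Subgroup.mem_top _)
        (Subgroup.mem_top _), by simp⟩
    · exact absurd (le_antisymm (Subgroup.map_subtype_le _) h) hlt
  have hCc : ∀ c ∈ C, ∀ t ∈ R, Commute c t := by
    set D := R ⊓ Subgroup.centralizer (C : Set (G ⧸ U)) with hD
    have hDy : ∀ t ∈ D, y * t * y⁻¹ ∈ D := by
      intro t ht
      refine Subgroup.mem_inf.2 ⟨hRy t (Subgroup.mem_inf.1 ht).1,
        Subgroup.mem_centralizer_iff.2 fun c hc => ?_⟩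
      have h1 := ((hCmem c).1 hc).2.eq
      have h2 := Subgroup.mem_centralizer_iff.1 (Subgroup.mem_inf.1 ht).2 c hc
      calc c * (y * t * y⁻¹) = y * (c * t) * y⁻¹ := by rw [← mul_assoc, ← mul_assoc, h1]; group
        _ = y * (t * c) * y⁻¹ := by rw [h2]
        _ = y * t * y⁻¹ * c := by
          have h3 : Commute c y⁻¹ := ((hCmem c).1 hc).2.inv_right
          simp only [mul_assoc, h3.eq]
    have hd : ∀ m ∈ R, m⁻¹ * (y * m * y⁻¹) ∈ D := by
      intro m hm
      refine Subgroup.mem_inf.2 ⟨mul_mem (inv_mem hm) (hRy m hm),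
        Subgroup.mem_centralizer_iff.2 fun c hc => ?_⟩
      obtain ⟨hcR, hcy⟩ := (hCmem c).1 hc
      have h1 := (hder c hcR m hm).eq
      have h1' : y * ⁅c, m⁆ * y⁻¹ = ⁅c, m⁆ := by rw [← h1, mul_inv_cancel_right]
      rw [conjugate_commutatorElement, show y * c * y⁻¹ = c by rw [← hcy.eq, mul_inv_cancel_right]]
        at h1'
      set m' := y * m * y⁻¹ with hm'
      rw [commutatorElement_def, commutatorElement_def] at h1'
      have h4 : m' * c⁻¹ * m'⁻¹ = m * c⁻¹ * m⁻¹ := mul_left_cancel (a := c) (by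
        simpa [mul_assoc] using h1')
      have h5 : Commute c⁻¹ (m⁻¹ * m') := by
        show c⁻¹ * (m⁻¹ * m') = m⁻¹ * m' * c⁻¹
        calc c⁻¹ * (m⁻¹ * m') = m⁻¹ * (m * c⁻¹ * m⁻¹) * m' := by group
          _ = m⁻¹ * (m' * c⁻¹ * m'⁻¹) * m' := by rw [h4]
          _ = m⁻¹ * m' * c⁻¹ := by group
      exact (Commute.inv_left_iff.1 h5).eq
    rcases hprop D inf_le_left hDy with h | h
    · exfalso
      refine hRc (Subgroup.mem_centralizer_iff.2 fun t ht => ?_)
      refine (commute_of_iter_eq_one hR hyR hy2 2 ht ?_).eq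
      show ⁅⁅t, y⁆, y⁆ = 1
      rw [commutatorElement_eq_one_iff_mul_comm]
      have h6 : ⁅t, y⁆ = t⁻¹⁻¹ * (y * t⁻¹ * y⁻¹) := by rw [commutatorElement_def]; group
      rw [h6]
      exact (h _ (hd _ (inv_mem ht))).eq
    · exact fun c hc t ht =>
        Subgroup.mem_centralizer_iff.1 (Subgroup.mem_inf.1 (h ht)).2 c hc
  -- the centre
  set Z := R ⊓ Subgroup.centralizer (R : Set (G ⧸ U)) with hZ
  have hCZ : C ≤ Z := fun c hc => Subgroup.mem_inf.2
    ⟨((hCmem c).1 hc).1, Subgroup.mem_centralizer_iff.2 fun t ht => (hCc c hc t ht).eq.symm⟩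
  have hZy : ∀ t ∈ Z, y * t * y⁻¹ ∈ Z := by
    intro t ht
    refine Subgroup.mem_inf.2 ⟨hRy t (Subgroup.mem_inf.1 ht).1,
      Subgroup.mem_centralizer_iff.2 fun s hs => ?_⟩
    have hs' : y⁻¹ * s * y ∈ R := (Subgroup.mem_normalizer_iff.1 hyR _).2 (by
      simpa [mul_assoc] using (show s ∈ R from hs))
    calc s * (y * t * y⁻¹) = y * ((y⁻¹ * s * y) * t) * y⁻¹ := by group
      _ = y * (t * (y⁻¹ * s * y)) * y⁻¹ := by
        rw [Subgroup.mem_centralizer_iff.1 (Subgroup.mem_inf.1 ht).2 _ hs']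
      _ = y * t * y⁻¹ * s := by group
  have hcl2 : ∀ a ∈ R, ∀ b ∈ R, ∀ t ∈ R, Commute ⁅a, b⁆ t := by
    intro a ha b hb
    refine hCc _ ((hCmem _).2 ⟨?_, hder a ha b hb⟩)
    rw [commutatorElement_def]
    exact mul_mem (mul_mem (mul_mem ha hb) (inv_mem ha)) (inv_mem hb)
  -- the last power of `e` moved by `y`
  obtain ⟨t, htR, ht, ht2⟩ : ∃ t ∈ R, ¬ Commute t y ∧ Commute (t ^ 2) y := by
    obtain ⟨a, ha⟩ := IsPGroup.iff_orderOf.1 hR ⟨e, heR⟩
    rw [Subgroup.orderOf_mk] at ha
    have hex : ∃ j, Commute (e ^ 2 ^ j) y := ⟨a, by rw [← ha, pow_orderOf_eq_one]; exact Commute.one_left y⟩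
    classical
    have hpos : Nat.find hex ≠ 0 := fun h => he1 (by simpa [h] using Nat.find_spec hex)
    obtain ⟨j, hj⟩ := Nat.exists_eq_succ_of_ne_zero hpos
    refine ⟨e ^ 2 ^ j, pow_mem heR _, Nat.find_min hex (by omega), ?_⟩
    rw [← pow_mul, ← pow_succ]
    simpa [hj] using Nat.find_spec hex
  rcases hprop Z inf_le_left hZy with hZc | hRZ
  · -- class two: `e` is not central
    have heZ : e ∉ Z := fun h => he1 (hZc e h)
    have hsq : ∀ a ∈ R, ∀ b ∈ R, ∃ z ∈ Z, (a * b) ^ 2 = a ^ 2 * b ^ 2 * z := by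
      intro a ha b hb
      have hw : ⁅b⁻¹, a⁻¹⁆ ∈ Z := by
        refine Subgroup.mem_inf.2 ⟨?_, Subgroup.mem_centralizer_iff.2 fun s hs =>
          (hcl2 _ (inv_mem hb) _ (inv_mem ha) s hs).eq.symm⟩
        rw [commutatorElement_def]
        exact mul_mem (mul_mem (mul_mem (inv_mem hb) (inv_mem ha)) (by simpa using hb))
          (by simpa using ha)
      refine ⟨_, hw, ?_⟩
      have h1 := (hcl2 _ (inv_mem hb) _ (inv_mem ha) b hb).eq
      have h2 : b * a = a * b * ⁅b⁻¹, a⁻¹⁆ := by rw [commutatorElement_def]; group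
      calc (a * b) ^ 2 = a * (b * a) * b := by rw [sq]; group
        _ = a * a * b * (⁅b⁻¹, a⁻¹⁆ * b) := by rw [h2]; group
        _ = a ^ 2 * b ^ 2 * ⁅b⁻¹, a⁻¹⁆ := by rw [h1, sq, sq]; group
    let T : Subgroup (G ⧸ U) :=
      { carrier := {s | s ∈ R ∧ s ^ 2 ∈ Z}
        one_mem' := ⟨one_mem R, by rw [one_pow]; exact one_mem Z⟩
        mul_mem' := fun {a b} ha hb => ⟨mul_mem ha.1 hb.1, by
          obtain ⟨z, hz, h⟩ := hsq a ha.1 b hb.1
          rw [h]
          exact mul_mem (mul_mem ha.2 hb.2) hz⟩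
        inv_mem' := fun {a} ha => ⟨inv_mem ha.1, by rw [inv_pow]; exact inv_mem ha.2⟩ }
    have hTy : ∀ s ∈ T, y * s * y⁻¹ ∈ T := fun s hs =>
      ⟨hRy s hs.1, by rw [conj_pow]; exact hZy _ hs.2⟩
    have hTR : R ≤ T := by
      rcases hprop T (fun s hs => hs.1) hTy with h | h
      · exact absurd (h t ⟨htR, hCZ ((hCmem _).2 ⟨pow_mem htR 2, ht2⟩)⟩) ht
      · exact h
    have he2Z : e ^ 2 ∈ Z := (hTR heR).2
    obtain ⟨g, hgR, hg⟩ : ∃ g ∈ R, ¬ Commute e g := by
      by_contra h
      push Not at h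
      exact heZ (Subgroup.mem_inf.2 ⟨heR, Subgroup.mem_centralizer_iff.2 fun s hs => (h s hs).eq.symm⟩)
    set w := ⁅e, g⁆ with hw
    have hwc : w * e = e * w := (hcl2 e heR g hgR e heR).eq
    have hw2 : w ^ 2 = 1 := by
      have h1 : e * g * e⁻¹ = w * g := by rw [hw, commutatorElement_def]; group
      have h2 : e ^ 2 * g * (e ^ 2)⁻¹ = w ^ 2 * g := by
        calc e ^ 2 * g * (e ^ 2)⁻¹ = e * (e * g * e⁻¹) * e⁻¹ := by rw [sq]; group
          _ = (e * w) * g * e⁻¹ := by rw [h1]; simp only [mul_assoc]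
          _ = w * (e * g * e⁻¹) := by rw [← hwc]; simp only [mul_assoc]
          _ = w ^ 2 * g := by rw [h1, sq]; simp only [mul_assoc]
      rw [← Subgroup.mem_centralizer_iff.1 (Subgroup.mem_inf.1 he2Z).2 g hgR,
        mul_inv_cancel_right] at h2
      exact mul_eq_right.1 h2.symm
    obtain ⟨g0, hg0⟩ := hπs g
    have hv : π ⁅e0, g0⁆ = w := by rw [map_commutatorElement, he0π, hg0]
    refine hnotinv ⁅e0, g0⁆ (val_succ_subset k (mem_val_succ (iter_mem_val y0 k n0) g0)) ?_ ?_
    · rw [hv, hw, commutatorElement_def]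
      exact mul_mem (mul_mem (mul_mem heR hgR) (inv_mem heR)) (inv_mem hgR)
    · rw [hv]
      exact orderOf_eq_prime hw2 fun h => hg (commutatorElement_eq_one_iff_mul_comm.1 h)
  · -- abelian
    have habel : ∀ a ∈ R, ∀ b ∈ R, Commute a b := fun a ha b hb =>
      Subgroup.mem_centralizer_iff.1 (Subgroup.mem_inf.1 (hRZ hb)).2 a ha
    let T : Subgroup (G ⧸ U) :=
      { carrier := {s | s ∈ R ∧ s ^ 2 = 1}
        one_mem' := ⟨one_mem R, one_pow 2⟩
        mul_mem' := fun {a b} ha hb => ⟨mul_mem ha.1 hb.1, by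
          rw [(habel a ha.1 b hb.1).mul_pow, ha.2, hb.2, one_mul]⟩
        inv_mem' := fun {a} ha => ⟨inv_mem ha.1, by rw [inv_pow, ha.2, inv_one]⟩ }
    have hTy : ∀ s ∈ T, y * s * y⁻¹ ∈ T := fun s hs =>
      ⟨hRy s hs.1, by rw [conj_pow, hs.2, mul_one, mul_inv_cancel]⟩
    have hTR : R ≤ T := by
      rcases hprop T (fun s hs => hs.1) hTy with h | h
      · exfalso
        have hcR : ⁅t, y⁆ ∈ R := commutator_mem hyR htR
        have hct : ⁅t, y⁆ ∈ T := by
          refine ⟨hcR, ?_⟩
          have e1 : y * t * y⁻¹ = ⁅t, y⁆⁻¹ * t := by rw [commutatorElement_def]; group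
          have e2 : (y * t * y⁻¹) ^ 2 = t ^ 2 := by
            rw [conj_pow, ← ht2.eq, mul_inv_cancel_right]
          rw [e1, ((habel _ (inv_mem hcR) t htR)).mul_pow, inv_pow] at e2
          exact inv_eq_one.1 (mul_eq_right.1 e2)
        exact ht (commute_of_iter_eq_one hR hyR hy2 2 htR
          (commutatorElement_eq_one_iff_mul_comm.2 (h _ hct).eq))
      · exact h
    exact he2 (hTR heR).2

/-- A perfect group with the order condition is trivial, under the odd order theorem. -/
theorem isSolvable_of_perfect (hFT : Basic.OddOrderSolvable.{u}) {k : ℕ} (h : IsGood k G)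
    (hperf : commutator G = ⊤) : Group.IsSolvable G := by
  haveI : Fact (Nat.Prime 2) := ⟨Nat.prime_two⟩
  set U := Cfsg.pCore 2 G with hUdef
  have hU : IsPGroup 2 U := Cores.pCore_isPGroup 2
  set S := {v : G | v ∈ Val k G ∧ ∃ q : ℕ, q.Prime ∧ q ≠ 2 ∧ ∃ a, orderOf v = q ^ a} with hS
  set W := Subgroup.normalClosure S with hW
  have hWU : W ≤ Subgroup.centralizer (U : Set G) := by
    refine Subgroup.normalClosure_le_normal fun v hv => Subgroup.mem_centralizer_iff.2 fun z hz => ?_
    obtain ⟨hv1, q, hq, hq2, a, ha⟩ := hv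
    exact (h.commute hU hv1 (Subgroup.normalizer_eq_top U ▸ Subgroup.mem_top _)
      (ha ▸ ((Nat.coprime_primes hq Nat.prime_two).2 hq2).pow_left a) hz).eq
  have hWtop : W = ⊤ := by
    have key : ∀ q : ℕ, q.Prime → q ≠ 2 → ¬ q ∣ Nat.card (G ⧸ W) := by
      intro q hq hq2
      haveI := Fact.mk hq
      have hN := hasNormalPComplement_quotient (k := k) (q := q) W
        fun v hv ha => Subgroup.subset_normalClosure ⟨hv, q, hq, hq2, ha⟩
      set R := Cfsg.pResidual q (G ⧸ W) with hR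
      have hperf' : commutator (G ⧸ W) = ⊤ := by
        rw [commutator_def, ← MonoidHom.range_eq_top.2 (QuotientGroup.mk'_surjective W),
          MonoidHom.range_eq_map, ← Subgroup.map_commutator, ← commutator_def, hperf]
      haveI : Group.IsNilpotent ((G ⧸ W) ⧸ R) :=
        (Transfer.PResidual.isPGroup_quotient (p := q) (G := G ⧸ W)).isNilpotent
      have hRtop := eq_top_of_solvable_quotient hperf' R inferInstance
      have := Transfer.PResidual.hasNormalPComplement_iff_not_dvd.1 hN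
      rwa [← hR, hRtop, Subgroup.card_top] at this
    haveI : Group.IsNilpotent (G ⧸ W) := by
      refine IsPGroup.isNilpotent (p := 2)
        (IsPGroup.of_card (n := (Nat.card (G ⧸ W)).factorization 2) ?_)
      have h1 := Nat.eq_prime_pow_of_unique_prime_dvd (p := 2) Nat.card_pos.ne'
        (fun {d} hd hdd => by by_contra h2; exact key d hd h2 hdd : ∀ {d : ℕ}, d.Prime → d ∣ Nat.card (G ⧸ W) → d = 2)
      conv_rhs => rw [h1, Nat.Prime.factorization_pow Nat.prime_two, Finsupp.single_eq_same]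
      exact h1
    exact eq_top_of_solvable_quotient hperf W inferInstance
  rw [hWtop] at hWU
  haveI : U.Normal := inferInstance
  by_contra hns
  have hnc : ¬ Cfsg.HasNormalPComplement 2 (G ⧸ U) := by
    intro hc
    haveI := isSolvable_of_complement hFT (G ⧸ U) hc
    haveI : Group.IsNilpotent U := hU.isNilpotent
    exact hns ((Group.isSolvable_iff_subgroup_quotient U).2 ⟨inferInstance, inferInstance⟩)
  obtain ⟨v, hv, ⟨a, ha⟩, hv2⟩ := exists_value k U hU hnc
  set π := QuotientGroup.mk' U with hπ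
  obtain ⟨hb, hb1, hbodd, hbinv⟩ := Involutions.BaerSuzuki.exists_odd_inverted (π v) hv2 fun N hN hN2 hmem => by
    haveI := hN
    have := Cores.le_pCore hN2 hmem
    rw [Cores.pCore_quotient_pCore, Subgroup.mem_bot] at this
    rw [this, orderOf_one] at hv2
    omega
  obtain ⟨h0, rfl⟩ := QuotientGroup.mk'_surjective U hb
  obtain ⟨u, hu, hvh⟩ : ∃ u ∈ U, v * h0 * v⁻¹ = h0⁻¹ * u := by
    refine ⟨h0 * (v * h0 * v⁻¹), ?_, by group⟩
    rw [← QuotientGroup.eq_one_iff]
    show π (h0 * (v * h0 * v⁻¹)) = 1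
    rw [map_mul, map_mul, map_mul, map_inv, hbinv, mul_inv_cancel]
  obtain ⟨b, hb2⟩ := hU ⟨u, hu⟩
  have hu2 : u ^ 2 ^ b = 1 := congrArg Subtype.val hb2
  obtain ⟨c, hc⟩ := IsPGroup.iff_card.1 hU
  set d := b + c with hd
  set z := h0 ^ 2 ^ d with hz
  have hzinv : v * z * v⁻¹ = z⁻¹ := by
    have hcu : Commute h0⁻¹ u :=
      ((Subgroup.mem_centralizer_iff.1 (hWU (Subgroup.mem_top h0⁻¹)) u hu)).symm
    rw [hz, ← conj_pow, hvh, hcu.mul_pow, hd, pow_add 2 b c, pow_mul u, hu2, one_pow, mul_one, inv_pow]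
  have hzodd : Odd (orderOf z) := by
    refine hbodd.of_dvd_nat (orderOf_dvd_of_pow_eq_one ?_)
    have h1 : h0 ^ orderOf (π h0) ∈ U := by
      rw [← QuotientGroup.eq_one_iff]
      show π (h0 ^ orderOf (π h0)) = 1
      rw [map_pow, pow_orderOf_eq_one]
    have h2 : (h0 ^ orderOf (π h0)) ^ 2 ^ c = 1 := by
      rw [← hc]; exact congrArg Subtype.val (pow_card_eq_one' (x := (⟨_, h1⟩ : U)))
    rw [hz, ← pow_mul, mul_comm, pow_mul, hd, pow_add, mul_comm, pow_mul, h2, one_pow]
  have hz1 : orderOf z ≠ 1 := by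
    rw [Ne, orderOf_eq_one_iff]
    intro h1
    have h2 := congrArg π h1
    rw [hz, map_pow, map_one] at h2
    exact hb1 (orderOf_eq_one_iff.1 (Nat.eq_one_of_dvd_coprimes
      ((Nat.coprime_two_right.2 hbodd).pow_right d) dvd_rfl (orderOf_dvd_of_pow_eq_one h2)))
  obtain ⟨p, hp, hpd⟩ := Nat.exists_prime_and_dvd hz1
  haveI := Fact.mk hp
  have hp2 : p ≠ 2 := fun h2 => Nat.not_even_iff_odd.2 hzodd (even_iff_two_dvd.2 (h2 ▸ hpd))
  set x := z ^ (orderOf z / p) with hx
  have hxo : orderOf x = p := orderOf_pow_orderOf_div (orderOf_pos z).ne' hpd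
  have hxinv : v * x * v⁻¹ = x⁻¹ := by rw [hx, ← conj_pow, hzinv, inv_pow]
  have hnorm : v ∈ Subgroup.normalizer ((Subgroup.zpowers x : Subgroup G) : Set G) := by
    rw [Subgroup.mem_normalizer_iff_map_conj_eq, MonoidHom.map_zpowers]
    show Subgroup.zpowers (v * x * v⁻¹) = Subgroup.zpowers x
    rw [hxinv, Subgroup.zpowers_inv]
  have hcx := h.commute (q := p) (IsPGroup.of_card (n := 1) (by rw [Nat.card_zpowers, hxo, pow_one]))
    hv hnorm (ha ▸ ((Nat.coprime_primes Nat.prime_two hp).2 (Ne.symm hp2)).pow_left a)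
    (Subgroup.mem_zpowers x)
  rw [← hcx.eq, mul_inv_cancel_right] at hxinv
  have : x ^ 2 = 1 := by rw [sq]; nth_rewrite 2 [hxinv]; exact mul_inv_cancel x
  have := orderOf_dvd_of_pow_eq_one this
  rw [hxo] at this
  exact hp2 ((Nat.prime_dvd_prime_iff_eq hp Nat.prime_two).1 this)

end Perfect

/-- The order condition forces solvability, under the odd order theorem. -/
theorem isSolvable_of_isGood (hFT : Basic.OddOrderSolvable.{u}) (k : ℕ) :
    ∀ (n : ℕ) (G : Type u) [Group G] [Finite G], Nat.card G ≤ n → IsGood k G → Group.IsSolvable G := by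
  intro n
  induction n with
  | zero => intro G _ _ h; exact absurd h (by have := Nat.card_pos (α := G); omega)
  | succ n ih =>
    intro G _ _ hcard h
    by_cases hperf : commutator G = ⊤
    · exact isSolvable_of_perfect hFT h hperf
    have hlt : Nat.card (commutator G) < Nat.card G := by
      refine lt_of_le_of_ne (Subgroup.card_le_card_group _) fun he => hperf (Subgroup.eq_top_of_card_eq _ he)
    haveI := ih (commutator G) (by omega) (h.subgroup _)
    haveI : Group.IsSolvable (G ⧸ commutator G) := inferInstanceAs (Group.IsSolvable (Abelianization G))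
    exact (Group.isSolvable_iff_subgroup_quotient (commutator G)).2 ⟨inferInstance, inferInstance⟩

/-- S3900. -/
theorem main (hFT : Basic.OddOrderSolvable.{u}) {G : Type u} [Group G] [Finite G] (k : ℕ) :
    Group.IsNilpotent ↥((⊤ : Subgroup G).lowerCentralSeries k) ↔
      ∀ x y : G, (∃ f : Fin (k + 1) → G, x = ((List.ofFn f).tail).foldl (fun a b => a * b * a⁻¹ * b⁻¹) (f 0)) → (∃ f : Fin (k + 1) → G, y = ((List.ofFn f).tail).foldl (fun a b => a * b * a⁻¹ * b⁻¹) (f 0)) → (orderOf x).Coprime (orderOf y) →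
        (∀ r : ℕ, r.Prime → r ∣ orderOf x * orderOf y → r ∣ orderOf (x * y)) ∨ orderOf x * orderOf y ≤ orderOf (x * y) := by
  constructor
  · intro hnil x y hx hy hco
    right
    have hxγ := val_subset_lowerCentralSeries k ((mem_val_iff k x).2 hx)
    have hyγ := val_subset_lowerCentralSeries k ((mem_val_iff k y).2 hy)
    have hc : Commute x y := by
      have := Transfer.Frobenius.commute_of_coprime_of_isNilpotent
        (a := (⟨x, hxγ⟩ : (⊤ : Subgroup G).lowerCentralSeries k)) (b := ⟨y, hyγ⟩)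
        (by simpa [Subgroup.orderOf_mk] using hco)
      exact congrArg Subtype.val this
    rw [hc.orderOf_mul_eq_mul_orderOf_of_coprime hco]
  · intro hcond
    have hgood : IsGood k G := by
      intro x hx y hy hco he
      by_contra hy1
      obtain ⟨r, hr, hrd⟩ := Nat.exists_prime_and_dvd (fun h1 => hy1 (orderOf_eq_one_iff.1 h1))
      rcases hcond y x ((mem_val_iff k y).1 hy) ((mem_val_iff k x).1 hx) hco.symm with h1 | h1
      · have h2 := h1 r hr (hrd.mul_right _)
        rw [he] at h2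
        exact hr.ne_one (Nat.eq_one_of_dvd_coprimes hco h2 hrd)
      · rw [he] at h1
        have hx0 := orderOf_pos x
        have hy0 : 2 ≤ orderOf y := hr.two_le.trans (Nat.le_of_dvd (orderOf_pos y) hrd)
        nlinarith
    haveI := isSolvable_of_isGood hFT k (Nat.card G) G le_rfl hgood
    exact Cores.isNilpotent_of_le hgood.lowerCentralSeries_le_fitting Cores.fittingSubgroup_isNilpotent

end Cfsg.Agent.Lib.FTDeps.Row3900
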