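import Mathlib
import Cfsg.Prelude.Def_OddOrderLocal
import Cfsg.Prelude.Def_HallClasses
import Cfsg.Agent.Lib.FTDeps.Basic
import Cfsg.Agent.Lib.Coprime.Conjugacy
import Cfsg.Agent.Lib.Hall.Basic

/-!
# S4310 modulo the odd order theorem

The class `C_π` is closed under extensions.
-/

set_option autoImplicit false
set_option linter.style.haveILetI false

open scoped Pointwise
open Subgroup

namespace Cfsg.Agent.Lib.FTDeps.Row4310

universe u

variable {G : Type u} [Group G]

theorem smul_eq_map (g : G) (H : Subgroup G) :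
    MulAut.conj g • H = H.map (MulAut.conj g).toMonoidHom := rfl

/-- Two groups of coprime orders: one of them is solvable. -/
theorem solvable_or_of_coprime (hFT : Basic.OddOrderSolvable.{u}) (A B : Type u) [Group A]
    [Finite A] [Group B] [Finite B] (h : (Nat.card A).Coprime (Nat.card B)) :
    Group.IsSolvable A ∨ Group.IsSolvable B := by
  rcases Nat.even_or_odd (Nat.card B) with hb | hb
  · rcases Nat.even_or_odd (Nat.card A) with ha | ha
    · exfalso
      have := Nat.dvd_gcd ha.two_dvd hb.two_dvd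
      rw [h.gcd_eq_one] at this
      norm_num at this
    · exact Or.inl (hFT A ha)
  · exact Or.inr (hFT B hb)

/-- `L` is a Hall `π`-subgroup of the subgroup `A`, in internal form. -/
theorem hallOf_iff {π : Set ℕ} {A L : Subgroup G} (hle : L ≤ A) :
    IsPiHall π (L.subgroupOf A) ↔ IsPiHallOf π L A := by
  unfold IsPiHall IsPiHallOf
  rw [Nat.card_congr (Subgroup.subgroupOfEquivOfLe hle).toEquiv]
  simp only [hle, true_and]
  rfl

/-- Existence and conjugacy, transported into the ambient group. -/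
theorem exists_hallOf {π : Set ℕ} {A : Subgroup G} (hA : IsEPiGroup π ↥A) :
    ∃ L : Subgroup G, IsPiHallOf π L A := by
  obtain ⟨L, hL⟩ := hA
  refine ⟨L.map A.subtype, (hallOf_iff (Subgroup.map_subtype_le L)).1 ?_⟩
  rwa [subgroupOf, comap_map_eq_self_of_injective A.subtype_injective]

theorem conj_hallOf {π : Set ℕ} {A : Subgroup G} (hA : IsCPiGroup π ↥A) {L L' : Subgroup G}
    (hL : IsPiHallOf π L A) (hL' : IsPiHallOf π L' A) : ∃ a ∈ A, MulAut.conj a • L = L' := by
  obtain ⟨a, ha⟩ := hA.2 _ _ ((hallOf_iff hL.1).2 hL) ((hallOf_iff hL'.1).2 hL')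
  refine ⟨a, a.2, ?_⟩
  have h := congrArg (Subgroup.map A.subtype) ha
  rw [subgroupOf_map_subtype, inf_of_le_left hL'.1] at h
  rw [h, Subgroup.map_map, smul_eq_map]
  conv_lhs => rw [← inf_of_le_left hL.1, ← subgroupOf_map_subtype, Subgroup.map_map]
  rfl

/-- A conjugate of a Hall subgroup of a normal subgroup is one too. -/
theorem hallOf_conj {π : Set ℕ} {A L : Subgroup G} [A.Normal] (hL : IsPiHallOf π L A) (g : G) :
    IsPiHallOf π (MulAut.conj g • L) A := by
  have hA : MulAut.conj g • A = A := Subgroup.Normal.conj_smul_eq_self g A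
  refine ⟨?_, ?_, ?_⟩
  · rw [← hA]; exact (Subgroup.pointwise_smul_le_pointwise_smul_iff).2 hL.1
  · rw [Hall.card_conj_smul]; exact hL.2.1
  · rw [← hA, smul_eq_map, smul_eq_map,
      Subgroup.relIndex_map_map_of_injective _ _ (MulAut.conj g).injective]
    exact hL.2.2

/-- The Frattini argument for Hall subgroups of a normal `C_π` subgroup. -/
theorem exists_mul_normalizer {π : Set ℕ} {A L : Subgroup G} [A.Normal] (hA : IsCPiGroup π ↥A)
    (hL : IsPiHallOf π L A) (g : G) :
    ∃ a ∈ A, ∃ n ∈ Subgroup.normalizer (L : Set G), g = a * n := by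
  obtain ⟨a, ha, he⟩ := conj_hallOf hA hL (hallOf_conj hL g)
  refine ⟨a, ha, a⁻¹ * g, ?_, by group⟩
  refine Subgroup.mem_normalizer_iff_map_conj_eq.2 ?_
  show MulAut.conj (a⁻¹ * g) • L = L
  rw [map_mul, mul_smul, ← he, map_inv, inv_smul_smul]

/-- A normal `π'`-by-`π` quotient situation: the existence half. -/
theorem existence [Finite G] {π : Set ℕ} {A : Subgroup G} [A.Normal] (hA : IsCPiGroup π ↥A)
    (hQ : IsEPiGroup π (G ⧸ A)) : IsEPiGroup π G := by
  obtain ⟨L, hL⟩ := exists_hallOf hA.1
  obtain ⟨Xb, hXb⟩ := hQ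
  let q := QuotientGroup.mk' A
  have hq : Function.Surjective q := QuotientGroup.mk'_surjective A
  let X := Xb.comap q
  have hAX : A ≤ X := fun a ha => by
    show q a ∈ Xb
    have : q a = 1 := (QuotientGroup.eq_one_iff a).2 ha
    rw [this]; exact Xb.one_mem
  let N := Subgroup.normalizer (L : Set G)
  let M := X ⊓ N
  have hLM : L ≤ M := le_inf (hL.1.trans hAX) le_normalizer
  haveI hLn : (L.subgroupOf M).Normal :=
    (Subgroup.normal_subgroupOf_iff_le_normalizer hLM).2 inf_le_right
  have hMA : M ⊔ A = X := by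
    refine le_antisymm (sup_le inf_le_left hAX) fun x hx => ?_
    obtain ⟨a, ha, n, hn, rfl⟩ := exists_mul_normalizer hA hL x
    have : n ∈ X := by
      have h := X.mul_mem (X.inv_mem (hAX ha)) hx
      rwa [inv_mul_cancel_left] at h
    exact mul_mem (mem_sup_right ha) (mem_sup_left ⟨this, hn⟩)
  let D := A ⊓ M
  have hLD : L ≤ D := le_inf hL.1 hLM
  let f := QuotientGroup.mk' (L.subgroupOf M)
  have hf : Function.Surjective f := QuotientGroup.mk'_surjective _
  let DQ := (D.subgroupOf M).map f
  haveI : DQ.Normal := by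
    have : (D.subgroupOf M).Normal := by
      show ((A ⊓ M).subgroupOf M).Normal
      rw [inf_subgroupOf_right]; infer_instance
    exact this.map f hf
  have hker : f.ker ≤ D.subgroupOf M := by
    rw [QuotientGroup.ker_mk']
    exact fun x hx => hLD hx
  have hDind : DQ.index = D.relIndex M := by
    show (Subgroup.map f (D.subgroupOf M)).index = (D.subgroupOf M).index
    exact Subgroup.index_map_eq _ hf hker
  have hDX : D.relIndex M = A.relIndex X := by
    show (A ⊓ M).relIndex M = _
    rw [Subgroup.inf_relIndex_right, ← hMA, Subgroup.relIndex_sup_right]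
  have hX1 : A.relIndex X = Nat.card Xb := by
    have h1 : X.index = Xb.index := Subgroup.index_comap_of_surjective Xb hq
    have h2 : A.relIndex X * X.index = A.index := Subgroup.relIndex_mul_index hAX
    have h3 : Nat.card Xb * Xb.index = A.index := Subgroup.card_mul_index Xb
    rw [h1, ← h3] at h2
    exact Nat.eq_of_mul_eq_mul_right (Nat.pos_of_ne_zero Subgroup.index_ne_zero_of_finite) h2
  have hQcard : Nat.card (M ⧸ L.subgroupOf M) = L.relIndex M := rfl
  have hDcard : Nat.card DQ = L.relIndex D := by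
    have h1 : Nat.card DQ * DQ.index = L.relIndex M := (Subgroup.card_mul_index DQ).trans hQcard
    rw [hDind, ← Subgroup.relIndex_mul_relIndex L D M hLD inf_le_right] at h1
    refine Nat.eq_of_mul_eq_mul_right (Nat.pos_of_ne_zero ?_) h1
    rw [← hDind]; exact Subgroup.index_ne_zero_of_finite
  have hDdvd : L.relIndex D ∣ L.relIndex A :=
    Dvd.intro _ (Subgroup.relIndex_mul_relIndex L D A hLD inf_le_left)
  have hcop : (Nat.card DQ).Coprime DQ.index := by
    rw [hDind, hDX, hX1, hDcard]
    exact (Hall.coprime_of_piGroup hXb.1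
      (fun p hp hpi hd => hL.2.2 p hp hpi (hd.trans hDdvd))).symm
  obtain ⟨C, hC⟩ := Subgroup.exists_right_complement'_of_coprime hcop
  have hCcard : Nat.card C = Nat.card Xb := by
    rw [← hC.symm.index_eq_card, hDind, hDX, hX1]
  let Y' := C.comap f
  have hY' : Nat.card Y' = Nat.card L * Nat.card Xb := by
    have h1 : Nat.card Y' * Y'.index = Nat.card M := Subgroup.card_mul_index Y'
    have h2 : Y'.index = C.index := Subgroup.index_comap_of_surjective C hf
    have h3 : Nat.card (L.subgroupOf M) * (L.subgroupOf M).index = Nat.card M :=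
      Subgroup.card_mul_index _
    rw [Nat.card_congr (Subgroup.subgroupOfEquivOfLe hLM).toEquiv] at h3
    have h4 : Nat.card C * C.index = (L.subgroupOf M).index := Subgroup.card_mul_index C
    rw [h2, ← h3, ← h4, hCcard, ← mul_assoc] at h1
    exact Nat.eq_of_mul_eq_mul_right (Nat.pos_of_ne_zero Subgroup.index_ne_zero_of_finite) h1
  refine ⟨Y'.map M.subtype, ?_, ?_⟩
  · intro p hp hd
    rw [Subgroup.card_subtype, hY'] at hd
    rcases hp.dvd_mul.1 hd with h | h
    · exact hL.2.1 p hp h
    · exact hXb.1 p hp h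
  · intro p hp hpi hd
    have h1 : Nat.card (Y'.map M.subtype) * (Y'.map M.subtype).index = Nat.card G :=
      Subgroup.card_mul_index _
    rw [Subgroup.card_subtype, hY', ← Subgroup.card_mul_index A,
      show Nat.card A = Nat.card L * L.relIndex A from ?_,
      show A.index = Nat.card Xb * Xb.index from (Subgroup.card_mul_index Xb).symm] at h1
    · have h2 : (Y'.map M.subtype).index = L.relIndex A * Xb.index := by
        refine Nat.eq_of_mul_eq_mul_left
          (Nat.pos_of_ne_zero (mul_ne_zero Nat.card_pos.ne' Nat.card_pos.ne')) (h1.trans ?_)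
        ring
      rw [h2] at hd
      rcases hp.dvd_mul.1 hd with h | h
      · exact hL.2.2 p hp hpi h
      · exact hXb.2 p hp hpi h
    · rw [← Nat.card_congr (Subgroup.subgroupOfEquivOfLe hL.1).toEquiv]
      exact (Subgroup.card_mul_index _).symm

/-- Inside an ambient group: two Hall subgroups with the same product with `A` and the same
intersection with `A` are conjugate. -/
theorem conj_of_same [Finite G] (hFT : Basic.OddOrderSolvable.{u}) {π : Set ℕ} {A : Subgroup G}
    [A.Normal] {H K : Subgroup G} (hH : IsPiHall π H) (hK : IsPiHall π K)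
    (hsup : H ⊔ A = K ⊔ A) (hinf : H ⊓ A = K ⊓ A) : ∃ g : G, MulAut.conj g • H = K := by
  let L := H ⊓ A
  let N := Subgroup.normalizer (L : Set G)
  have hnorm : ∀ T : Subgroup G, T ≤ Subgroup.normalizer ((T ⊓ A : Subgroup G) : Set G) := by
    intro T
    refine Subgroup.le_normalizer_iff.2 fun t ht k hk => ?_
    exact ⟨T.mul_mem (T.mul_mem ht hk.1) (T.inv_mem ht),
      (inferInstance : A.Normal).conj_mem k hk.2 t⟩
  have hHN : H ≤ N := hnorm H
  have hKN : K ≤ N := by
    have := hnorm K
    rwa [← hinf] at this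
  let M := (H ⊔ A) ⊓ N
  have hHM : H ≤ M := le_inf le_sup_left hHN
  have hKM : K ≤ M := le_inf (hsup ▸ le_sup_left) hKN
  have hLM : L ≤ M := inf_le_left.trans hHM
  have hLK : L ≤ K := by
    show H ⊓ A ≤ K
    rw [hinf]; exact inf_le_left
  haveI hLn : (L.subgroupOf M).Normal :=
    (Subgroup.normal_subgroupOf_iff_le_normalizer hLM).2 inf_le_right
  let f := QuotientGroup.mk' (L.subgroupOf M)
  have hf : Function.Surjective f := QuotientGroup.mk'_surjective _
  let D := A ⊓ M
  haveI hDn : (D.subgroupOf M).Normal := by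
    show ((A ⊓ M).subgroupOf M).Normal
    rw [Subgroup.inf_subgroupOf_right]; infer_instance
  let DQ := (D.subgroupOf M).map f
  haveI : DQ.Normal := hDn.map f hf
  let HQ := (H.subgroupOf M).map f
  let KQ := (K.subgroupOf M).map f
  have hcardT : ∀ T : Subgroup G, L ≤ T → T ≤ M →
      Nat.card ((T.subgroupOf M).map f) = L.relIndex T := by
    intro T hLT hTM
    have hk : f.ker ≤ T.subgroupOf M := by
      rw [QuotientGroup.ker_mk']; exact fun x hx => hLT hx
    have h1 : Nat.card ((T.subgroupOf M).map f) * ((T.subgroupOf M).map f).index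
        = L.relIndex M := Subgroup.card_mul_index _
    rw [Subgroup.index_map_eq _ hf hk, ← Subgroup.relIndex_mul_relIndex L T M hLT hTM] at h1
    exact Nat.eq_of_mul_eq_mul_right (Nat.pos_of_ne_zero Subgroup.index_ne_zero_of_finite) h1
  have hLD : L ≤ D := le_inf inf_le_right hLM
  have hDdvd : L.relIndex D ∣ L.relIndex A :=
    Dvd.intro _ (Subgroup.relIndex_mul_relIndex L D A hLD inf_le_left)
  have hLA : ∀ p : ℕ, p.Prime → p ∈ π → ¬ p ∣ L.relIndex A := by
    have h := (Hall.isPiHall_subgroupOf_normal hH A).2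
    intro p hp hpi
    show ¬ p ∣ (H ⊓ A).relIndex A
    rw [Subgroup.inf_relIndex_right]
    exact h p hp hpi
  have hcop : (Nat.card HQ).Coprime (Nat.card DQ) := by
    show (Nat.card ((H.subgroupOf M).map f)).Coprime (Nat.card ((D.subgroupOf M).map f))
    rw [hcardT H inf_le_left hHM, hcardT D hLD inf_le_right]
    exact Hall.coprime_of_piGroup
      (fun p hp hd => hH.1 p hp (hd.trans (Subgroup.relIndex_dvd_card _ _)))
      (fun p hp hpi hd => hLA p hp hpi (hd.trans hDdvd))
  have hle : KQ ≤ HQ ⊔ DQ := by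
    show (K.subgroupOf M).map f ≤ (H.subgroupOf M).map f ⊔ (D.subgroupOf M).map f
    rw [← Subgroup.map_sup]
    refine Subgroup.map_mono fun x hx => ?_
    have hxX : (x : G) ∈ ((H ⊔ A : Subgroup G) : Set G) := x.2.1
    rw [Subgroup.mul_normal] at hxX
    obtain ⟨h, hh, a, ha, he⟩ := hxX
    have haM : a ∈ M := by
      have := M.mul_mem (M.inv_mem (hHM hh)) x.2
      rwa [← he, inv_mul_cancel_left] at this
    have : x = (⟨h, hHM hh⟩ : M) * ⟨a, haM⟩ := Subtype.ext he.symm
    rw [this]
    exact mul_mem (mem_sup_left hh) (mem_sup_right ⟨ha, haM⟩)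
  have hcard : Nat.card KQ = Nat.card HQ := by
    show Nat.card ((K.subgroupOf M).map f) = Nat.card ((H.subgroupOf M).map f)
    rw [hcardT H inf_le_left hHM, hcardT K hLK hKM]
    have h1 : ∀ T : Subgroup G, L ≤ T → Nat.card L * L.relIndex T = Nat.card T := by
      intro T hT
      rw [← Nat.card_congr (Subgroup.subgroupOfEquivOfLe hT).toEquiv]
      exact Subgroup.card_mul_index _
    refine Nat.eq_of_mul_eq_mul_left (Nat.card_pos (α := L)) ?_
    rw [h1 K hLK, h1 H inf_le_left, Hall.isPiHall_card_eq hH hK]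
  obtain ⟨k, hk, hkeq⟩ := Coprime.exists_conj_eq_of_coprime Subgroup.le_normalizer_of_normal hcop
    (solvable_or_of_coprime hFT _ _ hcop) hle hcard
  obtain ⟨m, _, rfl⟩ := hk
  refine ⟨m, ?_⟩
  have h1 : ((H.subgroupOf M).map (MulAut.conj m).toMonoidHom).map f
      = (K.subgroupOf M).map f := by
    rw [← show MulAut.conj (f m) • HQ = (K.subgroupOf M).map f from hkeq, smul_eq_map,
      Subgroup.map_map, Subgroup.map_map]
    congr 1
  rw [Subgroup.map_eq_map_iff, QuotientGroup.ker_mk'] at h1
  have hK' : L.subgroupOf M ≤ K.subgroupOf M := fun x hx => hLK hx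
  have hH' : L.subgroupOf M ≤ (H.subgroupOf M).map (MulAut.conj m).toMonoidHom := by
    intro x hx
    refine ⟨MulAut.conj m⁻¹ x, ?_, by simp [mul_assoc]⟩
    show ((MulAut.conj m⁻¹ x : M) : G) ∈ H
    have := ((inferInstance : (L.subgroupOf M).Normal).conj_mem x hx m⁻¹)
    exact (inf_le_left : L ≤ H) this
  rw [sup_eq_left.2 hH', sup_eq_left.2 hK'] at h1
  have h2 := congrArg (Subgroup.map M.subtype) h1
  rw [Subgroup.subgroupOf_map_subtype, inf_eq_left.2 hKM, Subgroup.map_map] at h2
  rw [← h2, smul_eq_map]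
  conv_lhs => rw [← inf_eq_left.2 hHM, ← Subgroup.subgroupOf_map_subtype, Subgroup.map_map]
  rfl

/-- S4310 given the odd order theorem. -/
theorem main [Finite G] (hFT : Basic.OddOrderSolvable.{u}) (π : Set ℕ) (A : Subgroup G) [A.Normal]
    (hA : IsCPiGroup π ↥A) (hQ : IsCPiGroup π (G ⧸ A)) : IsCPiGroup π G := by
  refine ⟨existence hA hQ.1, fun H K hH hK => ?_⟩
  obtain ⟨gb, hgb⟩ := hQ.2 _ _ (Hall.isPiHall_map hH _ (QuotientGroup.mk'_surjective A))
    (Hall.isPiHall_map hK _ (QuotientGroup.mk'_surjective A))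
  obtain ⟨g, rfl⟩ := QuotientGroup.mk'_surjective A gb
  let H₁ := MulAut.conj g • H
  have hH₁ : IsPiHall π H₁ := Hall.isPiHall_conj hH g
  have hsup : H₁ ⊔ A = K ⊔ A := by
    have h : H₁.map (QuotientGroup.mk' A) = K.map (QuotientGroup.mk' A) := by
      rw [hgb]
      show (H.map (MulAut.conj g).toMonoidHom).map (QuotientGroup.mk' A) = _
      rw [Subgroup.map_map, Subgroup.map_map]
      congr 1
    rwa [Subgroup.map_eq_map_iff, QuotientGroup.ker_mk'] at h
  have hof : ∀ T : Subgroup G, IsPiHall π T → IsPiHallOf π (T ⊓ A) A := by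
    intro T hT
    refine (hallOf_iff inf_le_right).1 ?_
    rw [Subgroup.inf_subgroupOf_right]
    exact Hall.isPiHall_subgroupOf_normal hT A
  obtain ⟨a, ha, hae⟩ := conj_hallOf hA (hof H₁ hH₁) (hof K hK)
  have hA' : MulAut.conj a • A = A := Subgroup.Normal.conj_smul_eq_self a A
  obtain ⟨x, hx⟩ := conj_of_same hFT (A := A) (Hall.isPiHall_conj hH₁ a) hK
    (by
      have : MulAut.conj a • (H₁ ⊔ A) = H₁ ⊔ A := Subgroup.conj_smul_eq_self_of_mem
        (Subgroup.mem_sup_right ha)
      rw [Subgroup.smul_sup, hA'] at this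
      rw [this, hsup])
    (by rw [← hae, Subgroup.smul_inf, hA'])
  refine ⟨x * (a * g), ?_⟩
  show K = MulAut.conj (x * (a * g)) • H
  rw [map_mul, map_mul, mul_smul, mul_smul, hx]

end Cfsg.Agent.Lib.FTDeps.Row4310
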