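import Cfsg.Agent.Lib.FTDeps.Basic
import Cfsg.Agent.Lib.Hall.Basic

/-!
# Conjugacy of complements of a normal Hall subgroup

With the odd order theorem as a hypothesis, one of the two factors is solvable.
-/

set_option autoImplicit false
set_option linter.style.haveILetI false

namespace Cfsg.Agent.Lib.FTDeps.SchurConj

open Cfsg.Agent.Lib

universe u

variable {G : Type u} [Group G]

theorem map_conj_map_conj (H : Subgroup G) (g h : G) :
    (H.map (MulAut.conj g).toMonoidHom).map (MulAut.conj h).toMonoidHom =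
      H.map (MulAut.conj (h * g)).toMonoidHom := by
  rw [Subgroup.map_map]
  congr 1
  ext x
  simp [mul_assoc]

/-- Generation and coprime orders give a complement. -/
theorem compl_of_coprime {N H : Subgroup G} [N.Normal] (hsup : N ⊔ H = ⊤)
    (hc : (Nat.card N).Coprime (Nat.card H)) : Subgroup.IsComplement' N H :=
  Hall.isComplement'_of_normal (Hall.inf_eq_bot_of_coprime hc) hsup

/-- A complement of `N` restricts to a subgroup containing it. -/
theorem compl_restrict {N H X : Subgroup G} [N.Normal] (hH : Subgroup.IsComplement' N H) (hX : H ≤ X) :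
    Subgroup.IsComplement' (N.subgroupOf X) (H.subgroupOf X) := by
  refine Hall.isComplement'_of_normal ?_ ?_
  · ext ⟨x, hx⟩
    simp only [Subgroup.mem_inf, Subgroup.mem_subgroupOf, Subgroup.mem_bot]
    refine ⟨fun h => Subtype.ext (Subgroup.disjoint_def.1 hH.disjoint h.1 h.2), ?_⟩
    intro h
    rw [Subgroup.mk_eq_one] at h
    subst h
    exact ⟨one_mem _, one_mem _⟩
  · rw [eq_top_iff]
    rintro ⟨x, hx⟩ -
    have hxs : x ∈ N ⊔ H := by rw [hH.sup_eq_top]; trivial
    obtain ⟨n, hn, h, hh, rfl⟩ := Subgroup.mem_sup_of_normal_left.1 hxs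
    have hnX : n ∈ X := (mul_mem_cancel_right (hX hh)).1 hx
    exact Subgroup.mem_sup_of_normal_left.2
      ⟨⟨n, hnX⟩, Subgroup.mem_subgroupOf.2 hn, ⟨h, hX hh⟩, Subgroup.mem_subgroupOf.2 hh, rfl⟩

theorem conj_of_subgroupOf {H K X : Subgroup G} (hH : H ≤ X) (hK : K ≤ X) (g : ↥X)
    (h : (H.subgroupOf X).map (MulAut.conj g).toMonoidHom = K.subgroupOf X) :
    H.map (MulAut.conj (g : G)).toMonoidHom = K := by
  have h' := congrArg (Subgroup.map X.subtype) h
  rw [Subgroup.map_subgroupOf_eq_of_le hK, Subgroup.map_map] at h'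
  rw [← h']
  conv_lhs => rw [← Subgroup.map_subgroupOf_eq_of_le hH]
  rw [Subgroup.map_map]
  rfl

theorem sup_normal {N H L : Subgroup G} [N.Normal] (hsup : N ⊔ H = ⊤)
    (hL : H ≤ Subgroup.normalizer (L : Set G)) : (N ⊔ L).Normal := by
  have hN : N ≤ Subgroup.normalizer ((N ⊔ L : Subgroup G) : Set G) := le_sup_left.trans Subgroup.le_normalizer
  have hH : H ≤ Subgroup.normalizer ((N ⊔ L : Subgroup G) : Set G) := by
    rw [Subgroup.le_set_normalizer_iff]
    intro h hh x hx
    obtain ⟨a, ha, b, hb, rfl⟩ := Subgroup.mem_sup_of_normal_left.1 hx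
    refine Subgroup.mem_sup_of_normal_left.2 ⟨h * a * h⁻¹, Subgroup.Normal.conj_mem inferInstance _ ha _,
      h * b * h⁻¹, (Subgroup.le_set_normalizer_iff.1 hL h hh b hb), ?_⟩
    group
  rw [← Subgroup.normalizer_eq_top_iff, eq_top_iff, ← hsup]
  exact sup_le hN hH

/-- A solvable nontrivial normal subgroup contains a nontrivial abelian normal subgroup. -/
theorem exists_abelian_le [Finite G] {M : Subgroup G} [M.Normal] [Group.IsSolvable ↥M] (hM : M ≠ ⊥) :
    ∃ A : Subgroup G, A.Normal ∧ A ≠ ⊥ ∧ A ≤ M ∧ IsMulCommutative A := by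
  suffices key : ∀ M : Subgroup G, M.Normal → Group.IsSolvable ↥M → M ≠ ⊥ →
      ∃ A : Subgroup G, A.Normal ∧ A ≠ ⊥ ∧ A ≤ M ∧ IsMulCommutative A from key M ‹_› ‹_› hM
  clear hM
  intro M
  induction M using WellFoundedLT.induction with
  | ind M ih =>
    intro hMn hMs hM
    by_cases hc : ⁅M, M⁆ = ⊥
    · refine ⟨M, hMn, hM, le_rfl, ⟨⟨fun a b => Subtype.ext ?_⟩⟩⟩
      have hle := (Subgroup.commutator_eq_bot_iff_le_centralizer).1 hc
      exact (Subgroup.mem_centralizer_iff.1 (hle a.2) b b.2).symm
    · haveI : (⁅M, M⁆ : Subgroup G).Normal := Subgroup.commutator_normal M M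
      have hlt : ⁅M, M⁆ < M := by
        haveI : Nontrivial ↥M := (Subgroup.nontrivial_iff_ne_bot M).2 hM
        refine lt_of_le_of_ne (Subgroup.commutator_le_right M M) fun he => ?_
        have h1 := Group.IsSolvable.commutator_lt_top_of_nontrivial (G := ↥M)
        apply h1.ne
        apply Subgroup.map_injective M.subtype_injective
        rw [Subgroup.map_subtype_commutator, he, ← MonoidHom.range_eq_map, Subgroup.range_subtype]
      haveI : Group.IsSolvable ↥(⁅M, M⁆) :=
        Group.isSolvable_of_isSolvable_injective (Subgroup.inclusion_injective hlt.le)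
      obtain ⟨A, h1, h2, h3, h4⟩ := ih _ hlt inferInstance inferInstance hc
      exact ⟨A, h1, h2, h3.trans hlt.le, h4⟩

/-- Conjugacy in a quotient lifts to containment. -/
theorem le_of_map_mk [Finite G] {A H K : Subgroup G} [A.Normal] (g : G)
    (h : (H.map (QuotientGroup.mk' A)).map (MulAut.conj (QuotientGroup.mk' A g)).toMonoidHom =
      K.map (QuotientGroup.mk' A)) :
    A ⊔ H.map (MulAut.conj g).toMonoidHom = A ⊔ K := by
  have h' : (H.map (MulAut.conj g).toMonoidHom).map (QuotientGroup.mk' A) = K.map (QuotientGroup.mk' A) := by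
    rw [← h, Subgroup.map_map, Subgroup.map_map]
    congr 1
  have := congrArg (Subgroup.comap (QuotientGroup.mk' A)) h'
  rwa [Subgroup.comap_map_eq, Subgroup.comap_map_eq, QuotientGroup.ker_mk', sup_comm, sup_comm K] at this

/-- The image of a coprime complement is a coprime complement. -/
theorem compl_map [Finite G] {N H A : Subgroup G} [N.Normal] [A.Normal] (hH : Subgroup.IsComplement' N H)
    (hc : (Nat.card N).Coprime N.index) :
    Subgroup.IsComplement' (N.map (QuotientGroup.mk' A)) (H.map (QuotientGroup.mk' A)) ∧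
      (Nat.card (N.map (QuotientGroup.mk' A))).Coprime (N.map (QuotientGroup.mk' A)).index := by
  have hs : Function.Surjective (QuotientGroup.mk' A) := QuotientGroup.mk'_surjective A
  haveI : (N.map (QuotientGroup.mk' A)).Normal := Subgroup.Normal.map inferInstance _ hs
  have hc' : (Nat.card N).Coprime (Nat.card H) := by rwa [← hH.symm.index_eq_card]
  refine ⟨compl_of_coprime ?_ ?_, ?_⟩
  · rw [← Subgroup.map_sup, hH.sup_eq_top, Subgroup.map_top_of_surjective _ hs]
  · exact (hc'.coprime_dvd_left (Subgroup.card_map_dvd N _)).coprime_dvd_right (Subgroup.card_map_dvd H _)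
  · exact (hc.coprime_dvd_left (Subgroup.card_map_dvd N _)).coprime_dvd_right (Subgroup.index_map_dvd N hs)

theorem exists_conj_aux (hFT : Basic.OddOrderSolvable.{u}) : ∀ (n : ℕ) (G : Type u) [Group G] [Finite G],
    Nat.card G = n → ∀ N H K : Subgroup G, N.Normal → (Nat.card N).Coprime N.index →
      Subgroup.IsComplement' N H → Subgroup.IsComplement' N K →
      ∃ g : G, H.map (MulAut.conj g).toMonoidHom = K := by
  intro n
  induction n using Nat.strong_induction_on with
  | _ n ih =>
  intro G _ _ hn N H K hN hcop hH hK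
  by_cases hNb : N = ⊥
  · subst hNb
    rw [Subgroup.isComplement'_bot_left] at hH hK
    exact ⟨1, by rw [hH, hK, Subgroup.map_top_of_surjective _ (MulAut.conj (1 : G)).surjective]⟩
  by_cases hHb : H = ⊥
  · refine ⟨1, ?_⟩
    subst hHb
    rw [Subgroup.isComplement'_bot_right] at hH
    subst hH
    rw [Subgroup.isComplement'_top_left] at hK
    rw [hK, Subgroup.map_bot]
  have hcop' : (Nat.card N).Coprime (Nat.card H) := by rwa [← hH.symm.index_eq_card]
  by_cases hodd : Odd (Nat.card N)
  · haveI := hFT ↥N hodd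
    obtain ⟨A, hA, hAne, hAN, hAab⟩ := exists_abelian_le (M := N) hNb
    obtain ⟨hH', hc'⟩ := compl_map (A := A) hH hcop
    obtain ⟨hK', -⟩ := compl_map (A := A) hK hcop
    obtain ⟨gb, hgb⟩ := ih _ (hn ▸ Hall.card_quotient_lt hAne) (G ⧸ A) rfl _ _ _
      (Subgroup.Normal.map hN _ (QuotientGroup.mk'_surjective A)) hc' hH' hK'
    obtain ⟨g, rfl⟩ := QuotientGroup.mk'_surjective A gb
    have hAK := le_of_map_mk g hgb
    set H₁ := H.map (MulAut.conj g).toMonoidHom with hH1
    set X := A ⊔ K with hX
    have hH1X : H₁ ≤ X := hAK ▸ le_sup_right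
    have hcard1 : Nat.card H₁ = Nat.card H := Subgroup.card_map_of_injective (MulAut.conj g).injective
    have hcardK : Nat.card K = Nat.card H := by rw [← hK.symm.index_eq_card, ← hH.symm.index_eq_card]
    haveI : IsMulCommutative (A.subgroupOf X) := ⟨⟨fun a b => Subtype.ext (Subtype.ext
      ((congrArg Subtype.val (hAab.1.1 ⟨((a : ↥X) : G), a.2⟩ ⟨((b : ↥X) : G), b.2⟩)) :))⟩⟩
    have hcA : ∀ L : Subgroup G, L ≤ X → A ⊔ L = X → Nat.card L = Nat.card H →
        Subgroup.IsComplement' (A.subgroupOf X) (L.subgroupOf X) := by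
      intro L hL hsup hcard
      refine compl_of_coprime ?_ ?_
      · rw [← Subgroup.subgroupOf_sup le_sup_left hL, hsup, Subgroup.subgroupOf_self]
      · rw [Nat.card_congr (Subgroup.subgroupOfEquivOfLe (le_sup_left : A ≤ X)).toEquiv,
          Nat.card_congr (Subgroup.subgroupOfEquivOfLe hL).toEquiv, hcard]
        exact hcop'.coprime_dvd_left (Subgroup.card_dvd_of_le hAN)
    have hK1 := hcA K le_sup_right rfl hcardK
    have hAX : (Nat.card (A.subgroupOf X)).Coprime (A.subgroupOf X).index := by
      rw [hK1.symm.index_eq_card, Nat.card_congr (Subgroup.subgroupOfEquivOfLe (le_sup_left : A ≤ X)).toEquiv,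
        Nat.card_congr (Subgroup.subgroupOfEquivOfLe (le_sup_right : K ≤ X)).toEquiv, hcardK]
      exact hcop'.coprime_dvd_left (Subgroup.card_dvd_of_le hAN)
    obtain ⟨a, -, ha⟩ := Hall.exists_conj_of_abelian (A.subgroupOf X) hAX _ _ (hcA H₁ hH1X hAK hcard1) hK1
    exact ⟨(a : G) * g, by
      rw [← map_conj_map_conj]; exact conj_of_subgroupOf hH1X le_sup_right a ha⟩
  · have hHodd : Odd (Nat.card H) := by
      rw [Nat.not_odd_iff_even] at hodd
      exact (Nat.coprime_two_left.1 (hcop'.coprime_dvd_left hodd.two_dvd))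
    haveI := hFT ↥H hHodd
    haveI : Nontrivial ↥H := (Subgroup.nontrivial_iff_ne_bot H).2 hHb
    obtain ⟨p, L₀, hp, hL0n, hL0ne, -, hL0p⟩ := Hall.exists_normal_abelian_pgroup (G := ↥H)
    haveI : Fact p.Prime := ⟨hp⟩
    set L := L₀.map H.subtype with hL
    have hLH : L ≤ H := Subgroup.map_subtype_le L₀
    have hLp : IsPGroup p L := hL0p.map _
    have hLne : L ≠ ⊥ := fun h => hL0ne ((Subgroup.map_eq_bot_iff_of_injective _ H.subtype_injective).1 h)
    have hHL : H ≤ Subgroup.normalizer (L : Set G) := by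
      haveI : (L.subgroupOf H).Normal := by
        rw [hL, Subgroup.subgroupOf, Subgroup.comap_map_eq_self_of_injective H.subtype_injective]
        exact hL0n
      exact Subgroup.le_normalizer_of_normal_subgroupOf hLH
    set M := N ⊔ L with hM
    set L' := K ⊓ M with hL'
    have hcMb : Subgroup.IsComplement' (N.subgroupOf M) (L.subgroupOf M) := by
      refine compl_of_coprime ?_ ?_
      · rw [← Subgroup.subgroupOf_sup le_sup_left le_sup_right]
        exact Subgroup.subgroupOf_self _
      · rw [Nat.card_congr (Subgroup.subgroupOfEquivOfLe (le_sup_left : N ≤ M)).toEquiv,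
          Nat.card_congr (Subgroup.subgroupOfEquivOfLe (le_sup_right : L ≤ M)).toEquiv]
        exact hcop'.coprime_dvd_right (Subgroup.card_dvd_of_le hLH)
    have hcML : Subgroup.IsComplement' (N.subgroupOf M) (L'.subgroupOf M) := by
      refine Hall.isComplement'_of_normal ?_ ?_
      · ext ⟨x, hx⟩
        simp only [Subgroup.mem_inf, Subgroup.mem_subgroupOf, Subgroup.mem_bot]
        refine ⟨fun h => Subtype.ext (Subgroup.disjoint_def.1 hK.disjoint h.1 h.2.1), ?_⟩
        intro h
        rw [Subgroup.mk_eq_one] at h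
        subst h
        exact ⟨one_mem _, one_mem _⟩
      · rw [eq_top_iff]
        rintro ⟨x, hx⟩ -
        have hxs : x ∈ N ⊔ K := by rw [hK.sup_eq_top]; trivial
        obtain ⟨a, ha, b, hb, rfl⟩ := Subgroup.mem_sup_of_normal_left.1 hxs
        have haM : a ∈ M := (le_sup_left : N ≤ M) ha
        have hbM : b ∈ M := (mul_mem_cancel_left haM).1 hx
        exact Subgroup.mem_sup_of_normal_left.2
          ⟨⟨a, haM⟩, Subgroup.mem_subgroupOf.2 ha, ⟨b, hbM⟩, Subgroup.mem_subgroupOf.2 ⟨hb, hbM⟩, rfl⟩
    have hLM : IsPGroup p (L.subgroupOf M) := hLp.comap_of_injective _ M.subtype_injective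
    have hcardLL : Nat.card (L'.subgroupOf M) = Nat.card (L.subgroupOf M) := by
      rw [← hcMb.symm.index_eq_card, ← hcML.symm.index_eq_card]
    have hndiv : ¬ p ∣ (L.subgroupOf M).index := by
      rw [hcMb.index_eq_card, Nat.card_congr (Subgroup.subgroupOfEquivOfLe (le_sup_left : N ≤ M)).toEquiv]
      intro hd
      obtain ⟨k, hk⟩ := IsPGroup.iff_card.1 hLp
      have hk0 : k ≠ 0 := by
        intro hk0
        rw [hk0, pow_zero] at hk
        exact hLne (Subgroup.eq_bot_of_card_eq L hk)
      have : p ∣ Nat.card H := (dvd_pow_self p hk0).trans (hk ▸ Subgroup.card_dvd_of_le hLH)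
      exact hp.not_dvd_one (hcop' ▸ Nat.dvd_gcd hd this)
    let P : Sylow p ↥M := hLM.toSylow hndiv
    have hL'p : IsPGroup p (L'.subgroupOf M) := by
      obtain ⟨k, hk⟩ := IsPGroup.iff_card.1 hLM
      exact IsPGroup.iff_card.2 ⟨k, hcardLL.trans hk⟩
    have hndiv' : ¬ p ∣ (L'.subgroupOf M).index := by
      rwa [hcML.index_eq_card, ← hcMb.index_eq_card]
    obtain ⟨m, hm⟩ := MulAction.exists_smul_eq (↥M) (hL'p.toSylow hndiv') P
    have hm' : L'.map (MulAut.conj (m : G)).toMonoidHom = L := by
      refine conj_of_subgroupOf inf_le_right le_sup_right m ?_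
      exact congrArg Sylow.toSubgroup hm
    set K₁ := K.map (MulAut.conj (m : G)).toMonoidHom with hK1def
    have hK1L : K₁ ≤ Subgroup.normalizer (L : Set G) := by
      rintro x ⟨k, hk, rfl⟩
      have hLK : L = K₁ ⊓ M := by
        rw [← hm', hL', Subgroup.map_inf _ _ _ (MulAut.conj (m : G)).injective]
        congr 1
        refine Subgroup.eq_of_le_of_card_ge ?_ (le_of_eq (Subgroup.card_map_of_injective
          (MulAut.conj (m : G)).injective).symm)
        rintro y ⟨z, hz, rfl⟩
        show (m : G) * z * (m : G)⁻¹ ∈ M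
        exact mul_mem (mul_mem m.2 hz) (inv_mem m.2)
      haveI : M.Normal := sup_normal hH.sup_eq_top hHL
      have hb : (MulAut.conj (m : G)).toMonoidHom k ∈ K₁ := ⟨k, hk, rfl⟩
      rw [Subgroup.mem_normalizer_iff]
      intro y
      rw [hLK]
      simp only [Subgroup.mem_inf]
      constructor
      · exact fun h => ⟨mul_mem (mul_mem hb h.1) (inv_mem hb), Subgroup.Normal.conj_mem inferInstance _ h.2 _⟩
      · intro h
        refine ⟨(mul_mem_cancel_left hb).1 ((mul_mem_cancel_right (inv_mem hb)).1 h.1), ?_⟩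
        have h3 := Subgroup.Normal.conj_mem inferInstance _ h.2
          ((MulAut.conj (m : G)).toMonoidHom k)⁻¹
        simpa [mul_assoc] using h3
    have hK1c : Subgroup.IsComplement' N K₁ := by
      refine compl_of_coprime ?_ ?_
      · have := congrArg (Subgroup.map (MulAut.conj (m : G)).toMonoidHom) hK.sup_eq_top
        rwa [Subgroup.map_sup, Subgroup.map_top_of_surjective _ (MulAut.conj (m : G)).surjective,
          show N.map (MulAut.conj (m : G)).toMonoidHom = N from Subgroup.Normal.map_conj_eq N _] at this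
      · rw [Subgroup.card_map_of_injective (MulAut.conj (m : G)).injective, ← hK.symm.index_eq_card]
        exact hcop
    suffices ∃ g : G, H.map (MulAut.conj g).toMonoidHom = K₁ by
      obtain ⟨g, hg⟩ := this
      refine ⟨(m : G)⁻¹ * g, ?_⟩
      rw [← map_conj_map_conj, hg, map_conj_map_conj, inv_mul_cancel]
      ext x; simp
    set X := Subgroup.normalizer (L : Set G) with hX
    by_cases hXtop : X = ⊤
    · haveI : L.Normal := Subgroup.normalizer_eq_top_iff.1 hXtop
      obtain ⟨hH', hc'⟩ := compl_map (A := L) hH hcop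
      obtain ⟨hK', -⟩ := compl_map (A := L) hK1c hcop
      obtain ⟨gb, hgb⟩ := ih _ (hn ▸ Hall.card_quotient_lt hLne) (G ⧸ L) rfl _ _ _
        (Subgroup.Normal.map hN _ (QuotientGroup.mk'_surjective L)) hc' hH' hK'
      obtain ⟨g, rfl⟩ := QuotientGroup.mk'_surjective L gb
      refine ⟨g, ?_⟩
      have h := le_of_map_mk g hgb
      have hL1 : L ≤ H.map (MulAut.conj g).toMonoidHom :=
        le_of_eq_of_le (Subgroup.Normal.map_conj_eq L g).symm (Subgroup.map_mono hLH)
      have hL2 : L ≤ K₁ := by
        calc L = L'.map (MulAut.conj (m : G)).toMonoidHom := hm'.symm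
          _ ≤ K₁ := Subgroup.map_mono inf_le_left
      rwa [sup_eq_right.2 hL1, sup_eq_right.2 hL2] at h
    · have hlt : Nat.card X < n := by
        rw [← hn]
        refine lt_of_le_of_ne (Subgroup.card_le_card_group X) fun he => hXtop ?_
        exact Subgroup.eq_top_of_card_eq X he
      have hc' : (Nat.card (N.subgroupOf X)).Coprime (N.subgroupOf X).index := by
        rw [(compl_restrict hH hHL).symm.index_eq_card,
          Nat.card_congr (Subgroup.subgroupOfEquivOfLe hHL).toEquiv]
        exact hcop'.coprime_dvd_left (Subgroup.card_comap_dvd_of_injective N X.subtype X.subtype_injective)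
      obtain ⟨g, hg⟩ := ih _ hlt ↥X rfl _ _ _ inferInstance hc'
        (compl_restrict hH hHL) (compl_restrict hK1c hK1L)
      exact ⟨g, conj_of_subgroupOf hHL hK1L g hg⟩

/-- Two complements of a normal Hall subgroup are conjugate. -/
theorem exists_conj (hFT : Basic.OddOrderSolvable.{u}) [Finite G] {N H K : Subgroup G} [N.Normal]
    (hcop : (Nat.card N).Coprime N.index)
    (hH : Subgroup.IsComplement' N H) (hK : Subgroup.IsComplement' N K) :
    ∃ g : G, H.map (MulAut.conj g).toMonoidHom = K :=
  exists_conj_aux hFT _ G rfl N H K inferInstance hcop hH hK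

end Cfsg.Agent.Lib.FTDeps.SchurConj
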