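import Cfsg.Agent.Lib.FTDeps.Basic
import Cfsg.Agent.S1160
import Cfsg.Agent.Lib.Cores.Basic
import Cfsg.Agent.Lib.OddOrder.CyclicSylow
import Cfsg.Agent.Lib.Fg6.TwoFrobenius

/-!
# Odd order groups transitive on the nonzero vectors

The Fitting subgroup is cyclic and semiregular; by the odd order theorem the quotient by it is abelian.
-/

set_option autoImplicit false
set_option linter.style.haveILetI false

namespace Cfsg.Agent.Lib.FTDeps.TransitiveOdd

open scoped commutatorElement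

universe u v

variable {D : Type u} {E : Type v} [Group D] [Finite D] [AddCommGroup E] [Finite E]
  [DistribMulAction D E] [FaithfulSMul D E]

/-- A normal `p`-subgroup is cyclic and semiregular. -/
theorem normal_pgroup (hodd : Odd (Nat.card D)) {q : ℕ} (hq : q.Prime) (hE : ∀ e : E, q • e = 0)
    (htrans : ∀ a b : E, a ≠ 0 → b ≠ 0 → ∃ d : D, d • a = b) {p : ℕ} [Fact p.Prime] (P : Subgroup D) [P.Normal]
    (hP : IsPGroup p P) (hP1 : P ≠ ⊥) : IsCyclic P ∧ ∀ g ∈ P, g ≠ 1 → ∀ a : E, g • a = a → a = 0 := by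
  haveI : FaithfulSMul ↥P E := ⟨fun h => Subtype.ext (eq_of_smul_eq_smul (α := E) h)⟩
  have hp2 : p ≠ 2 := by
    rintro rfl
    obtain ⟨k, hk⟩ := IsPGroup.iff_card.1 hP
    have hk0 : k ≠ 0 := fun h => hP1 (Subgroup.eq_bot_of_card_eq P (by rw [hk, h, pow_zero]))
    exact hodd.not_two_dvd_nat ((dvd_pow_self 2 hk0).trans (hk ▸ Subgroup.card_subgroup_dvd_card P))
  have hconst : ∀ a b : E, a ≠ 0 → b ≠ 0 →
      Nat.card (MulAction.stabilizer ↥P a) = Nat.card (MulAction.stabilizer ↥P b) := by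
    intro a b ha hb
    obtain ⟨d, rfl⟩ := htrans a b ha hb
    refine Nat.card_congr
      { toFun := fun g => ⟨⟨d * ((g : ↥P) : D) * d⁻¹, Subgroup.Normal.conj_mem inferInstance _ g.1.2 d⟩, ?_⟩
        invFun := fun g => ⟨⟨d⁻¹ * ((g : ↥P) : D) * d, by
          simpa using Subgroup.Normal.conj_mem inferInstance _ g.1.2 d⁻¹⟩, ?_⟩
        left_inv := fun g => Subtype.ext (Subtype.ext (by simp [mul_assoc]))
        right_inv := fun g => Subtype.ext (Subtype.ext (by simp [mul_assoc])) }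
    · rw [MulAction.mem_stabilizer_iff, Subgroup.smul_def]
      have hg : ((g : ↥P) : D) • a = a := g.2
      rw [mul_smul, mul_smul, inv_smul_smul, hg]
    · rw [MulAction.mem_stabilizer_iff, Subgroup.smul_def]
      have hg : ((g : ↥P) : D) • (d • a) = d • a := g.2
      rw [mul_smul, mul_smul, hg, inv_smul_smul]
  obtain ⟨h1, h2⟩ := S1160.result (P := ↥P) (E := E) hp2 hP hq hE hconst
  exact ⟨h1, fun g hg hg1 a ha => h2 ⟨g, hg⟩ (fun h => hg1 (congrArg Subtype.val h)) a ha⟩

theorem main (hFT : Basic.OddOrderSolvable.{u}) (hodd : Odd (Nat.card D)) {q : ℕ} (hq : q.Prime)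
    (hE : ∀ e : E, q • e = 0) (htrans : ∀ a b : E, a ≠ 0 → b ≠ 0 → ∃ d : D, d • a = b) :
    IsCyclic ↥(Cfsg.fittingSubgroup D) ∧
      (∀ g ∈ Cfsg.fittingSubgroup D, g ≠ 1 → ∀ a : E, g • a = a → a = 0) ∧
      commutator D ≤ Cfsg.fittingSubgroup D := by
  set F := Cfsg.fittingSubgroup D with hF
  haveI : F.Normal := Cores.fittingSubgroup_normal
  haveI : Group.IsNilpotent ↥F := Cores.fittingSubgroup_isNilpotent
  have hnorm : ∀ (p : ℕ) [Fact p.Prime] (Q : Sylow p ↥F), ((Q : Subgroup ↥F).map F.subtype).Normal := by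
    intro p _ Q
    haveI : (Q : Subgroup ↥F).Normal := Q.normal_of_normalizerCondition Group.normalizerCondition_of_isNilpotent
    haveI : (Q : Subgroup ↥F).Characteristic := Q.characteristic_of_normal inferInstance
    infer_instance
  have hcyc : IsCyclic ↥F := by
    refine OddOrder.CyclicSylow.isCyclic_of_sylow_cyclic fun p hp Q => ?_
    haveI : Fact p.Prime := ⟨hp⟩
    by_cases hQ : (Q : Subgroup ↥F) = ⊥
    · haveI : Subsingleton ↥(Q : Subgroup ↥F) := by rw [hQ]; infer_instance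
      exact isCyclic_of_subsingleton
    haveI := hnorm p Q
    have h := (normal_pgroup hodd hq hE htrans ((Q : Subgroup ↥F).map F.subtype) (Q.2.map _) (fun h => hQ
      ((Subgroup.map_eq_bot_iff_of_injective _ F.subtype_injective).1 h))).1
    exact (MulEquiv.isCyclic ((Q : Subgroup ↥F).equivMapOfInjective _ F.subtype_injective)).2 h
  refine ⟨hcyc, fun g hg hg1 a ha => ?_, ?_⟩
  · obtain ⟨p, hp, hdvd⟩ := Nat.exists_prime_and_dvd (mt orderOf_eq_one_iff.1 hg1)
    haveI : Fact p.Prime := ⟨hp⟩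
    set k := orderOf g / p with hk
    have hord : orderOf (g ^ k) = p := orderOf_pow_orderOf_div (orderOf_pos g).ne' hdvd
    have hfix : (g ^ k) • a = a := by
      have hmem : g ∈ MulAction.stabilizer D a := ha
      exact pow_mem hmem k
    have hpg : IsPGroup p (Subgroup.zpowers (⟨g ^ k, pow_mem hg k⟩ : ↥F)) :=
      IsPGroup.of_card (n := 1) (by rw [Nat.card_zpowers, Subgroup.orderOf_mk, hord, pow_one])
    obtain ⟨Q, hQ⟩ := hpg.exists_le_sylow
    haveI := hnorm p Q
    have hne : g ^ k ≠ 1 := fun h => by rw [h, orderOf_one] at hord; exact hp.ne_one hord.symm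
    have hmemQ : g ^ k ∈ (Q : Subgroup ↥F).map F.subtype :=
      ⟨⟨g ^ k, pow_mem hg k⟩, hQ (Subgroup.mem_zpowers _), rfl⟩
    refine (normal_pgroup hodd hq hE htrans ((Q : Subgroup ↥F).map F.subtype) (Q.2.map _) (fun h => hne ?_)).2
      _ hmemQ hne a hfix
    rwa [h, Subgroup.mem_bot] at hmemQ
  · haveI : Group.IsSolvable D := hFT D hodd
    rw [_root_.commutator_def, Subgroup.commutator_le]
    intro x _ y _
    refine Cores.centralizer_fittingSubgroup_le (Subgroup.mem_centralizer_iff.2 fun f hf => ?_)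
    have h := Fg6.TwoFrobenius.mulAut_comm (MulAut.conjNormal x : MulAut ↥F) (MulAut.conjNormal y)
    have h2 : (MulAut.conjNormal ⁅x, y⁆ : MulAut ↥F) = 1 := by
      rw [map_commutatorElement, commutatorElement_eq_one_iff_mul_comm]
      exact h
    have h3 := congrArg Subtype.val (DFunLike.congr_fun h2 ⟨f, hf⟩)
    rw [MulAut.conjNormal_apply] at h3
    exact (mul_inv_eq_iff_eq_mul.1 h3).symm

end Cfsg.Agent.Lib.FTDeps.TransitiveOdd
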